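import Cfsg.Agent.McLThree.StrongChars
import Mathlib.GroupTheory.Transfer

/-!
# A group with a strongly embedded subgroup `3^3:A4` equals it

`Cfg φ x` describes the subgroup `N = φ(M₀)⟨x⟩`, where `x` permutes the three coordinates.  The
transfer to a Sylow subgroup of `N` gives a homomorphism onto the group of order three whose kernel
meets `N` in the image of `φ`.
-/

set_option autoImplicit false

namespace Cfsg.Agent.McLThree.Strong

open Cfsg Cfsg.Agent Subgroup

universe u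

/-- The rotation of the coordinates. -/
def rot (m : M₀) : M₀ :=
  ⟨(m.1.2.2, m.1.1, m.1.2.1), by
    have h : par m.1.1 + par m.1.2.1 + par m.1.2.2 = 0 := m.2
    show par m.1.2.2 + par m.1.1 + par m.1.2.1 = 0
    linear_combination h⟩

theorem rot_mul (a b : M₀) : rot (a * b) = rot a * rot b := rfl

theorem rot_one : rot 1 = 1 := rfl

theorem rot_rot_rot (m : M₀) : rot (rot (rot m)) = m := rfl

theorem rot_inv (a : M₀) : rot a⁻¹ = (rot a)⁻¹ := rfl

theorem rot_tr : ∀ m : M₀, IsTr m → IsTr (rot m) := fun _ h => ⟨h.2.2, h.1, h.2.1⟩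

/-- The translation with all coordinates equal. -/
def diag : M₀ := rot (axis 0) * rot (rot (axis 0)) * axis 0

theorem diag_facts : IsTr diag ∧ diag ≠ 1 := by decide +kernel

theorem tr_gen : ∀ t : M₀, IsTr t → ∃ a b c : Fin 3,
    t = axis 0 ^ (a : ℕ) * axis 1 ^ (b : ℕ) * axis 2 ^ (c : ℕ) := by decide +kernel

theorem axis_comm : ∀ u : Fin 3, ∃ i : M₀, i * axis u * i⁻¹ * (axis u)⁻¹ = axis u := by
  decide +kernel

theorem sq_tr : ∀ m : M₀, IsTr (m * m) := by decide +kernel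

/-- A homomorphism to a commutative group of exponent three is trivial on the model. -/
theorem hom_model_trivial (f : M₀ →* Multiplicative (ZMod 3)) (m : M₀) : f m = 1 := by
  have h3 : ∀ a : Multiplicative (ZMod 3), a ^ 3 = 1 := by decide
  have hax : ∀ u, f (axis u) = 1 := fun u => by
    obtain ⟨i, hi⟩ := axis_comm u
    have := congrArg f hi
    simp only [map_mul, map_inv] at this
    rw [mul_comm (f i), mul_assoc (f (axis u)), mul_inv_cancel, mul_one, mul_inv_cancel] at this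
    exact this.symm
  have hsq : f m * f m = 1 := by
    obtain ⟨a, b, c, e⟩ := tr_gen _ (sq_tr m)
    rw [← map_mul, e]
    simp [hax]
  have := h3 (f m)
  rwa [pow_succ, sq, hsq, one_mul] at this

/-- Elements of `N`. -/
def InN {X : Type u} [Group X] (φ : M₀ →* X) (x g : X) : Prop :=
  ∃ (m : M₀) (i : ℕ), g = φ m * x ^ i

/-- The configuration. -/
structure Cfg {X : Type u} [Group X] (φ : M₀ →* X) (x : X) : Prop where
  inj : Function.Injective φ
  x_cube : x ^ 3 = 1
  x_not : x ∉ φ.range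
  rot_eq : ∀ m, x * φ m * x⁻¹ = φ (rot m)
  norm : ∀ g : X, (∀ m, IsTr m → ∃ m', IsTr m' ∧ g * φ m * g⁻¹ = φ m') → InN φ x g
  loc : ∀ m, IsTr m → m ≠ 1 → ∀ g : X, g * φ m = φ m * g → InN φ x g
  closed : ∀ m (g : X), IsTr m → InN φ x (g * φ m * g⁻¹) →
    ∃ m', IsTr m' ∧ g * φ m * g⁻¹ = φ m'

variable {X : Type u} [Group X] {φ : M₀ →* X} {x : X}

theorem Cfg.pow_mul_map (h : Cfg φ x) (i : ℕ) (m : M₀) :
    x ^ i * φ m = φ (rot^[i] m) * x ^ i := by
  induction i generalizing m with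
  | zero => simp
  | succ i ih =>
    rw [pow_succ, mul_assoc, show x * φ m = φ (rot m) * x by rw [← h.rot_eq m]; group,
      ← mul_assoc, ih, Function.iterate_succ_apply, mul_assoc, ← pow_succ]

/-- The subgroup `N`. -/
def Cfg.N (h : Cfg φ x) : Subgroup X where
  carrier := {g | InN φ x g}
  one_mem' := ⟨1, 0, by simp⟩
  mul_mem' := by
    rintro _ _ ⟨m, i, rfl⟩ ⟨m', j, rfl⟩
    refine ⟨m * rot^[i] m', i + j, ?_⟩
    rw [map_mul, pow_add, mul_assoc, ← mul_assoc (x ^ i), h.pow_mul_map]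
    simp only [mul_assoc]
  inv_mem' := by
    rintro _ ⟨m, i, rfl⟩
    refine ⟨rot^[2 * i] m⁻¹, 2 * i, ?_⟩
    rw [← h.pow_mul_map, map_inv, mul_inv_rev]
    congr 1
    refine inv_eq_of_mul_eq_one_right ?_
    rw [← pow_add, show i + 2 * i = 3 * i by ring, pow_mul, h.x_cube, one_pow]

theorem Cfg.range_le (h : Cfg φ x) : φ.range ≤ h.N := by
  rintro _ ⟨m, rfl⟩
  exact ⟨m, 0, by simp⟩

theorem Cfg.x_mem (h : Cfg φ x) : x ∈ h.N := ⟨1, 1, by simp⟩

theorem Cfg.exp_unique (h : Cfg φ x) {m m' : M₀} {i j : ℕ}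
    (e : φ m * x ^ i = φ m' * x ^ j) : (i : ZMod 3) = j := by
  wlog hij : j ≤ i generalizing m m' i j
  · exact (this e.symm (le_of_not_ge hij)).symm
  obtain ⟨k, rfl⟩ := Nat.exists_eq_add_of_le hij
  rw [add_comm j k, pow_add, ← mul_assoc] at e
  have hk : x ^ k ∈ φ.range := ⟨m⁻¹ * m', by
    rw [map_mul, map_inv, ← mul_right_cancel e]
    group⟩
  have hx3 : x ^ (3 * (k / 3)) = 1 := by rw [pow_mul, h.x_cube, one_pow]
  rw [← Nat.div_add_mod k 3, pow_add, hx3, one_mul] at hk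
  rcases (show k % 3 = 0 ∨ k % 3 = 1 ∨ k % 3 = 2 by omega) with e' | e' | e' <;> rw [e'] at hk
  · have : (k : ZMod 3) = 0 := by rw [← ZMod.natCast_mod, e', Nat.cast_zero]
    rw [Nat.cast_add, this, add_zero]
  · exact absurd (pow_one x ▸ hk) h.x_not
  · have : x ^ 2 * x ^ 2 = x := by
      rw [← pow_add, show 2 + 2 = 3 + 1 from rfl, pow_succ, h.x_cube, one_mul]
    exact absurd (this ▸ mul_mem hk hk) h.x_not

/-- The exponent of `x`. -/
noncomputable def Cfg.expo (h : Cfg φ x) : h.N →* Multiplicative (ZMod 3) where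
  toFun g := Multiplicative.ofAdd ((g.2.choose_spec.choose : ℕ) : ZMod 3)
  map_one' := by
    have e := (1 : h.N).2.choose_spec.choose_spec
    rw [h.exp_unique (m' := 1) (j := 0) (e.symm.trans (by simp))]
    simp
  map_mul' a b := by
    obtain ⟨ea, eb, eab⟩ := And.intro a.2.choose_spec.choose_spec
      (And.intro b.2.choose_spec.choose_spec (a * b).2.choose_spec.choose_spec)
    rw [← ofAdd_add, ← Nat.cast_add]
    congr 1
    refine h.exp_unique (m := (a * b).2.choose)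
      (m' := a.2.choose * rot^[a.2.choose_spec.choose] b.2.choose) ?_
    rw [← eab, map_mul, pow_add, mul_assoc, ← mul_assoc (φ (rot^[a.2.choose_spec.choose] b.2.choose)),
      ← h.pow_mul_map, mul_assoc, ← eb, ← mul_assoc, ← ea]
    rfl

theorem Cfg.expo_apply (h : Cfg φ x) (g : h.N) {m : M₀} {i : ℕ} (e : (g : X) = φ m * x ^ i) :
    h.expo g = Multiplicative.ofAdd (i : ZMod 3) := by
  show Multiplicative.ofAdd _ = _
  rw [h.exp_unique (g.2.choose_spec.choose_spec.symm.trans e)]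

theorem Cfg.fus (h : Cfg φ x) {g : X} {m : M₀} (ht : IsTr m) (h1 : m ≠ 1)
    (hg : InN φ x (g * φ m * g⁻¹)) : g ∈ h.N := by
  obtain ⟨m', ht', e⟩ := h.closed m g ht hg
  have h1' : m' ≠ 1 := fun e' => h1 (h.inj (by
    rw [map_one]
    rw [e', map_one] at e
    exact conj_eq_one_iff.1 e))
  refine h.norm g fun u hu => h.closed u g hu (h.loc m' ht' h1' _ ?_)
  rw [← e, ← MulAut.conj_apply, ← MulAut.conj_apply, ← map_mul, ← map_mul, ← map_mul, ← map_mul,
    tr_commute hu ht]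

/-- The Sylow subgroup of `N`. -/
def Cfg.P (h : Cfg φ x) : Subgroup X where
  carrier := {g | ∃ (m : M₀) (i : ℕ), IsTr m ∧ g = φ m * x ^ i}
  one_mem' := ⟨1, 0, isTr_one, by simp⟩
  mul_mem' := by
    rintro _ _ ⟨m, i, hm, rfl⟩ ⟨m', j, hm', rfl⟩
    refine ⟨m * rot^[i] m', i + j, tr_mul _ _ hm ?_, ?_⟩
    · clear hm
      induction i generalizing m' with
      | zero => simpa
      | succ i ih =>
        rw [Function.iterate_succ_apply]
        exact ih (rot m') (rot_tr _ hm')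
    rw [map_mul, pow_add, mul_assoc, ← mul_assoc (x ^ i), h.pow_mul_map]
    simp only [mul_assoc]
  inv_mem' := by
    rintro _ ⟨m, i, hm, rfl⟩
    refine ⟨rot^[2 * i] m⁻¹, 2 * i, ?_, ?_⟩
    · generalize 2 * i = j
      have := tr_inv _ hm
      revert this
      generalize m⁻¹ = n
      induction j generalizing n with
      | zero => simp
      | succ j ih =>
        intro hn
        rw [Function.iterate_succ_apply]
        exact ih _ (rot_tr _ hn)
    rw [← h.pow_mul_map, map_inv, mul_inv_rev]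
    congr 1
    refine inv_eq_of_mul_eq_one_right ?_
    rw [← pow_add, show i + 2 * i = 3 * i by ring, pow_mul, h.x_cube, one_pow]

theorem Cfg.P_le (h : Cfg φ x) : h.P ≤ h.N := fun _ ⟨m, i, _, e⟩ => ⟨m, i, e⟩

theorem Cfg.tr_mem (h : Cfg φ x) {m : M₀} (hm : IsTr m) : φ m ∈ h.P := ⟨m, 0, hm, by simp⟩

theorem Cfg.card_P (h : Cfg φ x) : Nat.card h.P = 81 := by
  classical
  let f : {m : M₀ // IsTr m} × Fin 3 → h.P := fun p =>
    ⟨φ p.1.1 * x ^ (p.2 : ℕ), p.1.1, p.2, p.1.2, rfl⟩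
  rw [← Nat.card_congr (Equiv.ofBijective f ⟨fun p q e => ?_, fun g => ?_⟩), Nat.card_prod,
    Nat.card_eq_fintype_card, Nat.card_eq_fintype_card, Fintype.card_subtype, card_tr, Fintype.card_fin]
  · have e' := congrArg Subtype.val e
    have hi : p.2 = q.2 := by
      have := h.exp_unique e'
      rw [ZMod.natCast_eq_natCast_iff', Nat.mod_eq_of_lt p.2.2, Nat.mod_eq_of_lt q.2.2] at this
      exact Fin.ext this
    refine Prod.ext (Subtype.ext (h.inj (mul_right_cancel (b := x ^ (q.2 : ℕ)) ?_))) hi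
    have e'' : φ p.1.1 * x ^ (p.2 : ℕ) = φ q.1.1 * x ^ (q.2 : ℕ) := e'
    rwa [hi] at e''
  · obtain ⟨m, i, hm, e⟩ := g.2
    refine ⟨(⟨m, hm⟩, ⟨i % 3, Nat.mod_lt _ (by norm_num)⟩), Subtype.ext ?_⟩
    show φ m * x ^ (i % 3) = g
    rw [e, ← pow_eq_pow_mod i h.x_cube]

theorem rot_moves : ∀ m : M₀, IsTr (m * (rot m)⁻¹) → IsTr m := by decide +kernel

theorem Cfg.normalizer_P (h : Cfg φ x) : normalizer (h.P : Set X) = h.P := by
  refine le_antisymm (fun g hg => ?_) le_normalizer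
  obtain ⟨m, i, rfl⟩ : g ∈ h.N := h.norm g fun m hm =>
    h.closed m g hm (h.P_le ((mem_normalizer_iff.1 hg _).1 (h.tr_mem hm)))
  have hx : x ∈ h.P := ⟨1, 1, isTr_one, by simp⟩
  obtain ⟨t, j, ht, e⟩ : φ m * x * (φ m)⁻¹ ∈ h.P := by
    have := (mem_normalizer_iff.1 hg x).1 hx
    rwa [show φ m * x ^ i * x * (φ m * x ^ i)⁻¹ = φ m * (x ^ i * x * (x ^ i)⁻¹) * (φ m)⁻¹ by group,
      ← pow_succ, pow_succ', mul_inv_cancel_right] at this
  refine ⟨m, i, rot_moves m ?_, rfl⟩
  have he : φ (m * (rot m)⁻¹) * x ^ 1 = φ t * x ^ j := by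
    rw [← e, pow_one, ← rot_inv, map_mul, ← h.rot_eq, map_inv]
    group
  have hj : x ^ 1 = x ^ j := by
    have := h.exp_unique he
    rw [ZMod.natCast_eq_natCast_iff'] at this
    rw [pow_eq_pow_mod j h.x_cube, ← this]
  rw [hj] at he
  exact h.inj (mul_right_cancel he) ▸ ht

variable [Finite X]

theorem Cfg.exists_transfer (h : Cfg φ x) :
    ∃ τ : X →* Multiplicative (ZMod 3), τ x ≠ 1 := by
  classical
  haveI : Fact (Nat.Prime 3) := ⟨Nat.prime_three⟩
  set χ : h.P →* Multiplicative (ZMod 3) := h.expo.comp (Subgroup.inclusion h.P_le) with hχ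
  refine ⟨MonoidHom.transfer χ, fun hx1 => ?_⟩
  have h3 : ¬ 3 ∣ h.P.index := fun hd => by
    have hdiv : 3 ^ (4 + 1) ∣ Nat.card X := by
      rw [← h.P.card_mul_index, h.card_P, show 3 ^ (4 + 1) = 81 * 3 from rfl]
      exact Nat.mul_dvd_mul_left 81 hd
    have hq := Sylow.prime_dvd_card_quotient_normalizer (p := 3) (n := 4) hdiv (H := h.P)
      (by rw [h.card_P]; norm_num)
    rw [h.normalizer_P] at hq
    have h1 : Nat.card (h.P ⧸ h.P.comap h.P.subtype) = 1 := by
      rw [show h.P.comap h.P.subtype = ⊤ from eq_top_iff.2 fun y _ => y.2]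
      exact Subgroup.index_top
    omega
  set y := φ (axis 0) * x with hy
  obtain ⟨a0, -, -, -, -⟩ := axis_facts 0
  have hy3 : y ^ 3 = φ diag := by
    rw [pow_succ, sq, hy, diag, map_mul, map_mul, ← h.rot_eq (rot (axis 0)), ← h.rot_eq (axis 0)]
    have e3 : x * (x * x) = 1 := by rw [← mul_assoc, ← sq, ← pow_succ, h.x_cube]
    have ec : φ (axis 0) * (x * φ (axis 0) * x⁻¹) =
        (x * φ (axis 0) * x⁻¹) * φ (axis 0) := by
      rw [h.rot_eq, ← map_mul, ← map_mul, tr_commute a0 (rot_tr _ a0)]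
    have ec2 : φ (axis 0) * (x * (x * φ (axis 0) * x⁻¹) * x⁻¹) =
        (x * (x * φ (axis 0) * x⁻¹) * x⁻¹) * φ (axis 0) := by
      rw [h.rot_eq, h.rot_eq, ← map_mul, ← map_mul, tr_commute a0 (rot_tr _ (rot_tr _ a0))]
    have ec3 : (x * φ (axis 0) * x⁻¹) * (x * (x * φ (axis 0) * x⁻¹) * x⁻¹) * φ (axis 0) =
        φ (axis 0) * (x * φ (axis 0) * x⁻¹) * (x * (x * φ (axis 0) * x⁻¹) * x⁻¹) := by
      rw [ec, mul_assoc (x * φ (axis 0) * x⁻¹) (φ (axis 0)), ec2]
      simp only [mul_assoc]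
    rw [ec3]
    calc φ (axis 0) * x * (φ (axis 0) * x) * (φ (axis 0) * x)
        = φ (axis 0) * (x * φ (axis 0) * x⁻¹) * (x * (x * φ (axis 0) * x⁻¹) * x⁻¹) *
            (x * (x * x)) := by group
      _ = _ := by rw [e3, mul_one]
  have hy9 : y ^ 9 = 1 := by
    rw [show (9 : ℕ) = 3 * 3 from rfl, pow_mul, hy3, ← map_pow, tr_cube _ diag_facts.1, map_one]
  have hτ : MonoidHom.transfer χ y = MonoidHom.transfer χ (φ (axis 0)) * MonoidHom.transfer χ x :=
    map_mul _ _ _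
  rw [hx1, mul_one, show MonoidHom.transfer χ (φ (axis 0)) = ((MonoidHom.transfer χ).comp φ) (axis 0)
    from rfl, hom_model_trivial] at hτ
  letI : Fintype (Quotient (MulAction.orbitRel (zpowers y) (X ⧸ h.P))) := Fintype.ofFinite _
  rw [MonoidHom.transfer_eq_prod_quotient_orbitRel_zpowers_quot] at hτ
  set p : Quotient (MulAction.orbitRel (zpowers y) (X ⧸ h.P)) → ℕ :=
    fun q => Function.minimalPeriod (y • ·) q.out with hp
  have hterm : ∀ q : Quotient (MulAction.orbitRel (zpowers y) (X ⧸ h.P)),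
      χ ⟨q.out.out⁻¹ * y ^ p q * q.out.out,
        QuotientGroup.out_conj_pow_minimalPeriod_mem h.P y q.out⟩ =
      Multiplicative.ofAdd (p q : ZMod 3) := by
    intro q
    have hd : p q ∣ 9 := Function.IsPeriodicPt.minimalPeriod_dvd (by
      show (y • ·)^[9] q.out = q.out
      rw [smul_iterate_apply, hy9, one_smul])
    have hmem := QuotientGroup.out_conj_pow_minimalPeriod_mem h.P y q.out
    obtain ⟨k, hk, hpk⟩ := (Nat.dvd_prime_pow Nat.prime_three (m := 2)).1 (by simpa using hd)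
    obtain ⟨w, i, hw, e⟩ : q.out.out⁻¹ * y ^ p q * q.out.out ∈ h.P := hmem
    refine (h.expo_apply _ (m := w) (i := i) e).trans (congrArg Multiplicative.ofAdd ?_)
    rw [hpk] at e ⊢
    rcases (show k = 0 ∨ k = 1 ∨ k = 2 by omega) with rfl | rfl | rfl
    · rw [pow_zero, pow_one] at e
      rw [pow_zero, Nat.cast_one]
      have hcube : InN φ x (q.out.out⁻¹ * φ diag * q.out.out⁻¹⁻¹) := by
        have : (q.out.out⁻¹ * y * q.out.out) ^ 3 ∈ h.N :=
          pow_mem (h.P_le (show q.out.out⁻¹ * y * q.out.out ∈ h.P from ⟨w, i, hw, e⟩)) 3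
        have e2 : (q.out.out⁻¹ * y * q.out.out) ^ 3 = q.out.out⁻¹ * φ diag * q.out.out⁻¹⁻¹ := by
          rw [← hy3, inv_inv]
          have := conj_pow (i := 3) (a := q.out.out⁻¹) (b := y)
          rwa [inv_inv] at this
        rw [← e2]
        exact this
      set c : h.N := ⟨q.out.out⁻¹, h.fus diag_facts.1 diag_facts.2 hcube⟩
      set yN : h.N := ⟨y, mul_mem (h.range_le ⟨_, rfl⟩) h.x_mem⟩
      have h1 : h.expo (c * yN * c⁻¹) = Multiplicative.ofAdd ((1 : ℕ) : ZMod 3) := by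
        rw [map_mul, map_mul, map_inv, mul_inv_cancel_comm]
        exact h.expo_apply yN (m := axis 0) (i := 1) (by rw [pow_one])
      rw [h.expo_apply (c * yN * c⁻¹) (m := w) (i := i) (by
        simp only [Subgroup.coe_mul, Subgroup.coe_inv, c, yN, inv_inv]; exact e)] at h1
      simpa using h1
    · rw [pow_one, hy3] at e
      obtain ⟨t, ht, et⟩ := h.closed diag q.out.out⁻¹ diag_facts.1 ⟨w, i, by rw [inv_inv]; exact e⟩
      rw [inv_inv, e] at et
      rw [h.exp_unique (j := 0) (et.trans (by rw [pow_zero, mul_one])), pow_one]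
      rfl
    · rw [show (3 : ℕ) ^ 2 = 9 from rfl, hy9, mul_one, inv_mul_cancel] at e
      rw [h.exp_unique (j := 0) (e.symm.trans (by rw [pow_zero, mul_one, map_one] : (1 : X) = φ 1 * x ^ 0))]
      rfl
  rw [Finset.prod_congr rfl fun q _ => hterm q, ← ofAdd_sum, ofAdd_eq_one, ← Nat.cast_sum,
    ZMod.natCast_eq_zero_iff] at hτ
  refine h3 ?_
  rwa [Subgroup.index, Nat.card_congr (Subgroup.quotientEquivSigmaZMod h.P y), Nat.card_sigma,
    Finset.sum_congr rfl fun q _ => Nat.card_zmod _]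

/-- The configuration fills the whole group. -/
theorem Cfg.N_eq_top (h : Cfg φ x) : h.N = ⊤ := by
  obtain ⟨τ, hτ⟩ := h.exists_transfer
  have hφ : ∀ m, φ m ∈ τ.ker := fun m => hom_model_trivial (τ.comp φ) m
  set φ₀ : M₀ →* τ.ker := φ.codRestrict τ.ker hφ
  have hc : Cfg₀ φ₀ := by
    refine ⟨fun a b e => h.inj (congrArg Subtype.val e), fun g m m' ht h1 e => ?_⟩
    have e' : (g : X) * φ m * (g : X)⁻¹ = φ m' := congrArg Subtype.val e
    obtain ⟨k, i, hg⟩ : (g : X) ∈ h.N := h.fus ht h1 (e' ▸ h.range_le ⟨m', rfl⟩)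
    have hi : τ x ^ i = 1 := by
      have hgk := g.2
      rw [hg, MonoidHom.mem_ker, map_mul, MonoidHom.mem_ker.1 (hφ k), one_mul, map_pow] at hgk
      exact hgk
    have hord : orderOf (τ x) = 3 := orderOf_eq_prime (by
      generalize τ x = a
      revert a; decide) hτ
    have h3i : 3 ∣ i := hord ▸ orderOf_dvd_of_pow_eq_one hi
    obtain ⟨j, rfl⟩ := h3i
    exact ⟨k, Subtype.ext (by rw [hg, pow_mul, h.x_cube, one_pow, mul_one]; rfl)⟩
  have htop := hc.range_eq_top
  refine eq_top_iff.2 fun g _ => ?_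
  have hcase : ∀ a b : Multiplicative (ZMod 3), b ≠ 1 → ∃ i : Fin 3, a = b ^ (i : ℕ) := by decide
  obtain ⟨i, hi⟩ := hcase (τ g) (τ x) hτ
  have hker : g * (x ^ (i : ℕ))⁻¹ ∈ τ.ker := by
    rw [MonoidHom.mem_ker, map_mul, map_inv, map_pow, hi, mul_inv_cancel]
  obtain ⟨m, hm⟩ : (⟨_, hker⟩ : τ.ker) ∈ φ₀.range := htop ▸ mem_top _
  exact ⟨m, i, by rw [show φ m = g * (x ^ (i : ℕ))⁻¹ from congrArg Subtype.val hm, inv_mul_cancel_right]⟩

/-- The translations form a normal subgroup. -/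
theorem Cfg.conj_translation (h : Cfg φ x) (g : X) {m : M₀} (hm : IsTr m) :
    ∃ m', IsTr m' ∧ g * φ m * g⁻¹ = φ m' := by
  have hg : g * φ m * g⁻¹ ∈ h.N := h.N_eq_top ▸ mem_top _
  exact h.closed m g hm hg

end Cfsg.Agent.McLThree.Strong
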