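import Cfsg.Agent.McLThree.StrongQuot
import Cfsg.Agent.McLThree.StrongFour

/-!
# The case in which `N(J) ⊓ C(y)` acts by even monomial maps
-/

set_option autoImplicit false
set_option linter.unusedSectionVars false

namespace Cfsg.Agent.McLThree.Strong

open Subgroup
open Cfsg.Agent.McLLoc

/-- The translation part of a coordinate. -/
def tc : D → ZMod 3
  | .r a => a
  | .sr a => -a

/-- The translation part. -/
def tr (m : M₀) : Vec := fun u => tc (get m u)

/-- The parities. -/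
def pr (m : M₀) : ZMod 2 × ZMod 2 := (par m.1.1, par m.1.2.1)

/-- The name of a pattern of parities. -/
def idx (p : ZMod 2 × ZMod 2) : Fin 4 :=
  if p = (0, 0) then 0 else if p = (0, 1) then 1 else if p = (1, 0) then 2 else 3

/-- The rotation of patterns. -/
def rotP (p : ZMod 2 × ZMod 2) : ZMod 2 × ZMod 2 := (p.1 + p.2, p.1)

theorem tr_mul' : ∀ m m' : M₀, tr (m * m') = tr m + stAct (idx (pr m)) 0 (tr m') := by decide +kernel

theorem pr_mul : ∀ m m' : M₀, pr (m * m') = pr m + pr m' := by decide +kernel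

theorem model_one : ∀ m : M₀, tr m = 0 → pr m = 0 → m = 1 := by decide +kernel

theorem model_surj : ∀ i : Vec, ∀ p, ∃ m : M₀, tr m = i ∧ pr m = p := by decide +kernel

theorem pr_of_isTr : ∀ m : M₀, IsTr m → pr m = 0 := by decide +kernel

theorem isTr_of_pr : ∀ m : M₀, pr m = 0 → IsTr m := by decide +kernel

theorem tr_rot : ∀ m : M₀, tr (rot m) = rotV (tr m) ∧ pr (rot m) = rotP (pr m) := by decide +kernel

theorem idx_faithful : ∀ p, (∀ i, stAct (idx p) 0 i = i) → p = 0 := by decide +kernel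

theorem idx_surj : ∀ a : Fin 4, ∃ p, idx p = a := by decide +kernel

theorem idx_not_rot : ∀ p, ∃ i : Vec, stAct (idx p) 0 i ≠ rotV i := by decide +kernel

theorem cases_p : ∀ p : ZMod 2 × ZMod 2, p = (0, 0) ∨ p = (0, 1) ∨ p = (1, 0) ∨ p = (1, 1) := by decide

theorem idx_vals : idx (0, 0) = 0 ∧ idx (0, 1) = 1 ∧ idx (1, 0) = 2 ∧ idx (1, 1) = 3 := by decide +kernel

variable {G : Type*} [Group G] [Finite G] {s : Setting G} {C : Chart s}

namespace Coord

variable (c : Coord C)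

theorem commute_stElt (a : Fin 4) (b : Fin 3) : Commute (c.stElt a b : G) (c.y : G) :=
  commute_of_rho (c.stElt_y a b)

/-- An element fixing `y`, in the centraliser. -/
def stC (a : Fin 4) (b : Fin 3) : c.Cy := ⟨(c.stElt a b : G), c.mem_Cy.2 (c.commute_stElt a b)⟩

theorem stC_mem (a : Fin 4) (b : Fin 3) : (c.stC a b : G) ∈ normalizer (s.J : Set G) :=
  s.M_le_normJ (c.stElt a b).2

theorem stC_acts (a : Fin 4) (b : Fin 3) : c.Acts (c.stC a b : G) (stAct a b) := c.acts_stElt a b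

theorem stElt_four_mul (p q : ZMod 2 × ZMod 2) :
    c.stElt (idx p) 0 * c.stElt (idx q) 0 = c.stElt (idx (p + q)) 0 := by
  obtain ⟨h0, h1, h2, h3⟩ := idx_vals
  have e1 : c.v * (c.v * c.w) = c.w := by rw [← mul_assoc, c.vv, one_mul]
  have e2 : c.w * (c.v * c.w) = c.v := by rw [c.vw, ← mul_assoc, c.ww, one_mul]
  have e3 : c.v * c.w * c.v = c.w := by rw [c.vw, mul_assoc, c.vv, mul_one]
  have e4 : c.v * c.w * c.w = c.v := by rw [mul_assoc, c.ww, mul_one]
  have e5 : c.v * c.w * (c.v * c.w) = 1 := by rw [mul_assoc, e2, c.vv]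
  have e6 : c.w * c.v = c.v * c.w := c.vw.symm
  rcases cases_p p with rfl | rfl | rfl | rfl <;> rcases cases_p q with rfl | rfl | rfl | rfl <;>
    simp [stElt, h0, h1, h2, h3, show (1 : ZMod 2) + 1 = 0 from rfl, Prod.mk_add_mk, c.vv, c.ww, e1, e2, e3,
      e4, e5, e6]

/-- A pattern of parities in the quotient. -/
def kx (p : ZMod 2 × ZMod 2) : c.Xy := c.proj (c.stC (idx p) 0)

theorem kx_mul (p q : ZMod 2 × ZMod 2) : c.kx p * c.kx q = c.kx (p + q) := by
  rw [kx, kx, kx, ← map_mul]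
  have h := congrArg (fun x : s.M => (x : G)) (c.stElt_four_mul p q)
  refine congrArg c.proj (Subtype.ext ?_)
  exact h

theorem kx_zero : c.kx 0 = 1 := by
  have h := c.kx_mul 0 0
  rw [add_zero] at h
  exact mul_eq_left.1 h

theorem kx_conj (p : ZMod 2 × ZMod 2) (i : Vec) :
    c.kx p * c.tv i * (c.kx p)⁻¹ = c.tv (stAct (idx p) 0 i) := c.conj_tv (c.stC_acts _ _) i

/-- The map of the model. -/
noncomputable def phiA : M₀ →* c.Xy where
  toFun m := c.tv (tr m) * c.kx (pr m)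
  map_one' := by
    rw [show tr 1 = 0 by decide +kernel, show pr 1 = 0 by decide +kernel, c.tv_zero, c.kx_zero, one_mul]
  map_mul' m m' := by
    rw [tr_mul', pr_mul, c.tv_add, ← c.kx_conj, ← c.kx_mul]
    group

theorem phiA_apply (m : M₀) : c.phiA m = c.tv (tr m) * c.kx (pr m) := rfl

theorem phiA_tr {m : M₀} (h : IsTr m) : c.phiA m = c.tv (tr m) := by
  rw [phiA_apply, pr_of_isTr m h, c.kx_zero, mul_one]

/-- The rotation. -/
def rX : c.Xy := c.proj (c.stC 0 1)

theorem stElt_rot : (c.stElt 0 1 : s.M) = c.r := by simp [stElt]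

theorem stC_rot_coe : (c.stC 0 1 : G) = (c.r : G) := congrArg Subtype.val c.stElt_rot

theorem rX_cube : c.rX ^ 3 = 1 := by
  rw [rX, ← map_pow, c.proj_one, Subgroup.coe_pow, c.stC_rot_coe]
  exact c.r_cube

theorem rX_conj (i : Vec) : c.rX * c.tv i * c.rX⁻¹ = c.tv (rotV i) :=
  c.conj_tv ((c.stC_acts 0 1).congr fun i => rfl) i

theorem rX_kx (p : ZMod 2 × ZMod 2) : c.rX * c.kx p * c.rX⁻¹ = c.kx (rotP p) := by
  rw [rX, kx, kx, ← map_inv, ← map_mul, ← map_mul]
  refine congrArg c.proj (Subtype.ext ?_)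
  show (c.stC 0 1 : G) * (c.stElt (idx p) 0 : G) * (c.stC 0 1 : G)⁻¹ = (c.stElt (idx (rotP p)) 0 : G)
  rw [c.stC_rot_coe, ← Subgroup.coe_mul, ← Subgroup.coe_inv, ← Subgroup.coe_mul]
  refine congrArg Subtype.val ?_
  obtain ⟨h0, h1, h2, h3⟩ := idx_vals
  rcases cases_p p with rfl | rfl | rfl | rfl
  · simp [stElt, rotP, h0]
  · simp [stElt, rotP, h1, h2, c.rv]
  · simp [stElt, rotP, h2, h3, c.rw']
  · simp [stElt, rotP, h3, h1, show (1 : ZMod 2) + 1 = 0 from rfl]
    rw [show c.r * (c.v * c.w) * c.r⁻¹ = (c.r * c.v * c.r⁻¹) * (c.r * c.w * c.r⁻¹) by group, c.rv, c.rw',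
      c.vw, ← mul_assoc, c.ww, one_mul]

theorem inN_NX {x : c.Xy} (h : InN c.phiA c.rX x) : x ∈ c.NX := by
  obtain ⟨m, i, rfl⟩ := h
  exact mul_mem (mul_mem (c.tv_mem_NX _) (c.proj_mem_NX (c.stC_mem _ _)))
    (pow_mem (c.proj_mem_NX (c.stC_mem _ _)) i)

/-- Every element of `N(J) ⊓ C(y)` acts as one of the twelve. -/
def Even : Prop :=
  ∀ g : c.Cy, (g : G) ∈ normalizer (s.J : Set G) → ∃ a b, c.Acts (g : G) (stAct a b)

theorem NX_inN (hE : c.Even) {x : c.Xy} (h : x ∈ c.NX) : InN c.phiA c.rX x := by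
  obtain ⟨g, hg, rfl⟩ := h
  obtain ⟨a, b, hA⟩ := hE g (mem_subgroupOf.1 hg)
  obtain ⟨i, hi⟩ := c.cent_tv (x := c.proj g * (c.proj (c.stC a b))⁻¹) fun i => by
    obtain ⟨j, rfl⟩ := stAct_surj a b i
    rw [← mul_inv_eq_iff_eq_mul]
    calc c.proj g * (c.proj (c.stC a b))⁻¹ * c.tv (stAct a b j) *
          (c.proj g * (c.proj (c.stC a b))⁻¹)⁻¹
        = c.proj g * ((c.proj (c.stC a b))⁻¹ * c.tv (stAct a b j) * c.proj (c.stC a b)) *
            (c.proj g)⁻¹ := by group
      _ = c.proj g * c.tv j * (c.proj g)⁻¹ := by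
          rw [← c.conj_tv (c.stC_acts a b)]; group
      _ = c.tv (stAct a b j) := c.conj_tv hA j
  obtain ⟨p, rfl⟩ := idx_surj a
  obtain ⟨m, hm1, hm2⟩ := model_surj i p
  refine ⟨m, b, ?_⟩
  rw [phiA_apply, hm1, hm2, ← hi, kx, rX, ← map_pow, mul_assoc, ← map_mul]
  have e : c.stC (idx p) 0 * c.stC 0 1 ^ (b : ℕ) = c.stC (idx p) b := Subtype.ext (by
    rw [Subgroup.coe_mul, Subgroup.coe_pow, c.stC_rot_coe]
    simp [stC, stElt])
  rw [e, inv_mul_cancel_right]

theorem caseA (hE : c.Even) : centralizer ({(c.y : G)} : Set G) ≤ normalizer (s.J : Set G) := by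
  have hcfg : Cfg c.phiA c.rX :=
    { inj := by
        rw [injective_iff_map_eq_one]
        intro m hm
        have hp : pr m = 0 := idx_faithful _ fun i => c.tv_injective (by
          rw [← c.kx_conj]
          have hk : c.kx (pr m) = (c.tv (tr m))⁻¹ := eq_inv_of_mul_eq_one_right hm
          rw [hk, inv_inv, mul_assoc, ← c.tv_add, add_comm, c.tv_add, inv_mul_cancel_left])
        refine model_one m (c.tv_injective ?_) hp
        rw [c.tv_zero, ← hm, phiA_apply, hp, c.kx_zero, mul_one]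
      x_cube := c.rX_cube
      x_not := by
        rintro ⟨m, hm⟩
        obtain ⟨i, hi⟩ := idx_not_rot (pr m)
        refine hi (c.tv_injective ?_)
        rw [← c.rX_conj, ← hm, phiA_apply, ← c.kx_conj]
        calc c.kx (pr m) * c.tv i * (c.kx (pr m))⁻¹
            = (c.tv (tr m))⁻¹ * (c.tv (tr m) * c.kx (pr m) * c.tv i * (c.tv (tr m) * c.kx (pr m))⁻¹) *
                c.tv (tr m) := by group
          _ = c.tv (tr m) * c.kx (pr m) * c.tv i * (c.tv (tr m) * c.kx (pr m))⁻¹ := by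
            rw [← phiA_apply, hm, c.rX_conj, mul_assoc, ← c.tv_add, add_comm, c.tv_add,
              inv_mul_cancel_left]
      rot_eq := fun m => by
        rw [phiA_apply, phiA_apply, (tr_rot m).1, (tr_rot m).2, ← c.rX_conj, ← c.rX_kx]
        group
      norm := fun x hx => by
        obtain ⟨g, rfl⟩ := c.exists_lift x
        refine c.NX_inN hE (c.proj_mem_NX (c.norm_tv fun i => ?_))
        obtain ⟨m, hm1, hm2⟩ := model_surj i 0
        obtain ⟨m', ht, e⟩ := hx m (isTr_of_pr m hm2)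
        rw [c.phiA_tr (isTr_of_pr m hm2), c.phiA_tr ht, hm1] at e
        exact ⟨_, e⟩
      loc := fun m ht h1 x hx => by
        obtain ⟨g, rfl⟩ := c.exists_lift x
        rw [c.phiA_tr ht] at hx
        exact c.NX_inN hE (c.proj_mem_NX (c.loc_tv
          (fun e => h1 (model_one m e (pr_of_isTr m ht))) hx))
      closed := fun m x ht h => by
        obtain ⟨g, rfl⟩ := c.exists_lift x
        rw [c.phiA_tr ht] at h ⊢
        obtain ⟨j, hj⟩ := c.closed_tv (c.inN_NX h)
        obtain ⟨m', hm1, hm2⟩ := model_surj j 0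
        exact ⟨m', isTr_of_pr m' hm2, by rw [hj, c.phiA_tr (isTr_of_pr m' hm2), hm1]⟩ }
  refine c.eq_of_NX_top fun g => c.inN_NX ?_
  have : c.proj g ∈ hcfg.N := hcfg.N_eq_top ▸ mem_top _
  exact this

end Coord

end Cfsg.Agent.McLThree.Strong
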