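import Cfsg.Agent.McLThree.StrongCaseA
import Cfsg.Agent.ThreeFullWreath.Finish

/-!
# The case in which `N(J) ⊓ C(y)` has an odd monomial map
-/

set_option autoImplicit false
set_option linter.unusedSectionVars false

namespace Cfsg.Agent.McLThree.Strong

open Subgroup
open Cfsg.Agent.McLLoc
open Cfsg.Agent

/-- The exchange of the second and third coordinates, with signs. -/
def sw (i : Vec) : Vec := fun u => -i (-u)

/-- The exchange of patterns. -/
def swP (p : ZMod 2 × ZMod 2) : ZMod 2 × ZMod 2 := (p.1, p.1 + p.2)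

/-- The vector of a model translation. -/
def vA (t : ThreeFullWreath.A) : Vec := fun k => ThreeFullWreath.get t.toAdd k

/-- The model translation of a vector. -/
def aV (i : Vec) : ThreeFullWreath.A := Multiplicative.ofAdd (i 0, i 1, i 2)

/-- The action of the complement on vectors. -/
def aQ (q : ThreeFullWreath.Q) (i : Vec) : Vec := vA (ThreeFullWreath.actFun q (aV i))

theorem odd_cases : ∀ π : Equiv.Perm (Fin 3), ∀ ε : Fin 3 → Bool, DetOne π ε →
    (∃ a b, ∀ i, mon π ε i = stAct a b i) ∨ ∃ a b, ∀ i, mon π ε (stAct a b i) = sw i := by decide +kernel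

theorem sw_facts : ∀ i, sw (stAct 1 0 (sw i)) = stAct 1 0 i ∧ sw (stAct 2 0 (sw i)) = stAct 3 0 i ∧
    sw (sw i) = i ∧ sw (rotV (sw (rotV i))) = i ∧ stAct 1 0 (stAct 1 0 i) = i ∧
    stAct 3 0 (stAct 3 0 i) = i := by decide +kernel

theorem flips_fixed : ∀ i : Vec, stAct 1 0 i = i → stAct 2 0 i = i → i = 0 := by decide +kernel

theorem vA_mul : ∀ t u, vA (t * u) = vA t + vA u := by decide +kernel

theorem vA_one : vA 1 = 0 := by decide +kernel

theorem vA_aV : ∀ i, vA (aV i) = i := by decide +kernel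

theorem aV_vA : ∀ t, aV (vA t) = t := by decide +kernel

theorem vA_zero : ∀ t, vA t = 0 → t = 1 := by decide +kernel

theorem aQ_inl : ∀ v i, aQ (SemidirectProduct.inl v) i = stAct (idx v.toAdd) 0 i := by decide +kernel

theorem aQ_rot : ∀ i, aQ (SemidirectProduct.inr (.r 1)) i = rotV i := by decide +kernel

theorem aQ_sw : ∀ i, aQ (SemidirectProduct.inr (.sr 0)) i = sw i := by decide +kernel

theorem aQ_faithful : ∀ q, (∀ i, aQ q i = i) → q = 1 := by decide +kernel

theorem mon_q : ∀ π : Equiv.Perm (Fin 3), ∀ ε : Fin 3 → Bool, DetOne π ε →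
    ∃ q, ∀ i, aQ q i = mon π ε i := by decide +kernel

theorem aQ_surj : ∀ q i, ∃ j, aQ q j = i := fun q i =>
  ⟨vA (ThreeFullWreath.actFun q⁻¹ (aV i)), by
    rw [aQ, aV_vA, ← ThreeFullWreath.actFun_mul, mul_inv_cancel, ThreeFullWreath.actFun_one, vA_aV]⟩

theorem psi_rot : ∀ v, (ThreeFullWreath.psiFun (.r 1) v).toAdd = rotP v.toAdd := by decide +kernel

theorem psi_sw : ∀ v, (ThreeFullWreath.psiFun (.sr 0) v).toAdd = swP v.toAdd := by decide +kernel

theorem d_cases : ∀ d : DihedralGroup 3, ∃ i : Fin 3,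
    d = (.r 1) ^ (i : ℕ) ∨ d = .sr 0 * (.r 1) ^ (i : ℕ) := by decide +kernel

variable {G : Type*} [Group G] [Finite G] {s : Setting G} {C : Chart s}

theorem exists_conj_invol {x t : G} (hx : x * x = 1) (ht : t * t = 1) (h : t * x ∈ s.J) :
    ∃ a ∈ s.J, a * x * a⁻¹ = t ∧ ∀ u, Commute u t → Commute u x → Commute u a := by
  refine ⟨(t * x)⁻¹, inv_mem h, ?_, fun u hut hux => (hut.mul_right hux).inv_right⟩
  set k := t * x with hk
  have hk3 : k * k * k = 1 := by simpa [pow_succ] using s.hJexp _ h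
  have e2 : t * k * t = k⁻¹ := by
    refine eq_inv_of_mul_eq_one_left ?_
    rw [hk, show t * (t * x) * t * (t * x) = (t * t) * x * (t * t) * x by group, ht, one_mul, mul_one, hx]
  have e2' : t * k⁻¹ * t = k := by
    rw [← e2, show t * (t * k * t) * t = (t * t) * k * (t * t) by group, ht, one_mul, mul_one]
  calc k⁻¹ * x * k⁻¹⁻¹ = k⁻¹ * (t * k) * k := by rw [inv_inv, hk, ← mul_assoc t t x, ht, one_mul]
    _ = (t * t) * k⁻¹ * t * k * k := by rw [ht]; group
    _ = t * (t * k⁻¹ * t) * (k * k) := by group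
    _ = t * (k * k * k) := by rw [e2']; group
    _ = t := by rw [hk3, mul_one]

namespace Coord

variable (c : Coord C)

theorem mem_zpowers_of_cent {x : G} (hx : x ∈ s.J) (hv : Commute x (c.v : G)) (hw : Commute x (c.w : G)) :
    x ∈ zpowers (c.y : G) := by
  obtain ⟨k, i, e⟩ := c.exists_pt ⟨x, hx⟩
  have hfix : ∀ a : Fin 4, Commute x (c.stElt a 0 : G) → stAct a 0 i = i := fun a hc =>
    (c.pt_injective (k := k) (l := k) (Subtype.ext (by
      rw [c.acts_stElt a 0 k i, e, hc.eq.symm]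
      simp))).2
  have hi : i = 0 := flips_fixed i (hfix 1 (by simpa [stElt] using hv)) (hfix 2 (by simpa [stElt] using hw))
  have : x = ((c.pt k i : s.J) : G) := by rw [e]
  rw [this, hi, c.pt_zero, Subgroup.coe_pow]
  exact pow_mem (mem_zpowers _) _

/-- An element of `N(J) ⊓ C(y)` exchanging two of the three lines. -/
structure IsSwap (g : c.Cy) : Prop where
  mem : (g : G) ∈ normalizer (s.J : Set G)
  acts : c.Acts (g : G) sw
  g_v : (g : G) * c.v * (g : G)⁻¹ = c.v
  g_w : (g : G) * c.w * (g : G)⁻¹ = (c.v : G) * c.w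

theorem exists_swap (hE : ¬ c.Even) : ∃ g, c.IsSwap g := by
  obtain ⟨h, hhN, hno⟩ : ∃ g : c.Cy, (g : G) ∈ normalizer (s.J : Set G) ∧
      ¬ ∃ a b, c.Acts (g : G) (stAct a b) := by
    by_contra hcon
    exact hE fun g hg => by_contra fun hno => hcon ⟨g, hg, hno⟩
  obtain ⟨π, ε, hd, hA⟩ := c.exists_acts hhN
  rcases odd_cases π ε hd with ⟨a, b, hab⟩ | ⟨a, b, hab⟩
  · exact absurd ⟨a, b, hA.congr hab⟩ hno
  set g1 : c.Cy := h * c.stC a b
  have hA1 : c.Acts (g1 : G) sw := (hA.mul (c.stC_acts a b)).congr hab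
  have hN1 : (g1 : G) ∈ normalizer (s.J : Set G) := mul_mem hhN (c.stC_mem a b)
  have hv2 : (c.v : G) * c.v = 1 := congrArg Subtype.val c.vv
  have hw2 : (c.w : G) * c.w = 1 := congrArg Subtype.val c.ww
  have hvw : (c.v : G) * c.w = (c.w : G) * c.v := congrArg Subtype.val c.vw
  have hactv : c.Acts (c.v : G) (stAct 1 0) := by simpa [stElt] using c.acts_stElt 1 0
  have hactw : c.Acts (c.w : G) (stAct 2 0) := by simpa [stElt] using c.acts_stElt 2 0
  have hactvw : c.Acts ((c.v : G) * c.w) (stAct 3 0) := by simpa [stElt] using c.acts_stElt 3 0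
  have hinv : ∀ {x : G}, c.Acts x sw → c.Acts x⁻¹ sw := fun H => H.inv fun i => (sw_facts i).2.2.1
  obtain ⟨a1, ha1, e1, -⟩ := exists_conj_invol (s := s) (x := (g1 : G) * c.v * (g1 : G)⁻¹) (t := (c.v : G))
    (by rw [show (g1 : G) * c.v * (g1 : G)⁻¹ * ((g1 : G) * c.v * (g1 : G)⁻¹) =
      (g1 : G) * (c.v * c.v) * (g1 : G)⁻¹ by group, hv2]; group) hv2
    ((hactv.mul ((hA1.mul hactv).mul (hinv hA1))).mem_J fun i => by
      rw [(sw_facts i).1, (sw_facts i).2.2.2.2.1])
  set g2 : c.Cy := ⟨a1, c.J_le_Cy ha1⟩ * g1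
  have hA2 : c.Acts (g2 : G) sw := ((c.acts_J ha1).mul hA1).congr fun i => rfl
  have hN2 : (g2 : G) ∈ normalizer (s.J : Set G) := mul_mem (le_normalizer ha1) hN1
  have hg2v : (g2 : G) * c.v * (g2 : G)⁻¹ = c.v := by
    conv_rhs => rw [← e1]
    show a1 * (g1 : G) * c.v * (a1 * (g1 : G))⁻¹ = _
    group
  have hcv : Commute (c.v : G) ((g2 : G) * c.w * (g2 : G)⁻¹) := by
    have := (show Commute (c.v : G) c.w from hvw).map (MulAut.conj (g2 : G)).toMonoidHom
    simpa [hg2v] using this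
  have hcv' : Commute (c.v : G) ((c.v : G) * c.w) :=
    (Commute.refl _).mul_right hvw
  obtain ⟨a2, ha2, e2, h2c⟩ := exists_conj_invol (s := s) (x := (g2 : G) * c.w * (g2 : G)⁻¹)
    (t := (c.v : G) * c.w)
    (by rw [show (g2 : G) * c.w * (g2 : G)⁻¹ * ((g2 : G) * c.w * (g2 : G)⁻¹) =
      (g2 : G) * (c.w * c.w) * (g2 : G)⁻¹ by group, hw2]; group)
    (by rw [show (c.v : G) * c.w * ((c.v : G) * c.w) = c.v * ((c.w : G) * c.v) * c.w by group, ← hvw,
      ← mul_assoc, hv2, one_mul, hw2])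
    ((hactvw.mul ((hA2.mul hactw).mul (hinv hA2))).mem_J fun i => by
      rw [(sw_facts i).2.1, (sw_facts i).2.2.2.2.2])
  refine ⟨⟨a2, c.J_le_Cy ha2⟩ * g2, mul_mem (le_normalizer ha2) hN2,
    ((c.acts_J ha2).mul hA2).congr fun i => rfl, ?_, ?_⟩
  · show a2 * (g2 : G) * c.v * (a2 * (g2 : G))⁻¹ = _
    rw [show a2 * (g2 : G) * c.v * (a2 * (g2 : G))⁻¹ = a2 * ((g2 : G) * c.v * (g2 : G)⁻¹) * a2⁻¹ by
      group, hg2v, ← (h2c _ hcv' hcv).eq, mul_inv_cancel_right]
  · conv_rhs => rw [← e2]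
    show a2 * (g2 : G) * c.w * (a2 * (g2 : G))⁻¹ = _
    group

variable {c} {g : c.Cy} (hg : c.IsSwap g)

include hg

theorem IsSwap.g_vw : (g : G) * ((c.v : G) * c.w) * (g : G)⁻¹ = c.w := by
  rw [show (g : G) * ((c.v : G) * c.w) * (g : G)⁻¹ =
    ((g : G) * c.v * (g : G)⁻¹) * ((g : G) * c.w * (g : G)⁻¹) by group, hg.g_v, hg.g_w, ← mul_assoc,
    show (c.v : G) * c.v = 1 from congrArg Subtype.val c.vv, one_mul]

theorem IsSwap.sq : c.proj g * c.proj g = 1 := by
  rw [← map_mul, c.proj_one]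
  refine c.mem_zpowers_of_cent ((hg.acts.mul hg.acts).mem_J fun i => (sw_facts i).2.2.1)
    (mul_inv_eq_iff_eq_mul.1 ?_) (mul_inv_eq_iff_eq_mul.1 ?_)
  · rw [Subgroup.coe_mul, show (g : G) * g * c.v * ((g : G) * g)⁻¹ =
      (g : G) * ((g : G) * c.v * (g : G)⁻¹) * (g : G)⁻¹ by group, hg.g_v, hg.g_v]
  · rw [Subgroup.coe_mul, show (g : G) * g * c.w * ((g : G) * g)⁻¹ =
      (g : G) * ((g : G) * c.w * (g : G)⁻¹) * (g : G)⁻¹ by group, hg.g_w, hg.g_vw]

theorem IsSwap.conj_rX : c.proj g * c.rX * (c.proj g)⁻¹ = c.rX⁻¹ := by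
  refine eq_inv_of_mul_eq_one_left ?_
  rw [rX, ← map_inv, ← map_mul, ← map_mul, ← map_mul, c.proj_one]
  set u : G := ((g * c.stC 0 1 * g⁻¹ * c.stC 0 1 : c.Cy) : G) with hu
  have hur : u = (g : G) * c.r * (g : G)⁻¹ * c.r := by
    simp only [hu, Subgroup.coe_mul, Subgroup.coe_inv, c.stC_rot_coe]
  have hrv : (c.r : G) * c.v * (c.r : G)⁻¹ = c.w := congrArg Subtype.val c.rv
  have hrw : (c.r : G) * c.w * (c.r : G)⁻¹ = (c.v : G) * c.w := congrArg Subtype.val c.rw'
  have hact : c.Acts u fun i => i := by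
    rw [hur]
    have hr : c.Acts (c.r : G) rotV := by
      have := c.acts_stElt 0 1
      rw [c.stElt_rot] at this
      exact this.congr fun i => rfl
    exact (((hg.acts.mul hr).mul (hg.acts.inv fun i => (sw_facts i).2.2.1)).mul hr).congr
      fun i => (sw_facts i).2.2.2.1
  have hginv : ∀ x y : G, (g : G) * x * (g : G)⁻¹ = y → (g : G)⁻¹ * y * g = x := by
    rintro x _ rfl; group
  refine c.mem_zpowers_of_cent (hact.mem_J fun i => rfl) (mul_inv_eq_iff_eq_mul.1 ?_)
    (mul_inv_eq_iff_eq_mul.1 ?_)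
  · rw [hur, show (g : G) * c.r * (g : G)⁻¹ * c.r * c.v * ((g : G) * c.r * (g : G)⁻¹ * c.r)⁻¹ =
      (g : G) * (c.r * ((g : G)⁻¹ * (c.r * c.v * (c.r : G)⁻¹) * g) * (c.r : G)⁻¹) * (g : G)⁻¹ by group,
      hrv, hginv _ _ hg.g_vw, show (c.r : G) * ((c.v : G) * c.w) * (c.r : G)⁻¹ =
        (c.r * c.v * (c.r : G)⁻¹) * (c.r * c.w * (c.r : G)⁻¹) by group, hrv, hrw,
      show (c.v : G) * c.w = (c.w : G) * c.v from congrArg Subtype.val c.vw,
      show (c.w : G) * ((c.w : G) * c.v) = c.v by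
        rw [← mul_assoc, show (c.w : G) * c.w = 1 from congrArg Subtype.val c.ww, one_mul], hg.g_v]
  · rw [hur, show (g : G) * c.r * (g : G)⁻¹ * c.r * c.w * ((g : G) * c.r * (g : G)⁻¹ * c.r)⁻¹ =
      (g : G) * (c.r * ((g : G)⁻¹ * (c.r * c.w * (c.r : G)⁻¹) * g) * (c.r : G)⁻¹) * (g : G)⁻¹ by group,
      hrw, hginv _ _ hg.g_w, hrw, hg.g_vw]

theorem IsSwap.conj_kx (p : ZMod 2 × ZMod 2) :
    c.proj g * c.kx p * (c.proj g)⁻¹ = c.kx (swP p) := by
  obtain ⟨h0, h1, h2, h3⟩ := idx_vals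
  have base : ∀ a b : Fin 4, (g : G) * (c.stElt a 0 : G) * (g : G)⁻¹ = (c.stElt b 0 : G) →
      c.proj g * c.proj (c.stC a 0) * (c.proj g)⁻¹ = c.proj (c.stC b 0) := fun a b h => by
    rw [← map_inv, ← map_mul, ← map_mul]
    exact congrArg c.proj (Subtype.ext h)
  rcases cases_p p with rfl | rfl | rfl | rfl <;> simp only [kx, swP, h0, h1, h2, h3, add_zero, zero_add,
    show (1 : ZMod 2) + 1 = 0 from rfl]
  · exact base 0 0 (by simp [stElt])
  · exact base 1 1 (by simpa [stElt] using hg.g_v)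
  · exact base 2 3 (by simpa [stElt] using hg.g_w)
  · exact base 3 2 (by simpa [stElt] using hg.g_vw)

/-- The block permutations in the quotient. -/
noncomputable def dfun (g : c.Cy) : DihedralGroup 3 → c.Xy
  | .r i => c.rX ^ i.val
  | .sr i => c.proj g * c.rX ^ i.val

omit hg in
theorem rX_pow_add (i j : ZMod 3) : c.rX ^ (i + j).val = c.rX ^ i.val * c.rX ^ j.val := by
  rw [← pow_add, ZMod.val_add, ← pow_eq_pow_mod _ c.rX_cube]

theorem IsSwap.swap_pow (i : ZMod 3) : c.rX ^ i.val * c.proj g = c.proj g * c.rX ^ (-i).val := by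
  have h1 : c.rX ^ (-i).val = (c.rX ^ i.val)⁻¹ :=
    eq_inv_of_mul_eq_one_left (by rw [← rX_pow_add, neg_add_cancel, ZMod.val_zero, pow_zero])
  have h2 : c.proj g * c.rX ^ i.val * (c.proj g)⁻¹ = (c.rX ^ i.val)⁻¹ := by
    rw [← conj_pow, hg.conj_rX, inv_pow]
  rw [h1, ← h2, show c.proj g * (c.proj g * c.rX ^ i.val * (c.proj g)⁻¹) =
    (c.proj g * c.proj g) * c.rX ^ i.val * (c.proj g)⁻¹ by group, hg.sq, one_mul,
    inv_eq_of_mul_eq_one_right hg.sq]

/-- The block permutations as a homomorphism. -/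
noncomputable def IsSwap.dHom : DihedralGroup 3 →* c.Xy where
  toFun := dfun g
  map_one' := by rw [DihedralGroup.one_def]; simp [dfun]
  map_mul' := by
    rintro (i | i) (j | j)
    · simp [dfun, rX_pow_add]
    · simp only [DihedralGroup.r_mul_sr, dfun]
      rw [← mul_assoc, hg.swap_pow, mul_assoc, ← rX_pow_add, show -i + j = j - i by ring]
    · simp only [DihedralGroup.sr_mul_r, dfun]
      rw [rX_pow_add, mul_assoc]
    · simp only [DihedralGroup.sr_mul_sr, dfun]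
      rw [show c.proj g * c.rX ^ i.val * (c.proj g * c.rX ^ j.val) =
        c.proj g * (c.rX ^ i.val * c.proj g) * c.rX ^ j.val by group, hg.swap_pow, ← mul_assoc, hg.sq,
        one_mul, ← rX_pow_add, show -i + j = j - i by ring]

/-- The sign changes as a homomorphism. -/
noncomputable def kHom (c : Coord C) : ThreeFullWreath.V4 →* c.Xy where
  toFun v := c.kx v.toAdd
  map_one' := c.kx_zero
  map_mul' v w := by rw [c.kx_mul]; rfl

theorem IsSwap.dHom_gen : hg.dHom (.r 1) = c.rX ∧ hg.dHom (.sr 0) = c.proj g :=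
  ⟨pow_one _, by show c.proj g * c.rX ^ 0 = _; rw [pow_zero, mul_one]⟩

/-- The complement in the quotient. -/
noncomputable def IsSwap.qHom : ThreeFullWreath.Q →* c.Xy :=
  SemidirectProduct.lift (kHom c) hg.dHom fun d => by
    refine MonoidHom.ext fun v => ?_
    show c.kx (ThreeFullWreath.psiFun d v).toAdd = hg.dHom d * c.kx v.toAdd * (hg.dHom d)⁻¹
    revert v
    let S : Set (DihedralGroup 3) := {d | ∀ v, c.kx (ThreeFullWreath.psiFun d v).toAdd =
      hg.dHom d * c.kx v.toAdd * (hg.dHom d)⁻¹}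
    have hone : (1 : DihedralGroup 3) ∈ S := fun v => by
      rw [map_one, ThreeFullWreath.psiFun_one]; group
    have hmul : ∀ a ∈ S, ∀ b ∈ S, a * b ∈ S := fun a ha b hb v => by
      rw [ThreeFullWreath.psiFun_mul, ha, hb, map_mul]; group
    have hr : (.r 1 : DihedralGroup 3) ∈ S := fun v => by
      rw [psi_rot, hg.dHom_gen.1, c.rX_kx]
    have hs : (.sr 0 : DihedralGroup 3) ∈ S := fun v => by
      rw [psi_sw, hg.dHom_gen.2, hg.conj_kx]
    have hp : ∀ n : ℕ, (.r 1 : DihedralGroup 3) ^ n ∈ S := fun n => by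
      induction n with
      | zero => rw [pow_zero]; exact hone
      | succ n ih => rw [pow_succ]; exact hmul _ ih _ hr
    obtain ⟨i, rfl | rfl⟩ := d_cases d
    · exact hp _
    · exact hmul _ hs _ (hp _)

theorem IsSwap.conj_q (q : ThreeFullWreath.Q) :
    ∀ i, hg.qHom q * c.tv i * (hg.qHom q)⁻¹ = c.tv (aQ q i) := by
  let S : Set ThreeFullWreath.Q := {q | ∀ i, hg.qHom q * c.tv i * (hg.qHom q)⁻¹ = c.tv (aQ q i)}
  have hone : (1 : ThreeFullWreath.Q) ∈ S := fun i => by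
    rw [map_one, aQ, ThreeFullWreath.actFun_one, vA_aV]; group
  have hmul : ∀ a ∈ S, ∀ b ∈ S, a * b ∈ S := fun a ha b hb i => by
    rw [show aQ (a * b) i = aQ a (aQ b i) by rw [aQ, aQ, aQ, aV_vA, ThreeFullWreath.actFun_mul], ← ha,
      ← hb, map_mul]
    group
  have hv : ∀ v, (SemidirectProduct.inl v : ThreeFullWreath.Q) ∈ S := fun v i => by
    rw [aQ_inl, IsSwap.qHom, SemidirectProduct.lift_inl]
    exact c.kx_conj _ i
  have hr : (SemidirectProduct.inr (.r 1) : ThreeFullWreath.Q) ∈ S := fun i => by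
    rw [aQ_rot, IsSwap.qHom, SemidirectProduct.lift_inr, hg.dHom_gen.1, c.rX_conj]
  have hs : (SemidirectProduct.inr (.sr 0) : ThreeFullWreath.Q) ∈ S := fun i => by
    rw [aQ_sw, IsSwap.qHom, SemidirectProduct.lift_inr, hg.dHom_gen.2, c.conj_tv hg.acts]
  have hp : ∀ n : ℕ, (SemidirectProduct.inr ((.r 1 : DihedralGroup 3) ^ n) : ThreeFullWreath.Q) ∈ S :=
    fun n => by
      induction n with
      | zero => rw [pow_zero, map_one]; exact hone
      | succ n ih => rw [pow_succ, map_mul]; exact hmul _ ih _ hr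
  rw [← SemidirectProduct.inl_left_mul_inr_right q]
  refine hmul _ (hv _) _ ?_
  obtain ⟨i, e | e⟩ := d_cases q.right <;> rw [e]
  · exact hp _
  · rw [map_mul]; exact hmul _ hs _ (hp _)

/-- The translations as a homomorphism. -/
noncomputable def tHom (c : Coord C) : ThreeFullWreath.A →* c.Xy where
  toFun t := c.tv (vA t)
  map_one' := by rw [vA_one, c.tv_zero]
  map_mul' t u := by rw [vA_mul, c.tv_add]

/-- The map of the model. -/
noncomputable def IsSwap.phiB : ThreeFullWreath.M →* c.Xy :=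
  SemidirectProduct.lift (tHom c) hg.qHom fun q => by
    refine MonoidHom.ext fun t => ?_
    show c.tv (vA (ThreeFullWreath.actFun q t)) = hg.qHom q * c.tv (vA t) * (hg.qHom q)⁻¹
    rw [hg.conj_q, aQ, aV_vA]

theorem IsSwap.phiB_apply (m : ThreeFullWreath.M) :
    hg.phiB m = c.tv (vA m.left) * hg.qHom m.right := by
  conv_lhs => rw [← SemidirectProduct.inl_left_mul_inr_right m]
  rw [map_mul, IsSwap.phiB, SemidirectProduct.lift_inl, SemidirectProduct.lift_inr]
  rfl

theorem IsSwap.qHom_mem (q : ThreeFullWreath.Q) : hg.qHom q ∈ c.NX := by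
  rw [← SemidirectProduct.inl_left_mul_inr_right q, map_mul, IsSwap.qHom, SemidirectProduct.lift_inl,
    SemidirectProduct.lift_inr]
  refine mul_mem (c.proj_mem_NX (c.stC_mem _ _)) ?_
  have hrX : c.rX ∈ c.NX := c.proj_mem_NX (c.stC_mem _ _)
  show dfun g q.right ∈ c.NX
  cases q.right with
  | r i => exact pow_mem hrX _
  | sr i => exact mul_mem (c.proj_mem_NX hg.mem) (pow_mem hrX _)

theorem IsSwap.range_eq : hg.phiB.range = c.NX := by
  refine le_antisymm ?_ ?_
  · rintro _ ⟨m, rfl⟩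
    rw [hg.phiB_apply]
    exact mul_mem (c.tv_mem_NX _) (hg.qHom_mem _)
  · rintro _ ⟨x, hx, rfl⟩
    obtain ⟨π, ε, hd, hA⟩ := c.exists_acts (mem_subgroupOf.1 hx)
    obtain ⟨q, hq⟩ := mon_q π ε hd
    obtain ⟨j, hj⟩ := c.cent_tv (x := c.proj x * (hg.qHom q)⁻¹) fun i => by
      obtain ⟨k, rfl⟩ := aQ_surj q i
      rw [← mul_inv_eq_iff_eq_mul]
      calc c.proj x * (hg.qHom q)⁻¹ * c.tv (aQ q k) * (c.proj x * (hg.qHom q)⁻¹)⁻¹
          = c.proj x * ((hg.qHom q)⁻¹ * c.tv (aQ q k) * hg.qHom q) * (c.proj x)⁻¹ := by group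
        _ = c.proj x * c.tv k * (c.proj x)⁻¹ := by rw [← hg.conj_q]; group
        _ = c.tv (aQ q k) := by rw [c.conj_tv hA, hq]
    refine ⟨⟨aV j, q⟩, ?_⟩
    rw [hg.phiB_apply, vA_aV, ← hj, inv_mul_cancel_right]

theorem IsSwap.caseB : centralizer ({(c.y : G)} : Set G) ≤ normalizer (s.J : Set G) := by
  have htr : ∀ m : ThreeFullWreath.M, m.right = 1 → hg.phiB m = c.tv (vA m.left) := fun m hm => by
    rw [hg.phiB_apply, hm, map_one, mul_one]
  have hinj : Function.Injective hg.phiB := by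
    rw [injective_iff_map_eq_one]
    intro m hm
    have hq : m.right = 1 := aQ_faithful _ fun i => c.tv_injective (by
      rw [← hg.conj_q]
      rw [hg.phiB_apply] at hm
      rw [eq_inv_of_mul_eq_one_right hm, inv_inv, mul_assoc, ← c.tv_add, add_comm, c.tv_add,
        inv_mul_cancel_left])
    refine SemidirectProduct.ext (vA_zero _ (c.tv_injective ?_)) hq
    rw [← htr m hq, hm, c.tv_zero]
  have hcfg : ThreeFullWreath.Cfg hg.phiB :=
    { inj := hinj
      loc := fun m hm h1 x hx => by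
        rw [htr m hm, mem_centralizer_singleton_iff] at hx
        rw [hg.range_eq]
        obtain ⟨x, rfl⟩ := c.exists_lift x
        exact c.proj_mem_NX (c.loc_tv (fun e => h1 (SemidirectProduct.ext (vA_zero _ e) hm)) hx)
      closed := fun x m m' hm h => by
        rw [htr m hm] at h
        obtain ⟨x, rfl⟩ := c.exists_lift x
        obtain ⟨j, hj⟩ := c.closed_tv (show c.proj x * c.tv (vA m.left) * (c.proj x)⁻¹ ∈ c.NX by
          rw [h, ← hg.range_eq]; exact ⟨m', rfl⟩)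
        have e : hg.phiB m' = hg.phiB ⟨aV j, 1⟩ := by
          rw [← h, hj, htr ⟨aV j, 1⟩ rfl, vA_aV]
        rw [hinj e] }
  refine c.eq_of_NX_top fun x => ?_
  rw [← hg.range_eq, hcfg.range_eq_top]
  exact mem_top _

end Coord

end Cfsg.Agent.McLThree.Strong
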