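import Cfsg.Agent.McLThree.StrongModel
import Cfsg.Agent.ThreeKlein.Six
import Cfsg.Agent.Char.Linear
import Cfsg.Agent.Coprime.Generation
import Mathlib.GroupTheory.Transfer

/-!
# A group with a strongly embedded subgroup `3^3:2^2` equals it

`Cfg₀ φ` says that the fusion of every nontrivial translation is inside the image.  Each of the three
special functions gives two irreducible characters whose common kernel contains one class of
involutions and misses the two others.
-/

set_option autoImplicit false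

namespace Cfsg.Agent.McLThree.Strong

open Cfsg Cfsg.Agent Subgroup
open scoped ComplexConjugate

universe u

theorem centralizer_inv₀ (u : Fin 3) : Nat.card (centralizer ({inv₀ u} : Set M₀)) = 12 := by
  rw [← (inv₀_facts u).2.2.2, ← Fintype.card_subtype, ← Nat.card_eq_fintype_card]
  exact Nat.card_congr (Equiv.subtypeEquivRight fun k => mem_centralizer_singleton_iff)

theorem axis_conj : ∀ u v : Fin 3, u ≠ v → ∀ k : M₀,
    k * axis u * k⁻¹ ≠ axis v ∧ k * axis u * k⁻¹ ≠ axis v * axis v := by decide +kernel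

theorem cube_facts : ∀ m : M₀, ¬ IsTr m → m ^ 3 * m ^ 3 = 1 ∧ m ^ 3 ≠ 1 := by decide +kernel

theorem cube_tr : ∀ m : M₀, m ^ 3 = 1 → IsTr m := by decide +kernel

theorem comm_axis_two : ∀ u : Fin 3, u ≠ 2 →
    inv₀ u * axis 2 * (inv₀ u)⁻¹ * (axis 2)⁻¹ = axis 2 := by decide +kernel

/-- The fusion of the translations is controlled. -/
structure Cfg₀ {G : Type u} [Group G] (φ : M₀ →* G) : Prop where
  inj : Function.Injective φ
  fus : ∀ (g : G) (m m' : M₀), IsTr m → m ≠ 1 → g * φ m * g⁻¹ = φ m' → g ∈ φ.range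

variable {G : Type u} [Group G] {φ : M₀ →* G}

theorem Cfg₀.fused (h : Cfg₀ φ) (v : Fin 3) : TISpecial.Fused φ (Phi v) := by
  intro x m m' hm he
  obtain ⟨h1, h2⟩ := special v m fun e => hm (by simp [Phi, e])
  exact h.fus x (m * m) (m' * m') h1 h2 (by
    rw [map_mul, map_mul, ← he]
    group)

/-- The three classes of involutions do not fuse. -/
theorem Cfg₀.not_isConj [Finite G] (h : Cfg₀ φ) {u v : Fin 3} (huv : u ≠ v) :
    ¬ IsConj (φ (inv₀ u)) (φ (inv₀ v)) := by
  classical
  haveI : Fact (Nat.Prime 3) := ⟨Nat.prime_three⟩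
  intro hconj
  obtain ⟨g, hg⟩ := isConj_iff.1 hconj
  set C := centralizer ({φ (inv₀ v)} : Set G)
  obtain ⟨au, nu', cu, -, -⟩ := axis_facts u
  obtain ⟨av, nv', cv, -, -⟩ := axis_facts v
  have haC : φ (axis v) ∈ C := mem_centralizer_singleton_iff.2 (by rw [← map_mul, cv, map_mul])
  set a : C := ⟨_, haC⟩
  have oa : orderOf a = 3 := by
    refine orderOf_eq_prime (Subtype.ext ?_) fun e => nv' (h.inj ?_)
    · show φ (axis v) ^ 3 = 1
      rw [← map_pow, tr_cube _ av, map_one]
    · rw [map_one]; exact congrArg Subtype.val e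
  have hA : Nat.card (zpowers a) = 3 := by rw [Nat.card_zpowers, oa]
  have hnorm : ∀ y : C, y ∈ normalizer (zpowers a : Set C) → (y : G) ∈ φ.range := fun y hy => by
    obtain ⟨i, hi⟩ := mem_zpowers_iff.1 ((mem_normalizer_iff.1 hy a).1 (mem_zpowers a))
    have hi' : (y : G) * φ (axis v) * (y : G)⁻¹ = φ (axis v ^ i) := by
      rw [map_zpow]
      exact (congrArg Subtype.val hi).symm
    exact h.fus _ _ _ av nv' hi'
  have h9 : ¬ 3 ^ 2 ∣ Nat.card C := fun h9 => by
    have hq := Sylow.prime_dvd_card_quotient_normalizer (p := 3) (n := 1) h9 (H := zpowers a)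
      (by rw [pow_one]; exact hA)
    set Nm := normalizer (zpowers a : Set C)
    have h1 : 9 ∣ Nat.card Nm := by
      rw [Subgroup.card_eq_card_quotient_mul_card_subgroup ((zpowers a).comap Nm.subtype)]
      have e : Nat.card ((zpowers a).comap Nm.subtype) = 3 := by
        rw [← hA]
        exact Nat.card_congr (subgroupOfEquivOfLe le_normalizer).toEquiv
      rw [e]
      exact Nat.mul_dvd_mul_right hq 3
    have h2 : Nat.card Nm ∣ 12 := by
      rw [← centralizer_inv₀ v, ← card_map_of_injective (K := Nm) C.subtype_injective,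
        ← card_map_of_injective (K := centralizer ({inv₀ v} : Set M₀)) (f := φ) h.inj]
      refine card_dvd_of_le ?_
      rintro _ ⟨y, hy, rfl⟩
      obtain ⟨k, hk⟩ := hnorm y hy
      refine ⟨k, mem_centralizer_singleton_iff.2 (h.inj ?_), hk⟩
      rw [map_mul, map_mul, hk]
      exact mem_centralizer_singleton_iff.1 y.2
    have := h1.trans h2
    norm_num at this
  have hbC : g * φ (axis u) * g⁻¹ ∈ C := mem_centralizer_singleton_iff.2 (by
    rw [← hg, ← MulAut.conj_apply, ← MulAut.conj_apply, ← map_mul, ← map_mul, ← map_mul, cu, map_mul])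
  set b : C := ⟨_, hbC⟩
  have ob : orderOf b = 3 := by
    refine orderOf_eq_prime (Subtype.ext ?_) fun e => nu' (h.inj ?_)
    · show (g * φ (axis u) * g⁻¹) ^ 3 = 1
      rw [conj_pow, ← map_pow, tr_cube _ au]; simp
    · rw [map_one]; exact conj_eq_one_iff.1 (congrArg Subtype.val e)
  have hcard : 3 ^ (Nat.card C).factorization 3 = 3 := by
    have hC0 : Nat.card C ≠ 0 := Nat.card_pos.ne'
    have h1 : 1 ≤ (Nat.card C).factorization 3 :=
      (Nat.prime_three.dvd_iff_one_le_factorization hC0).1 (hA ▸ card_subgroup_dvd_card _)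
    have h2 : ¬ 2 ≤ (Nat.card C).factorization 3 := fun e =>
      h9 ((pow_dvd_pow 3 e).trans (Nat.ordProj_dvd _ _))
    rw [show (Nat.card C).factorization 3 = 1 by omega, pow_one]
  obtain ⟨PB, hPB⟩ : ∃ P : Sylow 3 C, (P : Subgroup C) = zpowers b :=
    ⟨Sylow.ofCard (zpowers b) (by rw [hcard, Nat.card_zpowers, ob]), rfl⟩
  obtain ⟨PA, hPA⟩ : ∃ P : Sylow 3 C, (P : Subgroup C) = zpowers a :=
    ⟨Sylow.ofCard (zpowers a) (by rw [hcard, hA]), rfl⟩
  obtain ⟨c, hcP⟩ := MulAction.exists_smul_eq C PB PA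
  have hab : c * b * c⁻¹ ∈ zpowers a := by
    rw [← hPA, ← hcP, Sylow.coe_subgroup_smul, hPB]
    exact ⟨b, mem_zpowers b, rfl⟩
  obtain ⟨i, hi⟩ := mem_zpowers_iff.1 hab
  have hi' : ((c : G) * g) * φ (axis u) * ((c : G) * g)⁻¹ = φ (axis v ^ i) := by
    rw [map_zpow]
    have := congrArg (fun z : C => (z : G)) hi
    simp only [Subgroup.coe_zpow, Subgroup.coe_mul, Subgroup.coe_inv, a, b] at this
    rw [this]; group
  obtain ⟨k, hk⟩ := h.fus _ _ _ au nu' hi'
  have hk' : k * axis u * k⁻¹ = axis v ^ i := h.inj (by rw [map_mul, map_mul, map_inv, hk]; exact hi')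
  have h3 : axis v ^ (3 : ℤ) = 1 := by exact_mod_cast tr_cube _ av
  rw [← Int.emod_add_mul_ediv i 3, zpow_add, zpow_mul, h3, one_zpow, mul_one] at hk'
  obtain ⟨n1, n2⟩ := axis_conj u v huv k
  rcases (show i % 3 = 0 ∨ i % 3 = 1 ∨ i % 3 = 2 by omega) with e | e | e <;> rw [e] at hk'
  · exact nu' (conj_eq_one_iff.1 (hk'.trans (zpow_zero _)))
  · exact n1 (hk'.trans (zpow_one _))
  · exact n2 (hk'.trans (zpow_two _))

theorem Cfg₀.invType_iff [Finite G] (h : Cfg₀ φ) (u : Fin 3) (m : M₀) :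
    invType u m = true ↔ IsConj (φ (inv₀ u)) (φ m) := by
  have fwd : ∀ w, invType w m = true → IsConj (φ (inv₀ w)) (φ m) := fun w hw => by
    obtain ⟨k, -, hk⟩ := invType_conj w m hw
    exact φ.map_isConj (isConj_iff.2 ⟨k, hk⟩)
  refine ⟨fwd u, fun hc => ?_⟩
  obtain ⟨g, hg⟩ := isConj_iff.1 hc
  obtain ⟨s, n, -, -⟩ := inv₀_facts u
  have hsq : m * m = 1 := h.inj (by
    rw [map_mul, ← hg, map_one, show g * φ (inv₀ u) * g⁻¹ * (g * φ (inv₀ u) * g⁻¹) =
      g * (φ (inv₀ u) * φ (inv₀ u)) * g⁻¹ by group, ← map_mul, s]; simp)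
  have hne : m ≠ 1 := fun e => n (h.inj (by
    rw [map_one]
    rw [e, map_one] at hg
    exact conj_eq_one_iff.1 hg))
  obtain ⟨w, hw⟩ := invType_cover m hsq hne
  rcases eq_or_ne u w with rfl | huw
  · exact hw
  · exact absurd (hc.trans (fwd w hw).symm) (h.not_isConj huw)

/-- A vector of norm three with a coefficient minus one at a given place. -/
theorem supp_three {ι : Type*} [Fintype ι] (o : ι) (f : ι → ℤ) (hf : ∑ x, f x * f x = 3)
    (ho : f o = -1) :
    ∃ A B, A ≠ B ∧ (f A = 1 ∨ f A = -1) ∧ (f B = 1 ∨ f B = -1) ∧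
      ∀ g : ι → ℚ, ∑ x, (f x : ℚ) * g x = -g o + f A * g A + f B * g B := by
  classical
  have hb : ∀ x, f x = 0 ∨ f x = 1 ∨ f x = -1 := fun x => by
    have hx : f x * f x ≤ 3 := hf ▸ Finset.single_le_sum (f := fun x => f x * f x)
      (fun y _ => mul_self_nonneg _) (Finset.mem_univ x)
    have h1 : f x ≤ 1 := by nlinarith
    have h2 : -1 ≤ f x := by nlinarith
    omega
  have hcard : (Finset.univ.filter fun x => f x ≠ 0).card = 3 := by
    have e : ∀ x, f x * f x = if f x ≠ 0 then 1 else 0 := fun x => by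
      rcases hb x with e | e | e <;> simp [e]
    rw [Finset.sum_congr rfl fun x _ => e x, Finset.sum_boole] at hf
    exact_mod_cast hf
  have hmem : o ∈ Finset.univ.filter fun x => f x ≠ 0 := by simp [ho]
  obtain ⟨A, B, hAB, he⟩ := Finset.card_eq_two.1
    (show ((Finset.univ.filter fun x => f x ≠ 0).erase o).card = 2 by
      rw [Finset.card_erase_of_mem hmem, hcard])
  have hA : A ∈ (Finset.univ.filter fun x => f x ≠ 0).erase o := by simp [he]
  have hB : B ∈ (Finset.univ.filter fun x => f x ≠ 0).erase o := by simp [he]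
  refine ⟨A, B, hAB, (hb A).resolve_left (by simpa using (Finset.mem_erase.1 hA).2),
    (hb B).resolve_left (by simpa using (Finset.mem_erase.1 hB).2), fun g => ?_⟩
  rw [← Finset.sum_filter_of_ne (p := fun x => f x ≠ 0) (fun x _ hx => by
      intro h0; exact hx (by simp [h0])),
    ← Finset.add_sum_erase _ _ hmem, he, Finset.sum_pair hAB, ho]
  push_cast
  ring

variable [Fintype G]

theorem classInner_Phi (v : Fin 3) : classInner (Phi v) (Phi v) = 3 ∧
    classInner (Phi v) (fun _ : M₀ => (1 : ℂ)) = -1 := by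
  obtain ⟨h1, h2⟩ := fval_sums v
  have h1' : ∑ m : M₀, (fval (get m v) : ℂ) = -108 := by exact_mod_cast h1
  have h2' : ∑ m : M₀, (fval (get m v) : ℂ) * (fval (get m v) : ℂ) = 324 := by exact_mod_cast h2
  have hc : (Nat.card M₀ : ℂ) = 108 := by rw [Nat.card_eq_fintype_card, card_M₀]; norm_num
  simp only [classInner, Phi, map_one, mul_one, map_intCast, hc, h1', h2']
  norm_num

/-- One of the three normal subgroups. -/
theorem Cfg₀.exists_normal (h : Cfg₀ φ) (v : Fin 3) :
    ∃ K : Subgroup G, K.Normal ∧ φ (inv₀ v) ∈ K ∧ ∀ u, u ≠ v → φ (inv₀ u) ∉ K := by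
  classical
  have hdeg : ∀ χ : IrrCharacter G, ∃ z : ℤ, 0 < z ∧ (χ : G → ℂ) 1 = z := fun χ => by
    obtain ⟨n, hn, e⟩ := Char.IsIrr.degree χ.2
    exact ⟨n, by exact_mod_cast hn, by rw [e]; simp⟩
  choose d hdpos hd using hdeg
  have hcoef : ∀ χ : IrrCharacter G, ∃ z : ℤ, TISpecial.coef φ (Phi v) (χ : G → ℂ) = z := fun χ =>
    TISpecial.exists_int φ (isGeneralized_Phi v) (Char.IsIrr.isCharacter χ.2)
  choose c hc using hcoef
  have hint : ∀ u : Fin 3, ∀ χ : IrrCharacter G, ∃ w : ℤ, (χ : G → ℂ) (φ (inv₀ u)) = w := fun u χ => by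
    have hu' : φ (inv₀ u) * φ (inv₀ u) = 1 := by rw [← map_mul, (inv₀_facts u).1, map_one]
    obtain ⟨-, w, -, -, -, hw, -, -, -, -, -⟩ := ThreeKlein.six_values (Char.IsIrr.isCharacter χ.2)
      (x := φ (inv₀ u)) (by rw [show (6 : ℕ) = 2 * 3 from rfl, pow_mul, sq, hu', one_pow])
      (by rw [inv_eq_of_mul_eq_one_right hu'])
    exact ⟨w, by rw [← hw, pow_succ, sq, hu', one_mul]⟩
  choose U hU using hint
  let o : IrrCharacter G := ⟨fun _ => 1, Char.isIrrCharacter_one⟩
  have hgram : ∑ χ, c χ * c χ = 3 := by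
    have := TISpecial.sum_coef_mul_conj (F := Phi v) h.inj (isClassFunction_Phi v) (h.fused v)
    rw [(classInner_Phi v).1] at this
    simp only [hc, map_intCast] at this
    exact_mod_cast this
  have hco : c o = -1 := by
    have : TISpecial.coef φ (Phi v) (o : G → ℂ) = -1 := (classInner_Phi v).2
    rw [hc] at this
    exact_mod_cast this
  obtain ⟨A, B, -, hσ, hτ, hsum⟩ := supp_three o c hgram hco
  have hzero : ∀ (m : M₀), fval (get m v) = 0 → ∀ (W : IrrCharacter G → ℤ),
      (∀ χ : IrrCharacter G, (χ : G → ℂ) (φ m) = W χ) → ∑ χ, (c χ : ℚ) * (W χ : ℚ) = 0 := by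
    intro m hm W hW
    have := TISpecial.sum_coef_mul h.inj (Phi v) (φ m)
    rw [TISpecial.ind_map h.inj (isClassFunction_Phi v) (h.fused v)] at this
    simp only [hc, hW, Phi, hm, Int.cast_zero] at this
    exact_mod_cast this
  have hdo : d o = 1 := by exact_mod_cast (show (d o : ℂ) = 1 from (hd o).symm)
  have hUo : ∀ u, U u o = 1 := fun u => by
    exact_mod_cast (show (U u o : ℂ) = 1 from (hU u o).symm)
  have sd := hzero 1 (fval_zero v).1 d fun χ => by rw [map_one]; exact hd χ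
  have su := fun u => hzero (inv₀ u) ((fval_zero v).2 u) (U u) (hU u)
  have suu : ∀ u, ∑ χ, (c χ : ℚ) * ((U u χ : ℚ) * U u χ / d χ) =
      (Nat.card (centralizer ({φ (inv₀ u)} : Set G)) : ℚ) *
        Nat.card (centralizer ({φ (inv₀ u)} : Set G)) / (Nat.card G * 108) *
        (if v = u then 0 else -162 : ℤ) := by
    intro u
    have hs : φ (inv₀ u) * φ (inv₀ u) = 1 := by rw [← map_mul, (inv₀_facts u).1, map_one]
    have := TISpecial.pair_sum h.inj (h.fused v) (u := φ (inv₀ u)) (u' := φ (inv₀ u)) hs hs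
      (invType u) (invType u) (h.invType_iff u) (h.invType_iff u)
    have hS : (∑ m : M₀, ∑ m' : M₀, if invType u m && invType u m' then Phi v (m * m') else 0) =
        (((if v = u then 0 else -162 : ℤ)) : ℂ) := by
      rw [← pairs_eq v u, Int.cast_sum, Finset.sum_filter]
      refine Finset.sum_congr rfl fun m _ => ?_
      by_cases hm : invType u m = true
      · rw [if_pos hm, Int.cast_sum, Finset.sum_filter]
        refine Finset.sum_congr rfl fun m' _ => ?_
        by_cases hm' : invType u m' = true <;> simp [hm, hm', Phi]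
      · simp [hm]
    rw [hS, Nat.card_eq_fintype_card (α := M₀), card_M₀] at this
    simp only [hc, hd, hU] at this
    apply Rat.cast_injective (α := ℂ)
    by_cases hvu : v = u <;> simp only [hvu, if_true, if_false] at this ⊢ <;>
      push_cast at this ⊢ <;> exact this
  have hA0 : (d A : ℚ) ≠ 0 := Int.cast_ne_zero.2 (hdpos A).ne'
  have hB0 : (d B : ℚ) ≠ 0 := Int.cast_ne_zero.2 (hdpos B).ne'
  have hkey : ∀ u, (U u A = d A ∧ U u B = d B) ↔ v = u := by
    intro u
    have e1 := sd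
    have e2 := su u
    have e3 := suu u
    rw [hsum] at e1 e2 e3
    rw [hdo] at e1 e3
    rw [hUo] at e2 e3
    push_cast at e1 e2 e3
    constructor
    · rintro ⟨eA, eB⟩
      by_contra hvu
      rw [eA, eB, if_neg hvu] at e3
      field_simp at e3
      push_cast at e3
      have hC : (Nat.card (centralizer ({φ (inv₀ u)} : Set G)) : ℚ) ≠ 0 :=
        Nat.cast_ne_zero.2 Nat.card_pos.ne'
      have : (0 : ℚ) < (Nat.card (centralizer ({φ (inv₀ u)} : Set G)) : ℚ) *
          Nat.card (centralizer ({φ (inv₀ u)} : Set G)) := mul_self_pos.2 hC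
      nlinarith [this]
    · intro hvu
      rw [if_pos hvu] at e3
      simp only [mul_zero, mul_one, one_div, inv_one] at e3
      have hs : (c A : ℚ) * c A = 1 ∧ (c B : ℚ) * c B = 1 := by
        rcases hσ with e | e <;> rcases hτ with e' | e' <;> simp [e, e']
      have hAB : (c A : ℚ) * d A + c B * d B = 1 := by linear_combination e1
      have hxy : (c A : ℚ) * U u A + c B * U u B = 1 := by linear_combination e2
      field_simp at e3
      have hsq : ((c A : ℚ) * U u A - c A * d A) * ((c A : ℚ) * U u A - c A * d A) = 0 := by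
        linear_combination (c A : ℚ) * (c B : ℚ) * e3 -
          ((c A * U u A : ℚ) ^ 2 - c A * d A) * hAB -
          (c A : ℚ) * d A * (c B * U u B + 1 - c A * U u A) * hxy
      have hA' : (U u A : ℚ) = d A := by
        have := mul_self_eq_zero.1 hsq
        rcases hσ with e | e <;> rw [e] at this <;> push_cast at this <;> linarith
      have hB' : (U u B : ℚ) = d B := by
        have : (c B : ℚ) * (U u B - d B) = 0 := by rw [hA'] at hxy; linear_combination hxy - hAB
        rcases hτ with e | e <;> rw [e] at this <;> push_cast at this <;> linarith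
      exact ⟨by exact_mod_cast hA', by exact_mod_cast hB'⟩
  have mem : ∀ u, φ (inv₀ u) ∈ Char.kerSubgroup (Char.IsIrr.isCharacter A.2) ⊓
      Char.kerSubgroup (Char.IsIrr.isCharacter B.2) ↔ v = u := by
    intro u
    rw [← hkey, mem_inf, Char.mem_kerSubgroup, Char.mem_kerSubgroup, hU, hU, hd, hd]
    exact ⟨fun ⟨a, b⟩ => ⟨by exact_mod_cast a, by exact_mod_cast b⟩,
      fun ⟨a, b⟩ => ⟨by exact_mod_cast a, by exact_mod_cast b⟩⟩
  exact ⟨_, inferInstance, (mem v).2 rfl, fun u hu hmem => hu ((mem u).1 hmem).symm⟩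

omit [Fintype G] in
/-- The configuration fills the whole group. -/
theorem Cfg₀.range_eq_top [Finite G] (h : Cfg₀ φ) : φ.range = ⊤ := by
  classical
  haveI := Fintype.ofFinite G
  haveI : Fact (Nat.Prime 3) := ⟨Nat.prime_three⟩
  obtain ⟨K0, n0, m0, k0⟩ := h.exists_normal 0
  obtain ⟨K1, n1, m1, k1⟩ := h.exists_normal 1
  set K := K0 ⊓ K1 with hK
  haveI : K.Normal := Subgroup.normal_inf_normal K0 K1
  have htr : ∀ m : M₀, φ m ∈ K → IsTr m := fun m hm => by
    by_contra hn
    obtain ⟨s, n⟩ := cube_facts m hn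
    have hi : φ (m ^ 3) ∈ K := by rw [map_pow]; exact pow_mem hm 3
    obtain ⟨w, hw⟩ := invType_cover _ s n
    obtain ⟨g, hg⟩ := isConj_iff.1 ((h.invType_iff w _).1 hw).symm
    have hwK : φ (inv₀ w) ∈ K := hg ▸ (inferInstance : K.Normal).conj_mem _ hi g
    rcases eq_or_ne w 0 with rfl | hw0
    · exact k1 0 (by decide) hwK.2
    · exact k0 w hw0 hwK.1
  obtain ⟨a2, na2, -, -, -⟩ := axis_facts 2
  have ha2 : φ (axis 2) ∈ K := by
    refine ⟨?_, ?_⟩
    · rw [← comm_axis_two 0 (by decide)]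
      simp only [map_mul, map_inv]
      rw [mul_assoc, mul_assoc]
      exact mul_mem m0 (by rw [← mul_assoc]; exact n0.conj_mem _ (inv_mem m0) _)
    · rw [← comm_axis_two 1 (by decide)]
      simp only [map_mul, map_inv]
      rw [mul_assoc, mul_assoc]
      exact mul_mem m1 (by rw [← mul_assoc]; exact n1.conj_mem _ (inv_mem m1) _)
  set R : Subgroup K := φ.range.subgroupOf K with hR
  have hRtr : ∀ y : K, y ∈ R → ∃ m, IsTr m ∧ φ m = y := fun y hy => by
    obtain ⟨m, hm⟩ := mem_subgroupOf.1 hy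
    exact ⟨m, htr m (hm ▸ y.2), hm⟩
  have hcube : ∀ y : K, y ∈ R → y ^ 3 = 1 := fun y hy => by
    obtain ⟨m, hm, e⟩ := hRtr y hy
    refine Subtype.ext ?_
    show (y : G) ^ 3 = 1
    rw [← e, ← map_pow, tr_cube m hm, map_one]
  have hcomm : ∀ a ∈ R, ∀ b ∈ R, a * b = b * a := fun a ha b hb => by
    obtain ⟨m, hm, e⟩ := hRtr a ha
    obtain ⟨m', hm', e'⟩ := hRtr b hb
    refine Subtype.ext ?_
    show (a : G) * b = b * a
    rw [← e, ← e', ← map_mul, ← map_mul, tr_commute hm hm']
  have hRp : IsPGroup 3 R := fun y => ⟨1, Subtype.ext (hcube y y.2)⟩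
  have hfix : ∀ g : G, g * φ (axis 2) * g⁻¹ ∈ φ.range → g ∈ φ.range := fun g ⟨m, hm⟩ =>
    h.fus g _ m a2 na2 hm.symm
  have hnR : normalizer (R : Set K) = R := by
    refine le_antisymm (fun y hy => ?_) le_normalizer
    have hmem : (⟨φ (axis 2), ha2⟩ : K) ∈ R := mem_subgroupOf.2 ⟨_, rfl⟩
    exact mem_subgroupOf.2 (hfix y (mem_subgroupOf.1 ((mem_normalizer_iff.1 hy _).1 hmem)))
  obtain ⟨P, hP⟩ := hRp.exists_le_sylow
  have hPR : (P : Subgroup K) = R := by
    by_contra hne
    obtain ⟨k, hk⟩ := IsPGroup.iff_card.1 hRp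
    obtain ⟨l, hl⟩ := IsPGroup.iff_card.1 P.isPGroup'
    have hlt : k < l := by
      by_contra hle
      exact hne (eq_of_le_of_card_ge hP (by
        rw [hk, hl]; exact Nat.pow_le_pow_right (by norm_num) (not_lt.1 hle))).symm
    have hq := Sylow.prime_dvd_card_quotient_normalizer (p := 3) (n := k)
      ((Nat.pow_dvd_pow 3 (show k + 1 ≤ l from hlt)).trans (hl ▸ card_subgroup_dvd_card _)) (H := R) hk
    rw [hnR] at hq
    have h1 : Nat.card (R ⧸ R.comap R.subtype) = 1 := by
      rw [show R.comap R.subtype = ⊤ from eq_top_iff.2 fun x _ => x.2]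
      exact Subgroup.index_top
    omega
  have hPc : normalizer ((P : Subgroup K) : Set K) ≤ centralizer ((P : Subgroup K) : Set K) := by
    rw [hPR, hnR]
    exact fun a ha b hb => hcomm b hb a ha
  set f := MonoidHom.transferSylow P hPc with hf
  have h3O : ¬ 3 ∣ Nat.card f.ker := MonoidHom.not_dvd_card_ker_transferSylow P hPc
  set O : Subgroup G := f.ker.map K.subtype with hO
  have hOmem : ∀ y : K, (orderOf y).Coprime 3 → (y : G) ∈ O := fun y hy => by
    refine ⟨y, orderOf_eq_one_iff.1 ?_, rfl⟩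
    obtain ⟨n, hn⟩ := IsPGroup.iff_orderOf.1 P.isPGroup' (f y)
    exact Nat.eq_one_of_dvd_coprimes (hy.pow_right n) (orderOf_map_dvd f y) (by rw [hn])
  haveI : O.Normal := ⟨fun a ha g => by
    obtain ⟨y, hy, rfl⟩ := ha
    have hco : (orderOf y).Coprime 3 := by
      refine Nat.Coprime.symm (Nat.prime_three.coprime_iff_not_dvd.2 fun e => h3O ?_)
      exact e.trans ((Subgroup.orderOf_coe ⟨y, hy⟩).symm ▸ _root_.orderOf_dvd_natCard (⟨y, hy⟩ : f.ker))
    refine hOmem ⟨g * (y : G) * g⁻¹, (inferInstance : K.Normal).conj_mem _ y.2 g⟩ ?_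
    rw [← Subgroup.orderOf_coe]
    show (orderOf (g * (y : G) * g⁻¹)).Coprime 3
    rw [← MulAut.conj_apply, MulEquiv.orderOf_eq, Subgroup.orderOf_coe]
    exact hco⟩
  let T : Subgroup M₀ :=
    { carrier := {m | IsTr m}
      one_mem' := isTr_one
      mul_mem' := fun ha hb => tr_mul _ _ ha hb
      inv_mem' := fun ha => tr_inv _ ha }
  set A := T.map φ with hA
  haveI : IsMulCommutative A := ⟨⟨fun ⟨x, a, ha, ea⟩ ⟨y, b, hb, eb⟩ => Subtype.ext (by
    show x * y = y * x
    rw [← ea, ← eb, ← map_mul, ← map_mul, tr_commute ha hb])⟩⟩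
  have hcA : Nat.card A = 27 := by
    rw [hA, card_map_of_injective h.inj, Nat.card_eq_fintype_card, ← card_tr]
    exact Fintype.card_of_subtype _ fun m => by simp [T]
  have hnc : ¬ IsCyclic A := fun hc => by
    obtain ⟨⟨g, a, ha, rfl⟩, hg⟩ := hc.exists_ofOrder_eq_natCard (α := A)
    have hg3 : (⟨φ a, a, ha, rfl⟩ : A) ^ 3 = 1 := by
      refine Subtype.ext ?_
      show φ a ^ 3 = 1
      rw [← map_pow, tr_cube a ha, map_one]
    have := Nat.le_of_dvd (by norm_num) (orderOf_dvd_of_pow_eq_one hg3)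
    omega
  have hObot : O = ⊥ := by
    rw [← Coprime.iSup_centralizer_eq (A := A) (K := O) hnc (le_normalizer_of_normal.trans' le_top)
      (by rw [hcA, hO, card_map_of_injective K.subtype_injective, show (27 : ℕ) = 3 ^ 3 from rfl]
          exact Nat.Coprime.pow_left 3 (Nat.prime_three.coprime_iff_not_dvd.2 h3O))]
    refine eq_bot_iff.2 (iSup₂_le fun a ha y hy => ?_)
    obtain ⟨⟨t, ht, rfl⟩, ha1⟩ := ha
    have ht1 : t ≠ 1 := fun e => ha1 (by rw [e, map_one])
    obtain ⟨m, hm⟩ := h.fus y t t ht ht1 (by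
      rw [mem_centralizer_singleton_iff.1 hy.2, mul_inv_cancel_right])
    obtain ⟨z, hz, e⟩ := hy.1
    have hzR : z ∈ R := mem_subgroupOf.2 ⟨m, hm.trans e.symm⟩
    have hzP : z ∈ (P : Subgroup K) := hPR ▸ hzR
    have : z = 1 := (disjoint_def.1
      (MonoidHom.ker_transferSylow_isComplement' P hPc).disjoint) hz hzP
    rw [mem_bot, ← e, this]
    simp
  have hker : f.ker = ⊥ := by
    rw [eq_bot_iff]
    intro y hy
    have : (y : G) ∈ O := ⟨y, hy, rfl⟩
    rw [hObot, mem_bot] at this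
    exact Subtype.ext this
  have hRtop : R = ⊤ := by
    rw [← hPR]
    exact isComplement'_bot_left.1 (hker ▸ MonoidHom.ker_transferSylow_isComplement' P hPc)
  refine eq_top_iff.2 fun g _ => hfix g ?_
  exact mem_subgroupOf.1 (hRtop ▸ mem_top (⟨_, (inferInstance : K.Normal).conj_mem _ ha2 g⟩ : K))

end Cfsg.Agent.McLThree.Strong
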