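import Cfsg.Agent.McLThree.StrongRefl

/-!
# Coordinates on `J` at a point centralised by a four-group

`Coord C` names a point `y`, two involutions `v, w` fixing it, an element `r` permuting `v, w, v * w`
cyclically and a generator `e` of the fixed points of `v` inverted by `w`.  An element of `N(J)`
fixing `y` acts on the three lines of `J` modulo `y` by a monomial map of determinant one.
-/

set_option autoImplicit false

namespace Cfsg.Agent.McLThree.Strong

open Subgroup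
open Cfsg.Agent.McLLoc

variable {G : Type*} [Group G] [Finite G] {s : Setting G}

/-- The named elements. -/
structure Coord (C : Chart s) where
  /-- The point. -/
  y : s.J
  /-- An involution fixing it. -/
  v : s.M
  /-- A second one. -/
  w : s.M
  /-- An element permuting the three involutions. -/
  r : s.M
  /-- A generator of the line fixed by `v` and inverted by `w`. -/
  e : s.J
  four : IsFour C y
  vv : v * v = 1
  ww : w * w = 1
  vw : v * w = w * v
  pair : Pair (C.φ v) (C.φ w)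
  rv : r * v * r⁻¹ = w
  rw' : r * w * r⁻¹ = v * w
  r_cube : (r : G) ^ 3 ∈ zpowers (y : G)
  r_not : (r : G) ∉ s.J
  e_ne : e ≠ 1
  v_y : C.ρ (C.φ v) y = y
  w_y : C.ρ (C.φ w) y = y
  r_y : C.ρ (C.φ r) y = y
  v_e : C.ρ (C.φ v) e = e
  w_e : C.ρ (C.φ w) e = e⁻¹

variable {C : Chart s}

theorem coord_act (v w r : s.M) (hp : Pair (C.φ v) (C.φ w)) (rv : r * v * r⁻¹ = w)
    (rw' : r * w * r⁻¹ = v * w) (hr : (r : G) ^ 3 ∈ s.J) :
    Four.Act (C.ρ (C.φ v)) (C.ρ (C.φ w)) (C.ρ (C.φ r)) :=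
  C.act hp.vv hp.ww hp.comm (by rw [← map_inv, ← map_mul, ← map_mul, rv])
    (by rw [← map_inv, ← map_mul, ← map_mul, rw', map_mul])
    (by
      rw [← map_mul, ← map_mul, C.φ_eq_one]
      rwa [pow_succ, sq] at hr) hp.v_ne

theorem commute_of_rho {m : s.M} {j : s.J} (h : C.ρ (C.φ m) j = j) : Commute (m : G) j := by
  have := congrArg Subtype.val h
  rw [C.ρ_apply] at this
  exact mul_inv_eq_iff_eq_mul.1 this

/-- Coordinates exist. -/
theorem exists_coord {v w : G} (hvM : v ∈ s.M) (hwM : w ∈ s.M) (hv : orderOf v = 2) (hw : orderOf w = 2)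
    (hne : v ≠ w) (hvw : Commute v w) {j : G} (hj : j ∈ s.J) (hj1 : j ≠ 1) (hvj : Commute v j)
    (hwj : Commute w j) : ∃ c : Coord C, (c.y : G) = j := by
  classical
  set vm : s.M := ⟨v, hvM⟩
  set wm : s.M := ⟨w, hwM⟩
  have hv2 : v * v = 1 := by rw [← sq, ← hv]; exact pow_orderOf_eq_one v
  have hw2 : w * w = 1 := by rw [← sq, ← hw]; exact pow_orderOf_eq_one w
  have hvm : vm * vm = 1 := Subtype.ext hv2
  have hwm : wm * wm = 1 := Subtype.ext hw2
  have hcm : vm * wm = wm * vm := Subtype.ext hvw.eq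
  have hsmall : ∀ x : s.M, x * x = 1 → (x : G) ∈ s.J → x = 1 := fun x hx hxJ => by
    refine Subtype.ext ?_
    have h3 := s.hJexp _ hxJ
    rw [pow_succ, sq, show (x : G) * x = 1 from congrArg Subtype.val hx, one_mul] at h3
    exact h3
  have hpair : Pair (C.φ vm) (C.φ wm) := by
    refine ⟨by rw [← map_mul, hvm, map_one], by rw [← map_mul, hwm, map_one], fun e => ?_, fun e => ?_,
      fun e => ?_, by rw [← map_mul, hcm, map_mul]⟩
    · have := congrArg Subtype.val (hsmall vm hvm (C.φ_eq_one.1 e))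
      simp [vm] at this
      rw [this, orderOf_one] at hv; norm_num at hv
    · have := congrArg Subtype.val (hsmall wm hwm (C.φ_eq_one.1 e))
      simp [wm] at this
      rw [this, orderOf_one] at hw; norm_num at hw
    · have hx : (vm * wm) * (vm * wm) = 1 := by
        rw [show vm * wm * (vm * wm) = vm * (wm * vm) * wm by group, ← hcm, ← mul_assoc, hvm, one_mul, hwm]
      have := congrArg Subtype.val (hsmall _ hx (C.φ_eq_one.1 (by rw [map_mul, e, ← map_mul, hwm, map_one])))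
      exact hne (by
        have h' : v * w = 1 := this
        calc v = v * (w * w) := by rw [hw2, mul_one]
          _ = (v * w) * w := by group
          _ = w := by rw [h', one_mul])
  obtain ⟨R, hR3, hR1, hRv, hRw⟩ := hpair.exists_rot
  obtain ⟨r1, rfl⟩ := C.surj R
  -- move the image of `v`
  have hJn : ∀ m : s.M, ∀ a ∈ s.J, (m : G) * a * (m : G)⁻¹ ∈ s.J := fun m a ha =>
    (mem_normalizer_iff.1 (s.M_le_normJ m.2) a).1 ha
  have fix1 : ∀ (x t : s.M), x * x = 1 → t * t = 1 → C.φ x = C.φ t →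
      ∃ a : s.M, (a : G) ∈ s.J ∧ a * x * a⁻¹ = t ∧
        ∀ u : s.M, Commute u t → Commute u x → Commute u a := by
    intro x t hx ht he
    set k : s.M := t * x with hk
    have hkJ : (k : G) ∈ s.J := C.φ_eq_one.1 (by rw [hk, map_mul, he, ← map_mul, ht, map_one])
    refine ⟨k⁻¹, inv_mem hkJ, ?_, fun u hut hux => (hut.mul_right hux).inv_right⟩
    have hk3 : k * k * k = 1 := Subtype.ext (by
      show (k : G) * k * k = 1
      simpa [pow_succ] using s.hJexp _ hkJ)
    have e1 : x = t * k := by rw [hk, ← mul_assoc, ht, one_mul]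
    have e2 : t * k * t = k⁻¹ := by
      refine eq_inv_of_mul_eq_one_left ?_
      rw [hk, show t * (t * x) * t * (t * x) = (t * t) * x * (t * t) * x by group, ht, one_mul, mul_one, hx]
    have e2' : t * k⁻¹ * t = k := by
      rw [← e2, show t * (t * k * t) * t = (t * t) * k * (t * t) by group, ht, one_mul, mul_one]
    calc k⁻¹ * x * k⁻¹⁻¹ = k⁻¹ * (t * k) * k := by rw [inv_inv, ← e1]
      _ = (t * t) * k⁻¹ * t * k * k := by rw [ht]; group
      _ = t * (t * k⁻¹ * t) * (k * k) := by group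
      _ = t * (k * k * k) := by rw [e2']; group
      _ = t := by rw [hk3, mul_one]
  have hr1v : r1 * vm * r1⁻¹ * (r1 * vm * r1⁻¹) = 1 := by
    rw [show r1 * vm * r1⁻¹ * (r1 * vm * r1⁻¹) = r1 * (vm * vm) * r1⁻¹ by group, hvm]; group
  obtain ⟨a, haJ, hav, -⟩ := fix1 (r1 * vm * r1⁻¹) wm hr1v hwm (by rw [map_mul, map_mul, map_inv, hRv])
  set r2 := a * r1
  have hr2v : r2 * vm * r2⁻¹ = wm := by
    rw [← hav]; simp only [r2]; group
  have hr2w2 : r2 * wm * r2⁻¹ * (r2 * wm * r2⁻¹) = 1 := by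
    rw [show r2 * wm * r2⁻¹ * (r2 * wm * r2⁻¹) = r2 * (wm * wm) * r2⁻¹ by group, hwm]; group
  have hvwm : vm * wm * (vm * wm) = 1 := by
    rw [show vm * wm * (vm * wm) = vm * (wm * vm) * wm by group, ← hcm, ← mul_assoc, hvm, one_mul, hwm]
  obtain ⟨b, hbJ, hbw, hbc⟩ := fix1 (r2 * wm * r2⁻¹) (vm * wm) hr2w2 hvwm (by
    rw [map_mul, map_mul, map_inv, map_mul C.φ a r1, C.φ_eq_one.2 haJ, one_mul, hRw, map_mul])
  have hbv : Commute wm b := hbc wm ((show Commute wm vm from hcm.symm).mul_right rfl) (by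
    have h := (show Commute vm wm from hcm).conj r2
    rwa [hr2v] at h)
  set r := b * r2
  have rv : r * vm * r⁻¹ = wm := by
    rw [show r * vm * r⁻¹ = b * (r2 * vm * r2⁻¹) * b⁻¹ by simp only [r]; group, hr2v, ← hbv.eq,
      mul_inv_cancel_right]
  have rw' : r * wm * r⁻¹ = vm * wm := by
    rw [← hbw]; simp only [r]; group
  have hφr : C.φ r = C.φ r1 := by
    simp only [r, r2, map_mul, C.φ_eq_one.2 haJ, C.φ_eq_one.2 hbJ, one_mul]
  have hr3J : (r : G) ^ 3 ∈ s.J := by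
    rw [← SubgroupClass.coe_pow, ← C.φ_eq_one, map_pow, hφr, pow_succ, sq, hR3]
  set A := coord_act (C := C) vm wm r hpair rv rw' hr3J
  set y : s.J := ⟨j, hj⟩
  have hvy : C.ρ (C.φ vm) y = y := Subtype.ext (by
    rw [C.ρ_apply]; show v * j * v⁻¹ = j
    rw [hvj.eq, mul_inv_cancel_right])
  have hwy : C.ρ (C.φ wm) y = y := Subtype.ext (by
    rw [C.ρ_apply]; show w * j * w⁻¹ = j
    rw [hwj.eq, mul_inv_cancel_right])
  have hy1 : y ≠ 1 := fun e => hj1 (congrArg Subtype.val e)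
  have hry : C.ρ (C.φ r) y = y := by
    have := rot_fix C hpair hRv hRw hR3 (a := y) hvy hwy
    rwa [hφr]
  have hFix : Four.Fix A = zpowers y := by
    refine (eq_of_le_of_card_ge (zpowers_le.2 (show y ∈ Four.Fix A from ⟨hvy, hwy⟩)) ?_).symm
    rw [(Four.card_parts A).1, Nat.card_zpowers, orderOf_eq_prime (p := 3) (A.cube y) hy1]
  obtain ⟨⟨e, he⟩, he1⟩ : ∃ e : Four.Eig A, e ≠ 1 := by
    have : 1 < Nat.card (Four.Eig A) := by rw [(Four.card_parts A).2]; norm_num
    have := Finite.one_lt_card_iff_nontrivial.1 this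
    exact exists_ne 1
  have hcube : (r : G) ^ 3 ∈ zpowers (y : G) := by
    have hmem : (⟨(r : G) ^ 3, hr3J⟩ : s.J) ∈ Four.Fix A := by
      have key : ∀ x : s.M, r * r * r * x * (r * r * r)⁻¹ = x →
          C.ρ (C.φ x) ⟨(r : G) ^ 3, hr3J⟩ = ⟨(r : G) ^ 3, hr3J⟩ := by
        intro x hx
        refine Subtype.ext ?_
        rw [C.ρ_apply]
        have hc : Commute ((r * r * r : s.M) : G) x :=
          congrArg Subtype.val (mul_inv_eq_iff_eq_mul.1 hx)
        show (x : G) * (r : G) ^ 3 * (x : G)⁻¹ = (r : G) ^ 3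
        rw [show (r : G) ^ 3 = ((r * r * r : s.M) : G) by simp [pow_succ, mul_assoc], hc.symm.eq,
          mul_inv_cancel_right]
      constructor
      · refine key vm ?_
        rw [show r * r * r * vm * (r * r * r)⁻¹ = r * (r * (r * vm * r⁻¹) * r⁻¹) * r⁻¹ by group, rv, rw',
          show r * (vm * wm) * r⁻¹ = (r * vm * r⁻¹) * (r * wm * r⁻¹) by group, rv, rw', hcm, ← mul_assoc, hwm,
          one_mul]
      · refine key wm ?_
        rw [show r * r * r * wm * (r * r * r)⁻¹ = r * (r * (r * wm * r⁻¹) * r⁻¹) * r⁻¹ by group, rw',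
          show r * (vm * wm) * r⁻¹ = (r * vm * r⁻¹) * (r * wm * r⁻¹) by group, rv, rw', hcm,
          show r * (wm * (wm * vm)) * r⁻¹ = r * ((wm * wm) * vm) * r⁻¹ by group, hwm, one_mul, rv]
    rw [hFix] at hmem
    obtain ⟨i, hi⟩ := mem_zpowers_iff.1 hmem
    exact ⟨i, by simpa using congrArg Subtype.val hi⟩
  refine ⟨{ y := y, v := vm, w := wm, r := r, e := e, four := ⟨hy1, _, _, hpair, hvy, hwy⟩, vv := hvm,
            ww := hwm, vw := hcm, pair := hpair, rv := rv, rw' := rw', r_cube := hcube,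
            r_not := fun hm => hR1 (hφr ▸ C.φ_eq_one.2 hm), e_ne := fun h => he1 (Subtype.ext h),
            v_y := hvy, w_y := hwy, r_y := hry, v_e := he.1, w_e := he.2 }, rfl⟩

/-- Sign. -/
def sg : Bool → ZMod 3
  | true => -1
  | false => 1

/-- Vectors. -/
abbrev Vec : Type := Fin 3 → ZMod 3

/-- A monomial map. -/
def mon (π : Equiv.Perm (Fin 3)) (ε : Fin 3 → Bool) (i : Vec) : Vec :=
  fun p => sg (ε (π.symm p)) * i (π.symm p)

/-- The determinant is one. -/
def DetOne (π : Equiv.Perm (Fin 3)) (ε : Fin 3 → Bool) : Prop :=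
  ((Equiv.Perm.sign π : ℤ) : ZMod 3) * (sg (ε 0) * sg (ε 1) * sg (ε 2)) = 1

instance (π : Equiv.Perm (Fin 3)) (ε : Fin 3 → Bool) : Decidable (DetOne π ε) :=
  inferInstanceAs (Decidable (_ = _))

/-- The rotation of the coordinates. -/
def rotV (i : Vec) : Vec := fun p => i (p - 1)

/-- The sign changes. -/
def flipV (u : Fin 3) (i : Vec) : Vec := fun p => if p = u then i p else -i p

namespace Coord

variable (c : Coord C)

theorem act : Four.Act (C.ρ (C.φ c.v)) (C.ρ (C.φ c.w)) (C.ρ (C.φ c.r)) :=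
  coord_act c.v c.w c.r c.pair c.rv c.rw' (zpowers_le.2 c.y.2 c.r_cube)

/-- The three lines. -/
noncomputable def ax : Fin 3 → s.J :=
  ![c.e, C.ρ (C.φ c.r) c.e, C.ρ (C.φ c.r) (C.ρ (C.φ c.r) c.e)]

/-- The three involutions. -/
def inv : Fin 3 → s.M := ![c.v, c.w, c.v * c.w]

theorem ax_cube (u : Fin 3) : c.ax u ^ 3 = 1 := c.act.cube _

/-- A point of the three lines. -/
noncomputable def vec (i : Vec) : s.J :=
  c.ax 0 ^ (i 0).val * c.ax 1 ^ (i 1).val * c.ax 2 ^ (i 2).val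

theorem pow_add3 {a : s.J} (ha : a ^ 3 = 1) (m n : ZMod 3) : a ^ (m + n).val = a ^ m.val * a ^ n.val := by
  rw [← pow_add, ZMod.val_add, ← pow_eq_pow_mod _ ha]

theorem pow_neg3 {a : s.J} (ha : a ^ 3 = 1) (m : ZMod 3) : a ^ (-m).val = (a ^ m.val)⁻¹ := by
  refine eq_inv_of_mul_eq_one_left ?_
  rw [← pow_add3 ha, neg_add_cancel, ZMod.val_zero, pow_zero]

theorem vec_add (i j : Vec) : c.vec (i + j) = c.vec i * c.vec j := by
  letI : CommGroup s.J := { (inferInstance : Group s.J) with mul_comm := c.act.comm }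
  simp only [vec, Pi.add_apply, pow_add3 (c.ax_cube _), mul_assoc, mul_left_comm]

theorem vec_zero : c.vec 0 = 1 := by simp [vec]

theorem vec_single (u : Fin 3) (n : ZMod 3) : c.vec (Pi.single u n) = c.ax u ^ n.val := by
  fin_cases u <;> simp [vec]

theorem vec_neg (i : Vec) : c.vec (-i) = (c.vec i)⁻¹ :=
  eq_inv_of_mul_eq_one_left (by rw [← vec_add, neg_add_cancel, vec_zero])

theorem vec_smul (n : ℕ) (i : Vec) : c.vec (n • i) = c.vec i ^ n := by
  induction n with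
  | zero => simp [vec_zero]
  | succ n ih => rw [succ_nsmul, vec_add, ih, pow_succ]

/-- A point of `J`. -/
noncomputable def pt (k : ZMod 3) (i : Vec) : s.J := c.y ^ k.val * c.vec i

theorem inv_y (u : Fin 3) : C.ρ (C.φ (c.inv u)) c.y = c.y := by
  fin_cases u
  · exact c.v_y
  · exact c.w_y
  · show C.ρ (C.φ (c.v * c.w)) c.y = c.y
    rw [map_mul, ← C.ρ_comp, c.w_y, c.v_y]

theorem inv_ax : ∀ u p : Fin 3, C.ρ (C.φ (c.inv u)) (c.ax p) = if p = u then c.ax p else (c.ax p)⁻¹ := by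
  have A := c.act
  have h0 : C.ρ (C.φ c.v) (c.ax 0) = c.ax 0 ∧ C.ρ (C.φ c.w) (c.ax 0) = (c.ax 0)⁻¹ := ⟨c.v_e, c.w_e⟩
  have h1 : C.ρ (C.φ c.v) (c.ax 1) = (c.ax 1)⁻¹ ∧ C.ρ (C.φ c.w) (c.ax 1) = c.ax 1 := by
    constructor
    · show C.ρ (C.φ c.v) (C.ρ (C.φ c.r) c.e) = (C.ρ (C.φ c.r) c.e)⁻¹
      rw [Four.v_r A, c.w_e, map_inv (C.ρ (C.φ c.v)), c.v_e, map_inv]
    · show C.ρ (C.φ c.w) (C.ρ (C.φ c.r) c.e) = C.ρ (C.φ c.r) c.e
      rw [Four.w_r A, c.v_e]
  have h2 : C.ρ (C.φ c.v) (c.ax 2) = (c.ax 2)⁻¹ ∧ C.ρ (C.φ c.w) (c.ax 2) = (c.ax 2)⁻¹ := by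
    constructor
    · show C.ρ (C.φ c.v) (C.ρ (C.φ c.r) (c.ax 1)) = (C.ρ (C.φ c.r) (c.ax 1))⁻¹
      rw [Four.v_r A, h1.2, h1.1, map_inv]
    · show C.ρ (C.φ c.w) (C.ρ (C.φ c.r) (c.ax 1)) = (C.ρ (C.φ c.r) (c.ax 1))⁻¹
      rw [Four.w_r A, h1.1, map_inv]
  intro u p
  fin_cases u <;> fin_cases p <;>
    simp [inv, map_mul, h0.1, h0.2, h1.1, h1.2, h2.1, h2.2]

theorem hom_pt {f : MulAut s.J} (hy : f c.y = c.y) {g : Vec → Vec}
    (hg : ∀ i, f (c.vec i) = c.vec (g i)) (k : ZMod 3) (i : Vec) : f (c.pt k i) = c.pt k (g i) := by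
  rw [pt, map_mul, map_pow, hy, hg, pt]

theorem inv_vec (u : Fin 3) (i : Vec) : C.ρ (C.φ (c.inv u)) (c.vec i) = c.vec (flipV u i) := by
  simp only [vec, map_mul, map_pow, c.inv_ax, flipV]
  congr 1
  congr 1
  all_goals split_ifs <;> simp [pow_neg3 (c.ax_cube _)]

theorem r_ax : ∀ p : Fin 3, C.ρ (C.φ c.r) (c.ax p) = c.ax (p + 1) := by
  intro p
  fin_cases p
  · rfl
  · rfl
  · exact c.act.rrr c.e

theorem r_vec (i : Vec) : C.ρ (C.φ c.r) (c.vec i) = c.vec (rotV i) := by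
  letI : CommGroup s.J := { (inferInstance : Group s.J) with mul_comm := c.act.comm }
  simp only [vec, map_mul, map_pow, c.r_ax, rotV, show (0 : Fin 3) + 1 = 1 from rfl,
    show (1 : Fin 3) + 1 = 2 from rfl, show (2 : Fin 3) + 1 = 0 from rfl, show (0 : Fin 3) - 1 = 2 from rfl,
    show (1 : Fin 3) - 1 = 0 from rfl, show (2 : Fin 3) - 1 = 1 from rfl, mul_assoc, mul_left_comm,
    mul_comm]

theorem pt_add (k l : ZMod 3) (i j : Vec) : c.pt (k + l) (i + j) = c.pt k i * c.pt l j := by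
  letI : CommGroup s.J := { (inferInstance : Group s.J) with mul_comm := c.act.comm }
  simp only [pt, vec_add, pow_add3 (c.act.cube c.y), mul_assoc, mul_left_comm]

theorem y_ne : c.y ≠ 1 := c.four.1

theorem orderOf_y : orderOf c.y = 3 := orderOf_eq_prime (c.act.cube _) c.y_ne

theorem ax_zero_mem : c.ax 0 ∈ Four.Eig c.act := ⟨c.v_e, c.w_e⟩

/-- The coordinates are bijective. -/
theorem pt_bijective : Function.Bijective (fun p : ZMod 3 × Vec => c.pt p.1 p.2) := by
  classical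
  rw [Nat.bijective_iff_injective_and_card]
  refine ⟨?_, by rw [s.hJcard, Nat.card_eq_fintype_card]; rfl⟩
  let q : ZMod 3 × Vec → Four.Fix c.act × Four.Eig c.act × Four.Eig c.act × Four.Eig c.act := fun p =>
    (⟨c.y ^ p.1.val, pow_mem (show c.y ∈ Four.Fix c.act from ⟨c.v_y, c.w_y⟩) _⟩,
      ⟨c.e ^ (p.2 0).val, pow_mem c.ax_zero_mem _⟩, ⟨c.e ^ (p.2 1).val, pow_mem c.ax_zero_mem _⟩,
      ⟨c.e ^ (p.2 2).val, pow_mem c.ax_zero_mem _⟩)
  have hq : ∀ p, Four.glue c.act (q p) = c.pt p.1 p.2 := fun p => by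
    simp only [Four.glue, q, pt, vec, ax, map_pow, mul_assoc, Matrix.cons_val_zero, Matrix.cons_val_one,
      Matrix.cons_val]
  intro p p' h
  simp only at h
  rw [← hq, ← hq] at h
  have h' := Four.glue_injective c.act h
  simp only [q, Prod.mk.injEq, Subtype.mk.injEq] at h'
  obtain ⟨hk, h0, h1, h2⟩ := h'
  have he : orderOf c.e = 3 := orderOf_eq_prime (c.act.cube _) c.e_ne
  have inj : ∀ {a : s.J}, orderOf a = 3 → ∀ m n : ZMod 3, a ^ m.val = a ^ n.val → m = n := by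
    intro a ha m n hmn
    refine ZMod.val_injective 3 ?_
    exact pow_injOn_Iio_orderOf (by rw [ha]; exact m.val_lt) (by rw [ha]; exact n.val_lt) hmn
  refine Prod.ext (inj c.orderOf_y _ _ hk) (funext fun u => ?_)
  fin_cases u
  · exact inj he _ _ (congrArg Subtype.val h0)
  · exact inj he _ _ (congrArg Subtype.val h1)
  · exact inj he _ _ (congrArg Subtype.val h2)

theorem exists_pt (a : s.J) : ∃ k i, c.pt k i = a := by
  obtain ⟨⟨k, i⟩, h⟩ := c.pt_bijective.2 a
  exact ⟨k, i, h⟩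

theorem pt_injective {k l : ZMod 3} {i j : Vec} (h : c.pt k i = c.pt l j) : k = l ∧ i = j := by
  have := c.pt_bijective.1 (a₁ := (k, i)) (a₂ := (l, j)) h
  exact Prod.ext_iff.1 this

theorem vec_eq (i : Vec) : c.vec i = c.pt 0 i := by simp [pt]

theorem vec_injective {i j : Vec} (h : c.vec i = c.vec j) : i = j :=
  (c.pt_injective (k := 0) (l := 0) (by rw [← vec_eq, ← vec_eq, h])).2

end Coord

theorem eigen_line : ∀ u q : Fin 3, u ≠ q → ∀ i : Vec, flipV u i = i → flipV q i = -i →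
    ∃ n, i = Pi.single u n := by decide +kernel

theorem single_cases : ∀ n : ZMod 3, n = 0 ∨ ∃ b : Bool, n = sg b := by decide

theorem sg_mul : ∀ (b : Bool) (n : ZMod 3), n.val * (sg b).val % 3 = (sg b * n).val := by decide

theorem mon_sum : ∀ π : Equiv.Perm (Fin 3), ∀ ε : Fin 3 → Bool, ∀ i : Vec,
    Pi.single (π 0) (sg (ε 0) * i 0) + Pi.single (π 1) (sg (ε 1) * i 1) + Pi.single (π 2) (sg (ε 2) * i 2) =
      mon π ε i := by decide +kernel

/-- A monomial map of determinant minus one composed with a suitable element is a reflection. -/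
theorem mon_reflection : ∀ π : Equiv.Perm (Fin 3), ∀ ε : Fin 3 → Bool, ¬ DetOne π ε →
    ∃ a : Fin 4, ∃ b : Fin 3,
      let g : Vec → Vec := fun i => mon π ε ((![id, flipV 0, flipV 1, flipV 2] a) (rotV^[(b : ℕ)] i))
      (∀ i, g (g i) = i) ∧ 9 ≤ (Finset.univ.filter fun i => g i = i).card ∧
        (∃ i, g i ≠ i) ∧ ∃ i, g i = i ∧ ((∃ u, i = Pi.single u 1) ∨ ∀ p, i p ≠ 0) := by
  decide +kernel

end Cfsg.Agent.McLThree.Strong
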