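import Cfsg.Agent.McLThree.StrongCaseB

/-!
# The centraliser of a point fixed by a four-group normalises `J`
-/

set_option autoImplicit false

namespace Cfsg.Agent.McLThree.Strong

open Subgroup
open Cfsg.Agent.McLLoc

/-- The centraliser of an element of `J` centralised by a four-group of `M ⧸ J` normalises `J`. -/
theorem centFour {G : Type*} [Group G] [Finite G] (s : Setting G) : CentFour s := by
  obtain ⟨C⟩ := s.nonempty_chart
  intro v w hv hw hv2 hw2 hne hvw j hj hj1 hvj hwj
  obtain ⟨c, rfl⟩ := exists_coord (C := C) hv hw hv2 hw2 hne hvw hj hj1 hvj hwj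
  by_cases hE : c.Even
  · exact c.caseA hE
  · obtain ⟨g, hg⟩ := c.exists_swap hE
    exact hg.caseB

end Cfsg.Agent.McLThree.Strong
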