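import Cfsg.Agent.Char.Induced
import Cfsg.Agent.TISpecial.Basic
import Mathlib.GroupTheory.SpecificGroups.Dihedral

/-!
# A model of `3^3:2^2` and its three special generalized characters

The model is the group of triples in the dihedral group of order six with an even number of
reflections.  The function `Phi v` lives on the coordinate `v`.
-/

set_option autoImplicit false

namespace Cfsg.Agent.McLThree.Strong

open Cfsg Cfsg.Agent
open scoped ComplexConjugate

/-- The factors. -/
abbrev D : Type := DihedralGroup 3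

/-- The parity. -/
def par : D → ZMod 2
  | .r _ => 0
  | .sr _ => 1

theorem par_mul : ∀ a b : D, par (a * b) = par a + par b := by decide +kernel

/-- The even triples. -/
def evenSub : Subgroup (D × D × D) where
  carrier := {x | par x.1 + par x.2.1 + par x.2.2 = 0}
  one_mem' := by decide +kernel
  mul_mem' := fun {x y} hx hy => by
    show par (x.1 * y.1) + par (x.2.1 * y.2.1) + par (x.2.2 * y.2.2) = 0
    rw [par_mul, par_mul, par_mul]
    have hx' : par x.1 + par x.2.1 + par x.2.2 = 0 := hx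
    have hy' : par y.1 + par y.2.1 + par y.2.2 = 0 := hy
    linear_combination hx' + hy'
  inv_mem' := fun {x} hx => by
    have key : ∀ a : D, par a⁻¹ = par a := by decide +kernel
    show par x.1⁻¹ + par x.2.1⁻¹ + par x.2.2⁻¹ = 0
    rw [key, key, key]
    exact hx

instance : DecidablePred (· ∈ evenSub) := fun x =>
  decidable_of_iff (par x.1 + par x.2.1 + par x.2.2 = 0) Iff.rfl

/-- The model, of order 108. -/
abbrev M₀ : Type := evenSub

/-- A coordinate. -/
def get (m : M₀) : Fin 3 → D
  | 0 => m.1.1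
  | 1 => m.1.2.1
  | 2 => m.1.2.2

/-- A coordinate, as a homomorphism. -/
def proj (v : Fin 3) : M₀ →* D where
  toFun m := get m v
  map_one' := by fin_cases v <;> rfl
  map_mul' a b := by fin_cases v <;> rfl

/-- The translations. -/
def IsTr (m : M₀) : Prop := par m.1.1 = 0 ∧ par m.1.2.1 = 0 ∧ par m.1.2.2 = 0

instance : DecidablePred IsTr := fun m => by unfold IsTr; infer_instance

/-- The involution fixing the coordinate `u`. -/
def inv₀ : Fin 3 → M₀
  | 0 => ⟨(1, .sr 0, .sr 0), by decide +kernel⟩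
  | 1 => ⟨(.sr 0, 1, .sr 0), by decide +kernel⟩
  | 2 => ⟨(.sr 0, .sr 0, 1), by decide +kernel⟩

/-- The translation on the coordinate `u`. -/
def axis : Fin 3 → M₀
  | 0 => ⟨(.r 1, 1, 1), by decide +kernel⟩
  | 1 => ⟨(1, .r 1, 1), by decide +kernel⟩
  | 2 => ⟨(1, 1, .r 1), by decide +kernel⟩

/-- The class of the involution fixing the coordinate `u`. -/
def invType (u : Fin 3) (m : M₀) : Bool := decide (m * m = 1 ∧ m ≠ 1 ∧ get m u = 1)

theorem isTr_one : IsTr 1 := by decide +kernel

theorem tr_mul : ∀ a b : M₀, IsTr a → IsTr b → IsTr (a * b) := by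
  intro a b ha hb
  refine ⟨?_, ?_, ?_⟩
  · show par (a.1.1 * b.1.1) = 0
    rw [par_mul, ha.1, hb.1, add_zero]
  · show par (a.1.2.1 * b.1.2.1) = 0
    rw [par_mul, ha.2.1, hb.2.1, add_zero]
  · show par (a.1.2.2 * b.1.2.2) = 0
    rw [par_mul, ha.2.2, hb.2.2, add_zero]

theorem tr_inv : ∀ a : M₀, IsTr a → IsTr a⁻¹ := by decide +kernel

theorem tr_cube : ∀ a : M₀, IsTr a → a ^ 3 = 1 := by decide +kernel

theorem tr_comm : ∀ a b : D, par a = 0 → par b = 0 → a * b = b * a := by decide +kernel

theorem tr_commute {a b : M₀} (ha : IsTr a) (hb : IsTr b) : a * b = b * a :=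
  Subtype.ext (Prod.ext (tr_comm _ _ ha.1 hb.1)
    (Prod.ext (tr_comm _ _ ha.2.1 hb.2.1) (tr_comm _ _ ha.2.2 hb.2.2)))

theorem card_tr : (Finset.univ.filter fun m : M₀ => IsTr m).card = 27 := by decide +kernel

theorem card_M₀ : Fintype.card M₀ = 108 := by decide +kernel

theorem axis_facts : ∀ u : Fin 3, IsTr (axis u) ∧ axis u ≠ 1 ∧ axis u * inv₀ u = inv₀ u * axis u ∧
    get (axis u) u ≠ 1 ∧ (∀ v : Fin 3, v ≠ u → get (axis u) v = 1) := by decide +kernel

theorem inv₀_facts : ∀ u : Fin 3, inv₀ u * inv₀ u = 1 ∧ inv₀ u ≠ 1 ∧ invType u (inv₀ u) = true ∧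
    (Finset.univ.filter fun k => k * inv₀ u = inv₀ u * k).card = 12 := by decide +kernel

theorem invType_cover : ∀ m : M₀, m * m = 1 → m ≠ 1 → ∃ u, invType u m = true := by decide +kernel

theorem invType_conj : ∀ u : Fin 3, ∀ m : M₀, invType u m = true →
    ∃ k : M₀, IsTr k ∧ k * inv₀ u * k⁻¹ = m := by decide +kernel

/-- The values on one coordinate. -/
def fval : D → ℤ
  | .r i => if i = 0 then 0 else -3
  | .sr _ => 0

/-- The special functions. -/
noncomputable def Phi (v : Fin 3) (m : M₀) : ℂ := (fval (get m v) : ℂ)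

theorem special : ∀ v : Fin 3, ∀ m : M₀, fval (get m v) ≠ 0 → IsTr (m * m) ∧ m * m ≠ 1 := by decide +kernel

theorem fval_sums : ∀ v : Fin 3, (∑ m : M₀, fval (get m v)) = -108 ∧
    (∑ m : M₀, fval (get m v) * fval (get m v)) = 324 := by decide +kernel

theorem fval_zero : ∀ v : Fin 3, fval (get 1 v) = 0 ∧ ∀ u, fval (get (inv₀ u) v) = 0 := by decide +kernel

/-- The counts of pairs of involutions by product. -/
theorem pairs_eq : ∀ v u : Fin 3, (∑ m ∈ Finset.univ.filter (fun m : M₀ => invType u m = true),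
    ∑ m' ∈ Finset.univ.filter (fun m : M₀ => invType u m = true), fval (get (m * m') v)) =
      if v = u then 0 else -162 := by decide +kernel

/-- The subgroup generated by a reflection. -/
def sub2 : Subgroup D where
  carrier := {d | d = 1 ∨ d = .sr 0}
  one_mem' := Or.inl rfl
  mul_mem' := by rintro _ _ (rfl | rfl) (rfl | rfl) <;> decide
  inv_mem' := by rintro _ (rfl | rfl) <;> decide

instance : DecidablePred (· ∈ sub2) := fun d => decidable_of_iff (d = 1 ∨ d = .sr 0) Iff.rfl

/-- The sign. -/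
noncomputable def sgnHom : D →* ℂˣ where
  toFun d := if par d = 0 then 1 else -1
  map_one' := by simp [show par (1 : D) = 0 from rfl]
  map_mul' a b := by
    rw [par_mul]
    have key : ∀ x : ZMod 2, x = 0 ∨ x = 1 := by decide
    rcases key (par a) with h | h <;> rcases key (par b) with h' | h' <;> simp [h, h', show (1 + 1 : ZMod 2) = 0 from rfl]

theorem perm_count : ∀ d : D, 2 * (fval d + 2 + (if par d = 0 then 1 else -1)) =
    ((Finset.univ.filter fun x => x⁻¹ * d * x ∈ sub2).card : ℤ) := by decide +kernel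

theorem isGeneralized_fval : IsGeneralizedCharacter D (fun d => (fval d : ℂ)) := by
  classical
  have h1 : IsCharacter D (fun _ => (1 : ℂ)) := by simpa using Char.isCharacter_hom (1 : D →* ℂˣ)
  refine ⟨indFun sub2 (fun _ => 1), fun d => (1 : ℂ) + 1 + (sgnHom d : ℂ),
    Char.isCharacter_indFun _ (by simpa using Char.isCharacter_hom (1 : sub2 →* ℂˣ)),
    Char.isCharacter_add (Char.isCharacter_add h1 h1) (Char.isCharacter_hom sgnHom), ?_⟩
  funext d
  have h := congrArg (fun z : ℤ => (z : ℂ)) (perm_count d)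
  have hs : (sgnHom d : ℂ) = ((if par d = 0 then 1 else -1 : ℤ) : ℂ) := by
    show ((if par d = 0 then 1 else -1 : ℂˣ) : ℂ) = _
    split_ifs <;> simp
  have hi : indFun sub2 (fun _ => (1 : ℂ)) d =
      (2 : ℂ)⁻¹ * ((Finset.univ.filter fun x => x⁻¹ * d * x ∈ sub2).card : ℂ) := by
    rw [Char.indFun_apply, Nat.card_eq_fintype_card, show Fintype.card sub2 = 2 by decide +kernel,
      Finset.card_filter]
    push_cast
    congr 1
    refine Finset.sum_congr rfl fun x _ => ?_
    by_cases hx : x⁻¹ * d * x ∈ sub2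
    · rw [if_pos hx]
      exact Subtype.val_injective.extend_apply (fun _ : sub2 => (1 : ℂ)) 0 ⟨_, hx⟩
    · rw [if_neg hx]
      exact Function.extend_apply' _ _ _ fun ⟨a, ha⟩ => hx (ha ▸ a.2)
  simp only [Pi.sub_apply, hi, hs]
  push_cast at h ⊢
  rw [← h]
  ring

theorem isGeneralized_Phi (v : Fin 3) : IsGeneralizedCharacter M₀ (Phi v) := by
  obtain ⟨a, b, ha, hb, e⟩ := isGeneralized_fval
  exact ⟨_, _, Char.isCharacter_comp (proj v) ha, Char.isCharacter_comp (proj v) hb,
    funext fun m => congrFun e (get m v)⟩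

theorem isClassFunction_Phi (v : Fin 3) : IsClassFunction M₀ (Phi v) := by
  intro g h
  have key : ∀ a b : D, fval (a * b * a⁻¹) = fval b := by decide +kernel
  show ((fval (proj v _) : ℤ) : ℂ) = ((fval (proj v _) : ℤ) : ℂ)
  simp only [map_mul, map_inv, key]

end Cfsg.Agent.McLThree.Strong
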