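import Cfsg.Agent.McLThree.StrongCoord

/-!
# The monomial action of `N(J) ⊓ C(y)` and the conjugates of points of `Z` on the lines through `y`
-/

set_option autoImplicit false

namespace Cfsg.Agent.McLThree.Strong

open Subgroup
open Cfsg.Agent.McLLoc

/-- The action of the element with the given sign change and rotation. -/
def stAct (a : Fin 4) (b : Fin 3) (i : Vec) : Vec := (![id, flipV 0, flipV 1, flipV 2] a) (rotV^[(b : ℕ)] i)

theorem stAct_inj : ∀ a b a' b', (∀ i, stAct a b i = stAct a' b' i) → a = a' ∧ b = b' := by decide +kernel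

theorem stAct_invol : ∀ a b, (∀ i, stAct a b (stAct a b i) = i) → b = 0 := by decide +kernel

theorem alt6_invol_conj : ∀ p : Six.Alt6, p * p = 1 → p ≠ 1 → ∃ g, g * p * g⁻¹ = Six.pt := by
  decide +kernel

theorem pc_norm : NormP0 Six.pc := by decide +kernel

theorem rot_fixed : ∀ i : Vec, rotV i = i → ∃ n : ZMod 3, i = fun _ => n := by decide +kernel

theorem flip_fixed : ∀ i : Vec, flipV 0 i = i → ∃ n, i = Pi.single 0 n := by decide +kernel

theorem full_cases : ∀ i : Vec, (∀ p, i p ≠ 0) →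
    ∃ a, i = stAct a 0 (fun _ => 1) ∨ i = -stAct a 0 (fun _ => 1) := by decide +kernel

theorem rot_single : ∀ u : Fin 3, rotV^[(u : ℕ)] (Pi.single 0 1) = Pi.single u 1 := by decide +kernel

theorem zmod3_cases : ∀ k : ZMod 3, k = 0 ∨ k = 1 ∨ k = 2 := by decide

theorem zmod3_ne : ∀ n : ZMod 3, n ≠ 0 → n = 1 ∨ n = -1 := by decide

variable {G : Type*} [Group G] [Finite G] {s : Setting G} {C : Chart s}

namespace Coord

variable (c : Coord C)

/-- The twelve elements fixing `y`. -/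
def stElt (a : Fin 4) (b : Fin 3) : s.M := (![1, c.v, c.w, c.v * c.w] a) * c.r ^ (b : ℕ)

theorem stElt_y (a : Fin 4) (b : Fin 3) : C.ρ (C.φ (c.stElt a b)) c.y = c.y := by
  have hr : C.φ (c.r ^ (b : ℕ)) ∈ St C c.y := by
    rw [map_pow]; exact pow_mem (show C.φ c.r ∈ St C c.y from c.r_y) _
  have ha : C.φ (![1, c.v, c.w, c.v * c.w] a) ∈ St C c.y := by
    fin_cases a
    · show C.φ 1 ∈ _; rw [map_one]; exact one_mem _
    · exact c.v_y
    · exact c.w_y
    · show C.φ (c.v * c.w) ∈ _; rw [map_mul]; exact mul_mem c.v_y c.w_y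
  have := mul_mem ha hr
  rw [← map_mul] at this
  exact this

theorem stElt_vec (a : Fin 4) (b : Fin 3) (i : Vec) :
    C.ρ (C.φ (c.stElt a b)) (c.vec i) = c.vec (stAct a b i) := by
  have hr : ∀ n : ℕ, C.ρ (C.φ (c.r ^ n)) (c.vec i) = c.vec (rotV^[n] i) := by
    intro n
    induction n with
    | zero => simp
    | succ n ih => rw [pow_succ', map_mul, ← C.ρ_comp, ih, c.r_vec, Function.iterate_succ_apply']
  rw [stElt, map_mul, ← C.ρ_comp, hr, stAct]
  fin_cases a
  · simp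
  · exact c.inv_vec 0 _
  · exact c.inv_vec 1 _
  · exact c.inv_vec 2 _

/-- The stabiliser of `y` in the alternating group. -/
theorem exists_stElt {p : Six.Alt6} (hp : p ∈ St C c.y) : ∃ a b, C.φ (c.stElt a b) = p := by
  classical
  let f : Fin 4 × Fin 3 → St C c.y := fun ab => ⟨C.φ (c.stElt ab.1 ab.2), c.stElt_y _ _⟩
  have hf : Function.Injective f := by
    rintro ⟨a, b⟩ ⟨a', b'⟩ h
    have h' : C.φ (c.stElt a b) = C.φ (c.stElt a' b') := congrArg Subtype.val h
    obtain ⟨rfl, rfl⟩ := stAct_inj a b a' b' fun i => c.vec_injective (by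
      rw [← c.stElt_vec, ← c.stElt_vec, h'])
    rfl
  have hb : Function.Bijective f := by
    rw [Nat.bijective_iff_injective_and_card]
    refine ⟨hf, ?_⟩
    rw [c.four.card_St, Nat.card_eq_fintype_card]
    rfl
  obtain ⟨⟨a, b⟩, h⟩ := hb.2 ⟨p, hp⟩
  exact ⟨a, b, congrArg Subtype.val h⟩

theorem stElt_inv (u : Fin 3) : c.stElt u.succ 0 = c.inv u := by
  fin_cases u <;> simp [stElt, inv]

theorem inv_phi_ne (u : Fin 3) : C.φ (c.inv u) ≠ 1 := by
  fin_cases u
  · exact c.pair.v_ne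
  · exact c.pair.w_ne
  · intro h
    change C.φ (c.v * c.w) = 1 at h
    rw [map_mul] at h
    exact c.pair.ne (by rw [← mul_right_cancel (b := C.φ c.w) (h.trans c.pair.ww.symm)])

theorem inv_sq (u : Fin 3) : c.inv u * c.inv u = 1 := by
  fin_cases u
  · exact c.vv
  · exact c.ww
  · show c.v * c.w * (c.v * c.w) = 1
    rw [show c.v * c.w * (c.v * c.w) = c.v * (c.w * c.v) * c.w by group, ← c.vw, ← mul_assoc, c.vv,
      one_mul, c.ww]

theorem pt_neg (k : ZMod 3) (i : Vec) : (c.pt k i)⁻¹ = c.pt (-k) (-i) := by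
  refine inv_eq_of_mul_eq_one_right ?_
  rw [← pt_add, add_neg_cancel, add_neg_cancel]
  simp [pt, c.vec_zero]

theorem inv_pt (u : Fin 3) (k : ZMod 3) (i : Vec) :
    C.ρ (C.φ (c.inv u)) (c.pt k i) = c.pt k (flipV u i) :=
  c.hom_pt (c.inv_y u) (c.inv_vec u) k i

theorem stElt_pt (a : Fin 4) (b : Fin 3) (k : ZMod 3) (i : Vec) :
    C.ρ (C.φ (c.stElt a b)) (c.pt k i) = c.pt k (stAct a b i) :=
  c.hom_pt (c.stElt_y a b) (c.stElt_vec a b) k i

theorem ax_eq (u : Fin 3) : c.ax u = c.pt 0 (Pi.single u 1) := by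
  rw [← vec_eq, vec_single, ZMod.val_one, pow_one]

/-- The conjugation of a point of `J`. -/
noncomputable def conjN {h : G} (hh : h ∈ normalizer (s.J : Set G)) : MulAut s.J :=
  normalizerMonoidHom s.J ⟨h, hh⟩

theorem conjN_val {h : G} (hh : h ∈ normalizer (s.J : Set G)) (a : s.J) :
    ((conjN hh a : s.J) : G) = h * a * h⁻¹ := rfl

/-- An element of `N(J)` fixing `y` acts by a monomial map. -/
theorem exists_mon {h : G} (hh : h ∈ normalizer (s.J : Set G)) (hy : Commute h (c.y : G)) :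
    ∃ π ε, ∀ k i, ((c.pt k (mon π ε i) : s.J) : G) = h * (c.pt k i : G) * h⁻¹ := by
  classical
  have hfy : conjN hh c.y = c.y := Subtype.ext (by rw [conjN_val, hy.eq, mul_inv_cancel_right])
  have key : ∀ u : Fin 3, ∃ t : Fin 3, ∀ a : s.J,
      conjN hh (C.ρ (C.φ (c.inv u)) a) = C.ρ (C.φ (c.inv t)) (conjN hh a) := by
    intro u
    have hm : h * (c.inv u : G) * h⁻¹ ∈ s.M :=
      (mem_normalizer_iff.1 (s.normJ_le_normM hh) _).1 (c.inv u).2
    set m : s.M := ⟨_, hm⟩
    have hcomm : ∀ a : s.J, conjN hh (C.ρ (C.φ (c.inv u)) a) = C.ρ (C.φ m) (conjN hh a) := fun a => by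
      refine Subtype.ext ?_
      rw [conjN_val, C.ρ_apply, C.ρ_apply, conjN_val]
      simp only [m]
      group
    have hmy : C.φ m ∈ St C c.y := by
      have := hcomm c.y
      rw [c.inv_y, hfy] at this
      exact this.symm
    obtain ⟨a, b, hab⟩ := c.exists_stElt hmy
    have hm2 : C.φ m * C.φ m = 1 := by
      rw [← map_mul]
      rw [show m * m = 1 from Subtype.ext (by
        show h * (c.inv u : G) * h⁻¹ * (h * (c.inv u : G) * h⁻¹) = 1
        rw [show h * (c.inv u : G) * h⁻¹ * (h * (c.inv u : G) * h⁻¹) =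
          h * ((c.inv u * c.inv u : s.M) : G) * h⁻¹ by push_cast; group, c.inv_sq]
        simp), map_one]
    have hb : b = 0 := stAct_invol a b fun i => c.vec_injective (by
      rw [← c.stElt_vec, ← c.stElt_vec, hab, C.ρ_comp, hm2, map_one]; rfl)
    subst hb
    obtain rfl | ⟨t, rfl⟩ := Fin.eq_zero_or_eq_succ a
    · exfalso
      refine c.inv_phi_ne u (C.φ_eq_one.2 ?_)
      have h1 : C.φ m = 1 := by rw [← hab]; simp [stElt]
      exact (mem_normalizer_iff.1 hh _).2 (C.φ_eq_one.1 h1)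
    · exact ⟨t, fun a => by rw [hcomm, ← hab, c.stElt_inv]⟩
  choose π hπ using key
  have hinj : Function.Injective π := by
    intro u u' e
    by_contra hne
    have : ∀ a, C.ρ (C.φ (c.inv u)) a = C.ρ (C.φ (c.inv u')) a := fun a =>
      (conjN hh).injective (by rw [hπ, hπ, e])
    have h' := this (c.ax u)
    rw [c.inv_ax, c.inv_ax, if_pos rfl, if_neg hne] at h'
    have h2 : c.ax u * c.ax u = 1 := by nth_rewrite 1 [h']; exact inv_mul_cancel _
    have h3 := c.ax_cube u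
    rw [pow_succ, sq, h2, one_mul] at h3
    rw [c.ax_eq] at h3
    have := (c.pt_injective (k := 0) (l := 0) (j := 0) (h3.trans (by simp [pt, c.vec_zero]))).2
    exact absurd (congrFun this u) (by simp)
  let πe : Equiv.Perm (Fin 3) := Equiv.ofBijective π (Finite.injective_iff_bijective.1 hinj)
  have line : ∀ u, ∃ b : Bool, conjN hh (c.ax u) = c.pt 0 (Pi.single (π u) (sg b)) := by
    intro u
    obtain ⟨k, i, hki⟩ := c.exists_pt (conjN hh (c.ax u))
    obtain ⟨q, hq⟩ : ∃ q : Fin 3, q ≠ u := exists_ne u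
    have h1 := hπ u (c.ax u)
    rw [c.inv_ax, if_pos rfl, ← hki, c.inv_pt] at h1
    have h2 := hπ q (c.ax u)
    rw [c.inv_ax, if_neg hq.symm, map_inv, ← hki, c.inv_pt, c.pt_neg] at h2
    obtain ⟨-, hfix⟩ := c.pt_injective h1
    obtain ⟨hk, hneg⟩ := c.pt_injective h2
    obtain ⟨n, rfl⟩ := eigen_line (π u) (π q) (fun e => hq (hinj e).symm) i hfix.symm hneg.symm
    have hk0 : k = 0 := (show ∀ k : ZMod 3, -k = k → k = 0 by decide) k hk
    rcases single_cases n with rfl | ⟨b, rfl⟩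
    · exfalso
      rw [hk0, Pi.single_zero] at hki
      have h1' : conjN hh (c.ax u) = 1 := hki.symm.trans (by simp [pt, c.vec_zero])
      have := (conjN hh).map_eq_one_iff.1 h1'
      rw [c.ax_eq] at this
      have := (c.pt_injective (k := 0) (l := 0) (j := 0) (this.trans (by simp [pt, c.vec_zero]))).2
      exact absurd (congrFun this u) (by simp)
    · exact ⟨b, by rw [← hki, hk0]⟩
  choose ε hε using line
  refine ⟨πe, ε, fun k i => ?_⟩
  have hvec : conjN hh (c.vec i) = c.vec (mon πe ε i) := by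
    have hp : ∀ u, conjN hh (c.ax u) ^ (i u).val = c.vec (Pi.single (πe u) (sg (ε u) * i u)) := by
      intro u
      rw [hε, ← vec_eq, vec_single, ← pow_mul, show πe u = π u from rfl, vec_single]
      rw [pow_eq_pow_mod _ (c.ax_cube _), mul_comm, sg_mul]
    simp only [vec] at hp ⊢
    rw [map_mul, map_mul, map_pow, map_pow, map_pow]
    show _ = c.vec (mon πe ε i)
    rw [← mon_sum, vec_add, vec_add]
    simp only [vec]
    rw [hp 0, hp 1, hp 2]
  rw [← conjN_val hh, c.hom_pt hfy (g := mon πe ε) (fun j => ?_) k i]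
  have hp : ∀ u, conjN hh (c.ax u) ^ (j u).val = c.vec (Pi.single (πe u) (sg (ε u) * j u)) := by
    intro u
    rw [hε, ← vec_eq, vec_single, ← pow_mul, show πe u = π u from rfl, vec_single]
    rw [pow_eq_pow_mod _ (c.ax_cube _), mul_comm, sg_mul]
  rw [← mon_sum, vec_add, vec_add, ← hp 0, ← hp 1, ← hp 2, vec, map_mul, map_mul, map_pow, map_pow, map_pow]

/-- Every line through `y` fixed by an involution contains a conjugate of a point of `Z`. -/
theorem sing_single (u : Fin 3) : ∃ k, Sing s ((c.pt k (Pi.single u 1) : s.J) : G) := by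
  obtain ⟨g, hg⟩ := alt6_invol_conj (C.φ c.v) c.pair.vv c.pair.v_ne
  obtain ⟨z, hz, hz1⟩ : ∃ z ∈ s.Z, z ≠ 1 := by
    have : 1 < Nat.card s.Z := by rw [s.card_Z]; norm_num
    have := Finite.one_lt_card_iff_nontrivial.1 this
    obtain ⟨x, hx⟩ := exists_ne (1 : s.Z)
    exact ⟨x, x.2, fun e => hx (Subtype.ext e)⟩
  set zJ : s.J := ⟨z, s.Z_le_J hz⟩
  have hpt : C.ρ Six.pt zJ = zJ := by
    have h1 : ((C.ρ Six.pc zJ : s.J) : G) ∈ s.Z := normP0_Z C pc_norm hz
    have hze : zpowers z = s.Z := eq_of_le_of_card_ge (zpowers_le.2 hz) (by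
      rw [s.card_Z, Nat.card_zpowers, orderOf_eq_prime (s.hJexp z (s.Z_le_J hz)) hz1])
    obtain ⟨m, hm⟩ := mem_zpowers_iff.1 (hze ▸ h1)
    have hm' : C.ρ Six.pc zJ = zJ ^ m := Subtype.ext (by rw [Subgroup.coe_zpow]; exact hm.symm)
    have hord : orderOf zJ = 3 := by
      rw [← Subgroup.orderOf_coe]; exact orderOf_eq_prime (s.hJexp z (s.Z_le_J hz)) hz1
    have hm0 : ¬ (3 : ℤ) ∣ m := fun h3 => by
      have : C.ρ Six.pc zJ = 1 := by
        rw [hm']
        exact orderOf_dvd_iff_zpow_eq_one.1 (by rw [hord]; exact_mod_cast h3)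
      exact hz1 (congrArg Subtype.val ((C.ρ Six.pc).map_eq_one_iff.1 this))
    rw [← Six.c_sq, ← C.ρ_comp, hm', map_zpow, hm', ← zpow_mul]
    nth_rewrite 2 [← zpow_one zJ]
    rw [zpow_eq_zpow_iff_modEq, hord]
    show m * m % 3 = 1 % 3
    rw [Int.mul_emod]
    rcases (show m % 3 = 1 ∨ m % 3 = 2 by omega) with e | e <;> rw [e] <;> rfl
  set a := C.ρ g⁻¹ zJ
  have hfix : C.ρ (C.φ (c.inv 0)) a = a := by
    show C.ρ (C.φ c.v) (C.ρ g⁻¹ zJ) = C.ρ g⁻¹ zJ
    rw [C.ρ_comp, show C.φ c.v * g⁻¹ = g⁻¹ * Six.pt by rw [← hg]; group, ← C.ρ_comp, hpt]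
  have hsing : Sing s (a : G) := by
    obtain ⟨m, hm⟩ := C.surj g⁻¹
    show Sing s ((C.ρ g⁻¹ zJ : s.J) : G)
    rw [← hm, C.ρ_apply]
    exact (Sing.of_mem hz hz1).conj _
  obtain ⟨k, i, hki⟩ := c.exists_pt a
  rw [← hki, c.inv_pt] at hfix
  obtain ⟨n, rfl⟩ := flip_fixed i (c.pt_injective hfix).2
  have hr : ∀ k, Sing s ((c.pt k (Pi.single 0 1) : s.J) : G) →
      ∃ k, Sing s ((c.pt k (Pi.single u 1) : s.J) : G) := by
    intro k hk
    refine ⟨k, ?_⟩
    have := hk.conj ((c.stElt 0 u : s.M) : G)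
    rw [← C.ρ_apply, c.stElt_pt] at this
    rwa [show stAct 0 u (Pi.single 0 1) = Pi.single u 1 from rot_single u] at this
  have hn : n ≠ 0 := by
    rintro rfl
    rw [Pi.single_zero] at hki
    have hy := c.four.not_sing C
    have e : a = c.y ^ k.val := by rw [← hki]; simp [pt, c.vec_zero]
    rcases zmod3_cases k with rfl | rfl | rfl
    · exact hsing.1 (by rw [e]; simp)
    · exact hy (by rw [e, ZMod.val_one, pow_one] at hsing; exact hsing)
    · refine hy ?_
      have := hsing.inv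
      rw [e, ← Subgroup.coe_inv, inv_eq_of_mul_eq_one_right (a := c.y ^ (2 : ZMod 3).val) (b := c.y) (by
        rw [← pow_succ]; exact c.act.cube c.y)] at this
      exact this
  rcases zmod3_ne n hn with rfl | rfl
  · exact hr k (hki ▸ hsing)
  · refine hr (-k) ?_
    have := hsing.inv
    rwa [← hki, ← Subgroup.coe_inv, c.pt_neg, ← Pi.single_neg, neg_neg] at this

/-- Every line through `y` fixed by an element of order three contains a conjugate of a point of `Z`. -/
theorem sing_full (i : Vec) (hi : ∀ p, i p ≠ 0) : ∃ k, Sing s ((c.pt k i : s.J) : G) := by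
  haveI : Fact (Nat.Prime 3) := ⟨Nat.prime_three⟩
  have hr3 : C.φ c.r * C.φ c.r * C.φ c.r = 1 := by
    rw [← map_mul, ← map_mul, C.φ_eq_one]
    have := zpowers_le.2 c.y.2 c.r_cube
    rwa [pow_succ, sq] at this
  have hr1 : C.φ c.r ≠ 1 := fun e => c.r_not (C.φ_eq_one.1 e)
  have hP : IsPGroup 3 (zpowers (C.φ c.r)) := IsPGroup.of_card (n := 1)
    (by rw [Nat.card_zpowers, orderOf_eq_prime (by rw [pow_succ, sq, hr3]) hr1, pow_one])
  have h9 : (9 : ℕ) = 3 ^ (Nat.card Six.Alt6).factorization 3 := by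
    rw [Six.card_alt6, Nat.factorization_def _ Nat.prime_three]
    have : padicValNat 3 360 = 2 := by
      rw [show (360 : ℕ) = 3 ^ 2 * 40 by norm_num, padicValNat.mul (by norm_num) (by norm_num),
        padicValNat.prime_pow, padicValNat.eq_zero_of_not_dvd (by norm_num)]
    rw [this]; norm_num
  obtain ⟨P, hPx⟩ := hP.exists_le_sylow
  let R : Sylow 3 Six.Alt6 := Sylow.ofCard Six.P0 (Six.card_P0.trans h9)
  obtain ⟨g, hg⟩ := MulAction.exists_smul_eq Six.Alt6 P R
  have hgr : g * C.φ c.r * g⁻¹ ∈ Six.P0 := by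
    have e := congrArg (fun T : Sylow 3 Six.Alt6 => (T : Subgroup Six.Alt6)) hg
    simp only [Sylow.coe_subgroup_smul] at e
    have : g * C.φ c.r * g⁻¹ ∈ ((R : Sylow 3 Six.Alt6) : Subgroup Six.Alt6) :=
      e ▸ ⟨C.φ c.r, hPx (mem_zpowers _), rfl⟩
    exact this
  obtain ⟨z, hz, hz1⟩ : ∃ z ∈ s.Z, z ≠ 1 := by
    have : 1 < Nat.card s.Z := by rw [s.card_Z]; norm_num
    have := Finite.one_lt_card_iff_nontrivial.1 this
    obtain ⟨x, hx⟩ := exists_ne (1 : s.Z)
    exact ⟨x, x.2, fun e => hx (Subtype.ext e)⟩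
  set zJ : s.J := ⟨z, s.Z_le_J hz⟩
  set a := C.ρ g⁻¹ zJ
  have hfix : C.ρ (C.φ c.r) a = a := by
    show C.ρ (C.φ c.r) (C.ρ g⁻¹ zJ) = C.ρ g⁻¹ zJ
    rw [C.ρ_comp, show C.φ c.r * g⁻¹ = g⁻¹ * (g * C.φ c.r * g⁻¹) by group, ← C.ρ_comp,
      P0_le_St C (a := zJ) hz hgr]
  have hsing : Sing s (a : G) := by
    obtain ⟨m, hm⟩ := C.surj g⁻¹
    show Sing s ((C.ρ g⁻¹ zJ : s.J) : G)
    rw [← hm, C.ρ_apply]
    exact (Sing.of_mem hz hz1).conj _
  obtain ⟨k, j, hkj⟩ := c.exists_pt a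
  rw [← hkj, c.hom_pt c.r_y c.r_vec] at hfix
  obtain ⟨n, rfl⟩ := rot_fixed j (c.pt_injective hfix).2
  have hn : n ≠ 0 := by
    rintro rfl
    have hy := c.four.not_sing C
    have e : a = c.y ^ k.val := by
      rw [← hkj, show (fun _ : Fin 3 => (0 : ZMod 3)) = (0 : Vec) from rfl]; simp [pt, c.vec_zero]
    rcases zmod3_cases k with rfl | rfl | rfl
    · exact hsing.1 (by rw [e]; simp)
    · exact hy (by rw [e, ZMod.val_one, pow_one] at hsing; exact hsing)
    · refine hy ?_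
      have := hsing.inv
      rw [e, ← Subgroup.coe_inv, inv_eq_of_mul_eq_one_right (a := c.y ^ (2 : ZMod 3).val) (b := c.y) (by
        rw [← pow_succ]; exact c.act.cube c.y)] at this
      exact this
  obtain ⟨k1, hk1⟩ : ∃ k, Sing s ((c.pt k (fun _ => 1) : s.J) : G) := by
    rcases zmod3_ne n hn with rfl | rfl
    · exact ⟨k, hkj ▸ hsing⟩
    · refine ⟨-k, ?_⟩
      have := hsing.inv
      rw [← hkj, ← Subgroup.coe_inv, c.pt_neg] at this
      exact this
  obtain ⟨b, hb | hb⟩ := full_cases i hi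
  · refine ⟨k1, ?_⟩
    have := hk1.conj ((c.stElt b 0 : s.M) : G)
    rw [← C.ρ_apply, c.stElt_pt] at this
    rwa [hb]
  · refine ⟨-k1, ?_⟩
    have := (hk1.conj ((c.stElt b 0 : s.M) : G)).inv
    rw [← C.ρ_apply, c.stElt_pt, ← Subgroup.coe_inv, c.pt_neg] at this
    rwa [hb]

/-- An element of `N(J)` fixing `y` acts by a monomial map of determinant one. -/
theorem exists_mon_det {h : G} (hh : h ∈ normalizer (s.J : Set G)) (hy : Commute h (c.y : G)) :
    ∃ π ε, DetOne π ε ∧ ∀ k i, ((c.pt k (mon π ε i) : s.J) : G) = h * (c.pt k i : G) * h⁻¹ := by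
  classical
  obtain ⟨π, ε, hact⟩ := c.exists_mon hh hy
  refine ⟨π, ε, ?_, hact⟩
  by_contra hdet
  obtain ⟨a, b, hgg, hcard, ⟨i0, hi0⟩, i1, hi1, hsh⟩ := mon_reflection π ε hdet
  set F : Vec → Vec := fun i => mon π ε ((![id, flipV 0, flipV 1, flipV 2] a) (rotV^[(b : ℕ)] i))
  set g := h * ((c.stElt a b : s.M) : G)
  have hgN : g ∈ normalizer (s.J : Set G) := mul_mem hh (s.M_le_normJ (c.stElt a b).2)
  have hg : ∀ k i, g * (c.pt k i : G) * g⁻¹ = ((c.pt k (F i) : s.J) : G) := fun k i => by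
    have e : g * (c.pt k i : G) * g⁻¹ =
        h * (((c.stElt a b : s.M) : G) * (c.pt k i : G) * ((c.stElt a b : s.M) : G)⁻¹) * h⁻¹ := by
      simp only [g]; group
    rw [e, ← C.ρ_apply, c.stElt_pt]
    exact (hact k _).symm
  have hggJ : g * g ∈ s.J := by
    rw [← s.centJ]
    refine mem_centralizer_iff.2 fun x hx => ?_
    obtain ⟨k, i, hki⟩ := c.exists_pt ⟨x, hx⟩
    have hx' : x = (c.pt k i : G) := (congrArg Subtype.val hki).symm
    have : g * g * x * (g * g)⁻¹ = x := by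
      rw [hx', show g * g * (c.pt k i : G) * (g * g)⁻¹ = g * (g * (c.pt k i : G) * g⁻¹) * g⁻¹ by group,
        hg, hg]
      exact congrArg (fun j => ((c.pt k j : s.J) : G)) (hgg i)
    exact (mul_inv_eq_iff_eq_mul.1 this).symm
  have hgJ : g ∉ s.J := fun hm => hi0 (c.pt_injective (k := 0) (l := 0) (Subtype.ext (by
    rw [← hg, (s.commute_J hm (c.pt 0 i0).2).eq, mul_inv_cancel_right]))).2
  set H0 : Subgroup G := s.J ⊓ centralizer ({g} : Set G)
  have hmemH : ∀ k i, F i = i → ((c.pt k i : s.J) : G) ∈ H0 := fun k i hi =>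
    ⟨(c.pt k i).2, mem_centralizer_singleton_iff.2 (by
      have := hg k i
      rw [hi] at this
      exact (mul_inv_eq_iff_eq_mul.1 this).symm)⟩
  have hH0 : 3 ^ 3 ≤ Nat.card H0 := by
    let f : ZMod 3 × {i : Vec // F i = i} → H0 := fun p => ⟨_, hmemH p.1 p.2.1 p.2.2⟩
    have hf : Function.Injective f := fun p q e => by
      obtain ⟨h1, h2⟩ := c.pt_injective (Subtype.ext (show ((c.pt p.1 p.2.1 : s.J) : G) = _ from congrArg (fun x : H0 => (x : G)) e) : c.pt p.1 p.2.1 = c.pt q.1 q.2.1)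
      exact Prod.ext h1 (Subtype.ext h2)
    refine le_trans ?_ (Nat.card_le_card_of_injective f hf)
    rw [Nat.card_prod, Nat.card_zmod, Nat.card_eq_fintype_card, Fintype.card_subtype]
    calc 3 ^ 3 = 3 * 9 := by norm_num
      _ ≤ _ := Nat.mul_le_mul_left 3 hcard
  obtain ⟨k, hk⟩ : ∃ k, Sing s ((c.pt k i1 : s.J) : G) := by
    rcases hsh with ⟨u, rfl⟩ | hfull
    · exact c.sing_single u
    · exact c.sing_full i1 hfull
  exact no_reflection C hgN hggJ hgJ inf_le_left hH0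
    (fun x hx => (mem_centralizer_singleton_iff.1 hx.2 : Commute x g).symm) hk (hmemH k i1 hi1)

end Coord

end Cfsg.Agent.McLThree.Strong
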