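import Cfsg.Agent.McLLoc.LocalSix
import Cfsg.Agent.McLThree.StrongMon
import Cfsg.Agent.A9ThreeLocal.Exceptional
import Cfsg.Agent.Coprime.Generation
import Mathlib.GroupTheory.Transfer

/-!
# The centralisers of two points of `J` through a point fixed by a four-group

The centraliser of `y` and of a further point normalises `J`, and `C(y)` fuses no point of `J`
outside `⟨y⟩` into `N(J) \ J`.
-/

set_option autoImplicit false
set_option linter.unusedSectionVars false

namespace Cfsg.Agent.McLThree.Strong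

open Subgroup
open Cfsg.Agent.McLLoc

/-- The shapes of the points that lie on a plane through `y` with a conjugate of a point of `Z`. -/
def Good (i : Vec) : Prop :=
  (∃ u, i = Pi.single u 1 ∨ i = -Pi.single u 1) ∨ ∀ p, i p ≠ 0

instance (i : Vec) : Decidable (Good i) := inferInstanceAs (Decidable (_ ∨ _))

/-- A multiple. -/
def sm (n : ZMod 3) (i : Vec) : Vec := fun p => n * i p

/-- The scalar product. -/
def dot (i j : Vec) : ZMod 3 := i 0 * j 0 + i 1 * j 1 + i 2 * j 2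

/-- The monomial map fixing a vector of weight two. -/
def refl (i j : Vec) : Vec := fun p => -j p + dot i j * i p

theorem refl_add (i j : Vec) : refl i j + j = sm (dot i j) i := by
  funext p; simp only [refl, sm, Pi.add_apply]; ring

theorem sm_eq : ∀ n : ZMod 3, ∀ i : Vec, sm n i = n.val • i := by decide +kernel

theorem sm_add (m n : ZMod 3) (i : Vec) : sm (m + n) i = sm m i + sm n i := by
  funext p; simp [sm, add_mul]

theorem sm_neg (n : ZMod 3) (i : Vec) : sm (-n) i = -sm n i := by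
  funext p; simp [sm]

theorem sm_inj : ∀ i : Vec, i ≠ 0 → ∀ m n : ZMod 3, sm m i = sm n i → m = n := by decide +kernel

theorem plane_hit : ∀ i : Vec, i ≠ 0 → ∀ j : Vec, (∀ n, j ≠ sm n i) →
    ∃ m n : Fin 3, Good ((m : ℕ) • i + (n : ℕ) • j) := by decide +kernel

theorem avoid : ∀ i : Vec, i ≠ 0 → ∀ q, i q ≠ 0 → ∀ j : Vec, j q = 0 → j ≠ 0 → ∀ n, j ≠ sm n i := by
  decide +kernel

theorem nine_zero : ∀ q : Fin 3, 9 ≤ (Finset.univ.filter fun j : Vec => j q = 0).card := by
  decide +kernel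

set_option synthInstance.maxSize 2000 in
theorem fix_two : ∀ i : Vec, i ≠ 0 → ¬ Good i → ∀ π : Equiv.Perm (Fin 3), ∀ ε : Fin 3 → Bool,
    DetOne π ε → mon π ε i = i → (∀ j, mon π ε j = j) ∨ ∀ j, mon π ε j = refl i j := by decide +kernel

theorem refl_refl : ∀ i : Vec, i ≠ 0 → ¬ Good i → ∀ j, refl i (refl i j) = j := by decide +kernel

theorem mon_cube : ∀ π : Equiv.Perm (Fin 3), ∀ ε : Fin 3 → Bool,
    (∀ j, mon π ε (mon π ε (mon π ε j)) = j) →
      (∀ j, mon π ε j = j) ∨ ∃ w : Vec, (∀ p, w p ≠ 0) ∧ mon π ε w = w := by decide +kernel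

variable {G : Type*} [Group G] [Finite G] {s : Setting G} (C : Chart s)

include C

/-- An element conjugating `J` into `N(J)` normalises `J`. -/
theorem normJ_of_conj {g : G} (h : ∀ j ∈ s.J, g * j * g⁻¹ ∈ normalizer (s.J : Set G)) :
    g ∈ normalizer (s.J : Set G) := by
  haveI : Fact (Nat.Prime 3) := ⟨Nat.prime_three⟩
  have := s.hJcomm
  have hJ' : s.J.map (MulAut.conj g).toMonoidHom ≤ normalizer (s.J : Set G) := by
    rintro _ ⟨j, hj, rfl⟩; exact h j hj
  have hp := IsPGroup.to_sup_of_normal_right' ((IsPGroup.of_card s.hJcard).map (MulAut.conj g).toMonoidHom)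
    (IsPGroup.of_card s.hJcard) hJ'
  obtain ⟨T, hT⟩ := hp.exists_le_sylow
  have e : s.J.map (MulAut.conj g).toMonoidHom = s.J :=
    abelian_unique C (T := T) (le_sup_left.trans hT) (le_sup_right.trans hT) inferInstance s.hJcomm
      (by rw [card_map_of_injective (MulAut.conj g).injective, s.hJcard]) s.hJcard
  rw [mem_normalizer_iff]
  intro x
  conv_rhs => rw [← e]
  exact ⟨fun hx => ⟨x, hx, rfl⟩, fun ⟨i, hi, ei⟩ => (MulAut.conj g).injective ei ▸ hi⟩

/-- A plane of `J` through a point fixed by a four-group and a conjugate of a point of `Z`. -/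
theorem plane_sing {y a : s.J} (hy : IsFour C y) (ha : Sing s (a : G)) {g : G}
    (hgy : Commute g (y : G)) (hga : Commute g (a : G)) : g ∈ normalizer (s.J : Set G) := by
  obtain ⟨p, hp⟩ := sing_J C ha
  obtain ⟨m, rfl⟩ := C.surj p
  rw [C.ρ_apply] at hp
  have hm := s.M_le_normJ m.2
  have hy1 : (y : G) ≠ 1 := fun e => hy.1 (Subtype.ext e)
  have hyJ : (m : G) * y * (m : G)⁻¹ ∈ s.J := (mem_normalizer_iff.1 hm _).1 y.2
  have hyZ : (m : G) * y * (m : G)⁻¹ ∉ s.Z := fun h =>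
    hy.not_sing C ⟨hy1, (m : G)⁻¹, by rwa [inv_inv]⟩
  have hgen : zpowers ((m : G) * a * (m : G)⁻¹) = s.Z := eq_of_le_of_card_ge (zpowers_le.2 hp) (by
    rw [s.card_Z, Nat.card_zpowers, orderOf_eq_prime (p := 3) (s.hJexp _ (s.Z_le_J hp))
      (fun e => ha.1 (conj_eq_one_iff.1 e))])
  have hcy : Commute ((m : G) * g * (m : G)⁻¹) ((m : G) * y * (m : G)⁻¹) := by
    simpa using hgy.map (MulAut.conj (m : G)).toMonoidHom
  have hca : Commute ((m : G) * g * (m : G)⁻¹) ((m : G) * a * (m : G)⁻¹) := by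
    simpa using hga.map (MulAut.conj (m : G)).toMonoidHom
  have hcZ : (m : G) * g * (m : G)⁻¹ ∈ centralizer (s.Z : Set G) := by
    rw [← hgen, mem_centralizer_iff]
    intro z hz
    obtain ⟨k, rfl⟩ := mem_zpowers_iff.1 hz
    exact (hca.zpow_right k).eq.symm
  have := mul_mem (mul_mem (inv_mem hm) (cent_Z_point C hyJ hyZ hcZ hcy)) hm
  simpa [mul_assoc] using this

namespace Coord

variable {C} (c : Coord C)

theorem pt_coe (k : ZMod 3) (i : Vec) : (c.pt k i : G) = (c.y : G) ^ k.val * (c.vec i : G) := by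
  simp [pt]

theorem vec_smul_coe (n : ℕ) (i : Vec) : (c.vec (n • i) : G) = (c.vec i : G) ^ n := by
  rw [vec_smul, Subgroup.coe_pow]

theorem commute_pt {g : G} (hgy : Commute g (c.y : G)) {i : Vec} (hgi : Commute g (c.vec i : G))
    (k : ZMod 3) : Commute g (c.pt k i : G) := by
  rw [pt_coe]; exact (hgy.pow_right _).mul_right hgi

theorem commute_vec {g : G} (hgy : Commute g (c.y : G)) {k : ZMod 3} {i : Vec}
    (hgi : Commute g (c.pt k i : G)) : Commute g (c.vec i : G) := by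
  have := (hgy.pow_right k.val).inv_right.mul_right hgi
  rwa [pt_coe, inv_mul_cancel_left] at this

theorem commute_comb {g : G} {i j : Vec} (hi : Commute g (c.vec i : G)) (hj : Commute g (c.vec j : G))
    (m n : ℕ) : Commute g (c.vec (m • i + n • j) : G) := by
  rw [vec_add, Subgroup.coe_mul, vec_smul_coe, vec_smul_coe]
  exact (hi.pow_right m).mul_right (hj.pow_right n)

/-- The case of a plane with a conjugate of a point of `Z`. -/
theorem cent_good {i : Vec} (hi : Good i) {g : G} (hgy : Commute g (c.y : G))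
    (hgi : Commute g (c.vec i : G)) : g ∈ normalizer (s.J : Set G) := by
  have hneg : Commute g (c.vec (-i) : G) := by
    rw [vec_neg, Subgroup.coe_inv]; exact hgi.inv_right
  rcases hi with ⟨u, e⟩ | hfull
  · obtain ⟨k, hk⟩ := c.sing_single u
    refine plane_sing C c.four hk hgy (c.commute_pt hgy ?_ k)
    rcases e with rfl | rfl
    · exact hgi
    · rwa [neg_neg] at hneg
  · obtain ⟨k, hk⟩ := c.sing_full i hfull
    exact plane_sing C c.four hk hgy (c.commute_pt hgy hgi k)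

theorem mem_J_of_trivial {h : G}
    (H : ∀ k i, ((c.pt k i : s.J) : G) = h * (c.pt k i : G) * h⁻¹) : h ∈ s.J := by
  rw [← s.centJ]
  refine mem_centralizer_iff.2 fun x hx => ?_
  obtain ⟨k, i, e⟩ := c.exists_pt ⟨x, hx⟩
  have := H k i
  rw [e] at this
  exact (mul_inv_eq_iff_eq_mul.1 this.symm).symm

theorem y_mem_cent {j : G} (hj : j ∈ s.J) : Commute j (c.y : G) := s.commute_J hj c.y.2

/-- The action of `N(J) ⊓ C(y) ⊓ C(i)` at a point of weight two. -/
theorem fix_act {i : Vec} (hi : i ≠ 0) (hng : ¬ Good i) {h : G} (hh : h ∈ normalizer (s.J : Set G))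
    (hy : Commute h (c.y : G)) (hvi : Commute h (c.vec i : G)) :
    h ∈ s.J ∨ ∀ k j, ((c.pt k (refl i j) : s.J) : G) = h * (c.pt k j : G) * h⁻¹ := by
  obtain ⟨π, ε, hd, hact⟩ := c.exists_mon_det hh hy
  have hfix : mon π ε i = i := (c.pt_injective (k := 0) (l := 0) (Subtype.ext (by
    rw [hact, (c.commute_pt hy hvi 0).eq, mul_inv_cancel_right]))).2
  rcases fix_two i hi hng π ε hd hfix with h1 | h1
  · refine Or.inl (c.mem_J_of_trivial fun k j => ?_)
    rw [← hact, h1]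
  · exact Or.inr fun k j => by rw [← hact, h1]

/-- Multiples of `i` modulo `y`. -/
def eline (i : Vec) : Subgroup G where
  carrier := {x | ∃ k n, ((c.pt k (sm n i) : s.J) : G) = x}
  one_mem' := ⟨0, 0, by
    rw [show sm 0 i = 0 from funext fun p => zero_mul _]; simp [pt, c.vec_zero]⟩
  mul_mem' := by
    rintro _ _ ⟨k, n, rfl⟩ ⟨l, m, rfl⟩
    exact ⟨k + l, n + m, by rw [sm_add, pt_add, Subgroup.coe_mul]⟩
  inv_mem' := by
    rintro _ ⟨k, n, rfl⟩
    exact ⟨-k, -n, by rw [sm_neg, ← pt_neg, Subgroup.coe_inv]⟩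

theorem eline_le (i : Vec) : c.eline i ≤ s.J := by
  rintro _ ⟨k, n, rfl⟩; exact (c.pt k _).2

theorem pt_not_eline {i j : Vec} {l : ZMod 3} (h : (c.pt l j : G) ∉ c.eline i) :
    ∀ n, j ≠ sm n i := fun n e => h ⟨l, n, by rw [e]⟩

theorem card_eline {i : Vec} (hi : i ≠ 0) : Nat.card (c.eline i) = 9 := by
  let f : ZMod 3 × ZMod 3 → c.eline i := fun p => ⟨_, p.1, p.2, rfl⟩
  have hf : Function.Bijective f := by
    refine ⟨fun p q e => ?_, ?_⟩
    · obtain ⟨h1, h2⟩ := c.pt_injective (Subtype.ext (congrArg (fun x : c.eline i => (x : G)) e) :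
        c.pt p.1 (sm p.2 i) = c.pt q.1 (sm q.2 i))
      exact Prod.ext h1 (sm_inj i hi _ _ h2)
    · rintro ⟨_, k, n, rfl⟩; exact ⟨(k, n), rfl⟩
  rw [← Nat.card_congr (Equiv.ofBijective f hf), Nat.card_prod, Nat.card_zmod]

/-- Two points of weight two at `y`. -/
theorem cent_two_trivial {i : Vec} (hi : i ≠ 0) (K : Subgroup G)
    (hK : ∀ x, x ∈ K ↔ Commute x (c.y : G) ∧ Commute x (c.vec i : G))
    (htriv : K ⊓ normalizer (s.J : Set G) ≤ s.J) : K ≤ normalizer (s.J : Set G) := by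
  classical
  haveI : Fact (Nat.Prime 3) := ⟨Nat.prime_three⟩
  have hJK : s.J ≤ K := fun j hj => (hK j).2 ⟨c.y_mem_cent hj, s.commute_J hj (c.vec i).2⟩
  obtain ⟨P, hP⟩ := ((IsPGroup.of_card s.hJcard).comap_of_injective K.subtype
    K.subtype_injective).exists_le_sylow (G := K)
  have hnorm : ∀ x : K, (∀ j ∈ s.J, (x : G) * j * (x : G)⁻¹ ∈ s.J) → (x : G) ∈ s.J := fun x hx =>
    htriv ⟨x.2, normJ_of_conj C fun j hj => le_normalizer (hx j hj)⟩
  have hPJ : (P : Subgroup K) = s.J.subgroupOf K := by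
    refine le_antisymm ?_ hP
    by_contra hnle
    set J' := (s.J.subgroupOf K).subgroupOf (P : Subgroup K)
    have hlt : J' < ⊤ := lt_top_iff_ne_top.2 fun h => hnle (subgroupOf_eq_top.1 h)
    have : Group.IsNilpotent (P : Subgroup K) := P.2.isNilpotent
    obtain ⟨⟨x, hxP⟩, hxN, hxJ⟩ := SetLike.exists_of_lt
      (Group.normalizerCondition_of_isNilpotent J' hlt)
    refine hxJ (hnorm x fun j hj => ?_)
    exact (mem_normalizer_iff.1 hxN ⟨⟨j, hJK hj⟩, hP hj⟩).1 hj
  have hN : normalizer ((P : Subgroup K) : Set K) ≤ centralizer ((P : Subgroup K) : Set K) := by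
    intro x hx y hy
    rw [hPJ] at hx hy
    have hxJ := hnorm x fun j hj => (mem_normalizer_iff.1 hx ⟨j, hJK hj⟩).1 hj
    exact Subtype.ext (s.commute_J hy hxJ).eq
  obtain ⟨O, hOc, h3, hOn⟩ : ∃ O : Subgroup K, IsComplement' O (P : Subgroup K) ∧
      ¬ 3 ∣ Nat.card O ∧ O.Normal :=
    ⟨_, MonoidHom.ker_transferSylow_isComplement' P hN, MonoidHom.not_dvd_card_ker_transferSylow P hN,
      MonoidHom.normal_ker _⟩
  obtain ⟨q, hq⟩ : ∃ q, i q ≠ 0 := Function.ne_iff.1 hi
  let A : Subgroup G :=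
    { carrier := {x | ∃ j : Vec, j q = 0 ∧ ((c.vec j : s.J) : G) = x}
      one_mem' := ⟨0, rfl, by rw [c.vec_zero]; rfl⟩
      mul_mem' := by
        rintro _ _ ⟨j, hj, rfl⟩ ⟨j', hj', rfl⟩
        exact ⟨j + j', by rw [Pi.add_apply, hj, hj', add_zero], by rw [vec_add, Subgroup.coe_mul]⟩
      inv_mem' := by
        rintro _ ⟨j, hj, rfl⟩
        exact ⟨-j, by rw [Pi.neg_apply, hj, neg_zero], by rw [vec_neg, Subgroup.coe_inv]⟩ }
  have hAJ : A ≤ s.J := by rintro _ ⟨j, -, rfl⟩; exact (c.vec j).2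
  haveI : IsMulCommutative A :=
    ⟨⟨fun a b => Subtype.ext (s.commute_J (hAJ a.2) (hAJ b.2)).eq⟩⟩
  have hA9 : 9 ≤ Nat.card A := by
    let f : {j : Vec // j q = 0} → A := fun j => ⟨_, j.1, j.2, rfl⟩
    have hf : Function.Injective f := fun a b e => Subtype.ext (c.vec_injective
      (Subtype.ext (congrArg (fun x : A => (x : G)) e)))
    refine le_trans ?_ (Nat.card_le_card_of_injective f hf)
    rw [Nat.card_eq_fintype_card, Fintype.card_subtype]
    exact nine_zero q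
  have hnc : ¬ IsCyclic A := fun hc => by
    obtain ⟨g, hg⟩ := hc.exists_ofOrder_eq_natCard (α := A)
    have := Nat.le_of_dvd (by norm_num) (orderOf_dvd_of_pow_eq_one
      (Subtype.ext (by rw [Subgroup.coe_pow]; exact s.hJexp _ (hAJ g.2)) : g ^ 3 = 1))
    omega
  have hAK : A ≤ normalizer ((O.map K.subtype : Subgroup G) : Set G) := by
    have key : ∀ a ∈ A, ∀ x ∈ O.map K.subtype, a * x * a⁻¹ ∈ O.map K.subtype := by
      rintro a ha _ ⟨x, hx, rfl⟩
      exact ⟨⟨a, hJK (hAJ ha)⟩ * x * ⟨a, hJK (hAJ ha)⟩⁻¹,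
        hOn.conj_mem x hx _, rfl⟩
    intro a ha
    rw [mem_normalizer_iff]
    refine fun x => ⟨key a ha x, fun h => ?_⟩
    simpa [mul_assoc] using key a⁻¹ (inv_mem ha) _ h
  have hcop : (Nat.card A).Coprime (Nat.card (O.map K.subtype)) := by
    obtain ⟨n, -, hn⟩ := (Nat.dvd_prime_pow Nat.prime_three).1
      (s.hJcard ▸ card_dvd_of_le hAJ : Nat.card A ∣ 3 ^ 4)
    rw [hn, card_map_of_injective K.subtype_injective]
    exact Nat.Coprime.pow_left n ((Nat.prime_three.coprime_iff_not_dvd).2 h3)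
  have hbot : O.map K.subtype = ⊥ := by
    rw [← Coprime.iSup_centralizer_eq hnc hAK hcop]
    refine eq_bot_iff.2 (iSup₂_le fun a ha x hx => ?_)
    obtain ⟨⟨j, hjq, rfl⟩, ha1⟩ := ha
    obtain ⟨⟨x', hx'O, rfl⟩, hxa⟩ := hx
    have hxK := (hK x').1 x'.2
    have hj0 : j ≠ 0 := fun e => ha1 (by rw [e, c.vec_zero]; rfl)
    obtain ⟨m, n, hgood⟩ := plane_hit i hi j (avoid i hi q hq j hjq hj0)
    have hxN := c.cent_good hgood hxK.1 (c.commute_comb hxK.2 (mem_centralizer_singleton_iff.1 hxa) _ _)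
    have hxP : x' ∈ (P : Subgroup K) := hPJ ▸ htriv ⟨x'.2, hxN⟩
    rw [mem_bot, Subgroup.coe_subtype]
    exact congrArg Subtype.val (disjoint_def.1 hOc.disjoint hx'O hxP)
  rw [map_eq_bot_iff_of_injective _ K.subtype_injective] at hbot
  have htop : (P : Subgroup K) = ⊤ := isComplement'_bot_left.1 (hbot ▸ hOc)
  intro x hx
  have : (⟨x, hx⟩ : K) ∈ s.J.subgroupOf K := hPJ ▸ htop ▸ mem_top _
  exact le_normalizer (mem_subgroupOf.1 this)

/-- The case with an involution at a point of weight two. -/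
theorem cent_two_refl {i : Vec} (hi : i ≠ 0) (hng : ¬ Good i) (K : Subgroup G)
    (hK : ∀ x, x ∈ K ↔ Commute x (c.y : G) ∧ Commute x (c.vec i : G))
    {b : G} (hb : b ∈ K) (hbN : b ∈ normalizer (s.J : Set G)) (hbJ : b ∉ s.J) :
    K ≤ normalizer (s.J : Set G) := by
  classical
  haveI : Fact (Nat.Prime 3) := ⟨Nat.prime_three⟩
  have hJK : s.J ≤ K := fun j hj => (hK j).2 ⟨c.y_mem_cent hj, s.commute_J hj (c.vec i).2⟩
  have hact : ∀ h ∈ K, h ∈ normalizer (s.J : Set G) → h ∉ s.J →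
      ∀ k j, ((c.pt k (refl i j) : s.J) : G) = h * (c.pt k j : G) * h⁻¹ := fun h hh hN hJ =>
    (c.fix_act hi hng hN ((hK h).1 hh).1 ((hK h).1 hh).2).resolve_left hJ
  have hbact := hact b hb hbN hbJ
  set E₀ := (c.eline i).subgroupOf K
  have hcent : ∀ x ∈ c.eline i, ∀ k ∈ K, Commute k x := by
    rintro _ ⟨l, n, rfl⟩ k hk
    refine c.commute_pt ((hK k).1 hk).1 ?_ l
    rw [sm_eq, vec_smul_coe]
    exact ((hK k).1 hk).2.pow_right _
  haveI : E₀.Normal := ⟨fun x hx g => by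
    have : g * x * g⁻¹ = x := Subtype.ext (mul_inv_eq_iff_eq_mul.2 (hcent _ hx g g.2).eq)
    rwa [this]⟩
  let f : s.J →* K ⧸ E₀ := (QuotientGroup.mk' E₀).comp (inclusion hJK)
  set E := f.range
  have hker : f.ker = (c.eline i).subgroupOf s.J := by
    ext x
    exact QuotientGroup.eq_one_iff (inclusion hJK x)
  have hcard : Nat.card E = 9 := by
    have hmul := card_eq_card_quotient_mul_card_subgroup f.ker
    rw [Nat.card_congr (QuotientGroup.quotientKerEquivRange f).toEquiv, hker,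
      Nat.card_congr (subgroupOfEquivOfLe (c.eline_le i)).toEquiv, c.card_eline hi, s.hJcard] at hmul
    show Nat.card f.range = 9
    omega
  have hlift : ∀ k : K, (k : K ⧸ E₀) ∈ E → (k : G) ∈ s.J := by
    rintro k ⟨x, hx⟩
    have hx' : ((inclusion hJK x : K) : K ⧸ E₀) = (k : K ⧸ E₀) := hx
    have h1 : (x : G)⁻¹ * k ∈ c.eline i := mem_subgroupOf.1 (QuotientGroup.eq.1 hx')
    simpa using mul_mem x.2 (c.eline_le i h1)
  set t : K ⧸ E₀ := QuotientGroup.mk ⟨b, hb⟩
  have hinv : ∀ x ∈ E, t * x * t⁻¹ = x⁻¹ := by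
    rintro _ ⟨a, rfl⟩
    obtain ⟨l, j, rfl⟩ := c.exists_pt a
    show ((⟨b, hb⟩ * inclusion hJK (c.pt l j) * ⟨b, hb⟩⁻¹ : K) : K ⧸ E₀) = _
    refine eq_inv_of_mul_eq_one_left ?_
    refine (QuotientGroup.eq_one_iff _).2 ⟨l + l, dot i j, ?_⟩
    rw [← refl_add, pt_add, Subgroup.coe_mul, hbact]
    rfl
  have hc : ∀ x ∈ E, x ≠ 1 → centralizer ({x} : Set (K ⧸ E₀)) = E := by
    rintro _ ⟨a, rfl⟩ ha1
    refine le_antisymm (fun g hg => ?_) ?_
    · obtain ⟨g, rfl⟩ := QuotientGroup.mk_surjective g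
      have hgK := (hK g).1 g.2
      have haE : (a : G) ∉ c.eline i := fun h => ha1 ((QuotientGroup.eq_one_iff _).2 h)
      obtain ⟨l, j, rfl⟩ := c.exists_pt a
      have hd : (c.pt l j : G)⁻¹ * ((g : G) * (c.pt l j : G) * (g : G)⁻¹) ∈ c.eline i := by
        have e : (g : K ⧸ E₀) * f (c.pt l j) * (g : K ⧸ E₀)⁻¹ = f (c.pt l j) :=
          mul_inv_eq_iff_eq_mul.2 (mem_centralizer_singleton_iff.1 hg)
        have e' : ((inclusion hJK (c.pt l j) : K) : K ⧸ E₀) =
            ((g * inclusion hJK (c.pt l j) * g⁻¹ : K) : K ⧸ E₀) := e.symm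
        exact mem_subgroupOf.1 (QuotientGroup.eq.1 e')
      have hconj : ∀ x ∈ s.J, (g : G) * x * (g : G)⁻¹ ∈ normalizer (s.J : Set G) := by
        intro x hx
        set x' := (g : G) * x * (g : G)⁻¹
        have hx'K : x' ∈ K := mul_mem (mul_mem g.2 (hJK hx)) (inv_mem g.2)
        have h1 : Commute x' ((g : G) * (c.pt l j : G) * (g : G)⁻¹) := by
          simpa [x'] using (s.commute_J hx (c.pt l j).2).map (MulAut.conj (g : G)).toMonoidHom
        have h2 : Commute x' (c.pt l j : G) := by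
          have := h1.mul_right (hcent _ hd _ hx'K).inv_right
          rwa [mul_inv_rev, inv_inv, mul_inv_cancel_left] at this
        obtain ⟨m, n, hgood⟩ := plane_hit i hi j (c.pt_not_eline haE)
        exact c.cent_good hgood ((hK x').1 hx'K).1
          (c.commute_comb ((hK x').1 hx'K).2 (c.commute_vec ((hK x').1 hx'K).1 h2) _ _)
      have hgN := normJ_of_conj C hconj
      by_cases hgJ : (g : G) ∈ s.J
      · exact ⟨⟨g, hgJ⟩, rfl⟩
      · exfalso
        refine haE ?_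
        have h2 : (c.pt l j : G) * ((g : G) * (c.pt l j : G) * (g : G)⁻¹) ∈ c.eline i := by
          refine ⟨l + l, dot i j, ?_⟩
          rw [← refl_add, pt_add, Subgroup.coe_mul, ← hact g g.2 hgN hgJ,
            (s.commute_J (c.pt l (refl i j)).2 (c.pt l j).2).eq]
        have h3 := mul_mem h2 (inv_mem hd)
        rw [mul_inv_rev, inv_inv, ← mul_assoc, mul_inv_cancel_right] at h3
        have h4 := s.hJexp _ (c.pt l j).2
        rw [pow_succ, sq] at h4
        have : (c.pt l j : G) = ((c.pt l j : G) * (c.pt l j : G))⁻¹ :=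
          eq_inv_of_mul_eq_one_right h4
        rw [this]
        exact inv_mem h3
    · rintro _ ⟨x, rfl⟩
      refine mem_centralizer_singleton_iff.2 ?_
      show f x * f a = f a * f x
      rw [← map_mul, ← map_mul]
      exact congrArg f (Subtype.ext (s.commute_J x.2 a.2).eq)
  have htE : t ∉ E := fun h => hbJ (hlift ⟨b, hb⟩ h)
  haveI : Nontrivial E := Finite.one_lt_card_iff_nontrivial.1 (by rw [hcard]; norm_num)
  obtain ⟨⟨e, heE⟩, he⟩ := exists_ne (1 : E)
  have he1 : e ≠ 1 := fun h => he (Subtype.ext h)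
  have hcube : ∀ x ∈ E, x ^ 3 = 1 := by
    rintro _ ⟨x, rfl⟩
    rw [← map_pow, show x ^ 3 = 1 from Subtype.ext (s.hJexp _ x.2), map_one]
  obtain ⟨v, hvE, hv⟩ : ∃ v ∈ E, v ∉ zpowers e := by
    by_contra h
    push Not at h
    have := card_le_of_le (H := E) (K := zpowers e) h
    rw [hcard, Nat.card_zpowers, orderOf_eq_prime (hcube e heE) he1] at this
    omega
  have hnorm : ∀ g ∈ normalizer (E : Set (K ⧸ E₀)), g ∈ E ∨ g * t ∈ E := by
    intro g hg
    obtain ⟨g, rfl⟩ := QuotientGroup.mk_surjective g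
    have hgN : (g : G) ∈ normalizer (s.J : Set G) := normJ_of_conj C fun x hx =>
      le_normalizer (hlift (g * ⟨x, hJK hx⟩ * g⁻¹) (by
        have h : (g : K ⧸ E₀) * f ⟨x, hx⟩ * (g : K ⧸ E₀)⁻¹ ∈ E :=
          (mem_normalizer_iff.1 hg _).1 ⟨⟨x, hx⟩, rfl⟩
        exact h))
    by_cases hgJ : (g : G) ∈ s.J
    · exact Or.inl ⟨⟨g, hgJ⟩, rfl⟩
    refine Or.inr ⟨⟨(g : G) * b, c.mem_J_of_trivial fun k j => ?_⟩, rfl⟩
    rw [show (g : G) * b * (c.pt k j : G) * ((g : G) * b)⁻¹ =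
      (g : G) * (b * (c.pt k j : G) * b⁻¹) * (g : G)⁻¹ by group, ← hbact, ← hact g g.2 hgN hgJ,
      refl_refl i hi hng]
  have hcover : ∀ Q : Subgroup (K ⧸ E₀), IsPGroup 3 Q → ∃ k, ∀ a ∈ Q, k * a * k⁻¹ ∈ E := by
    intro Q hQ
    obtain ⟨P, hP⟩ := (IsPGroup.of_card (n := 2) (hcard.trans (by norm_num)) : IsPGroup 3 E).exists_le_sylow
    have hPE : (P : Subgroup (K ⧸ E₀)) = E := by
      refine le_antisymm ?_ hP
      by_contra hnle
      have hlt : E.subgroupOf (P : Subgroup (K ⧸ E₀)) < ⊤ :=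
        lt_top_iff_ne_top.2 fun h => hnle (subgroupOf_eq_top.1 h)
      have : Group.IsNilpotent (P : Subgroup (K ⧸ E₀)) := P.2.isNilpotent
      obtain ⟨⟨x, hxP⟩, hxN, hxE⟩ := SetLike.exists_of_lt
        (Group.normalizerCondition_of_isNilpotent _ hlt)
      have hxN' : x ∈ normalizer (E : Set (K ⧸ E₀)) := by
        rw [mem_normalizer_iff]
        have key : ∀ a ∈ E, ∀ z : (P : Subgroup (K ⧸ E₀)),
            z ∈ normalizer (E.subgroupOf (P : Subgroup (K ⧸ E₀)) : Set (P : Subgroup (K ⧸ E₀))) →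
              (z : K ⧸ E₀) * a * (z : K ⧸ E₀)⁻¹ ∈ E := fun a ha z hz =>
          (mem_normalizer_iff.1 hz ⟨a, hP ha⟩).1 ha
        refine fun a => ⟨fun ha => key a ha _ hxN, fun ha => ?_⟩
        simpa [mul_assoc] using key _ ha _ (inv_mem hxN)
      rcases hnorm x hxN' with h | h
      · exact hxE h
      · refine htE ?_
        have h3 : x ∈ E := by
          obtain ⟨n, hn⟩ := IsPGroup.iff_orderOf.1 P.2 ⟨x, hxP⟩
          rw [Subgroup.orderOf_mk] at hn
          have htt : t * t ∈ E := ⟨⟨b * b, c.mem_J_of_trivial fun k j => by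
            rw [show b * b * (c.pt k j : G) * (b * b)⁻¹ = b * (b * (c.pt k j : G) * b⁻¹) * b⁻¹ by group,
              ← hbact, ← hbact, refl_refl i hi hng]⟩, rfl⟩
          have hx2 : x * x ∈ E := by
            have e1 : x * x = (x * t) * (t⁻¹ * (x * t) * t) * (t * t)⁻¹ := by group
            rw [e1]
            refine mul_mem (mul_mem h ?_) (inv_mem htt)
            have e2 : t⁻¹ * (x * t) * t = (t * t)⁻¹ * (t * (x * t) * t⁻¹) * (t * t) := by group
            rw [e2, hinv _ h]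
            exact mul_mem (mul_mem (inv_mem htt) (inv_mem h)) htt
          have hodd : (3 ^ n + 1) / 2 * 2 = 3 ^ n + 1 :=
            Nat.div_mul_cancel (Odd.add_one (Odd.pow (by decide))).two_dvd
          have : x = (x * x) ^ ((3 ^ n + 1) / 2) := by
            rw [← sq, ← pow_mul, mul_comm, hodd, pow_succ, ← hn, pow_orderOf_eq_one, one_mul]
          rw [this]
          exact pow_mem hx2 _
        simpa using mul_mem (inv_mem h3) h
    obtain ⟨R, hR⟩ := hQ.exists_le_sylow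
    obtain ⟨k, hk⟩ := MulAction.exists_smul_eq (K ⧸ E₀) R P
    refine ⟨k, fun a ha => ?_⟩
    rw [← hPE, ← hk, Sylow.coe_subgroup_smul]
    exact ⟨a, hR ha, rfl⟩
  have hL : A9ThreeLocal.Lone E e v t :=
    { comm := by
        rintro _ ⟨x, rfl⟩ _ ⟨y, rfl⟩
        rw [← map_mul, ← map_mul]
        exact congrArg f (Subtype.ext (s.commute_J x.2 y.2).eq)
      cube := hcube
      card := hcard
      e_mem := heE
      v_mem := hvE
      e_ne := he1
      v_not := hv
      inv := hinv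
      norm := hnorm
      cent := fun x hx hne => hc x hx fun h1 => hne (h1 ▸ one_mem _)
      cover := hcover }
  have h18 : Nat.card (K ⧸ E₀) = 18 := by rw [hL.card_eq, hc e heE he1, hcard]
  set H := ((normalizer (s.J : Set G)).subgroupOf K).map (QuotientGroup.mk' E₀)
  have hEH : E ≤ H := by
    rintro _ ⟨x, rfl⟩
    exact ⟨inclusion hJK x, mem_subgroupOf.2 (le_normalizer x.2), rfl⟩
  have htop : H = ⊤ := by
    refine eq_top_of_card_eq _ ?_
    have h1 : 9 ∣ Nat.card H := hcard ▸ card_dvd_of_le hEH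
    have h2 : Nat.card H ∣ 18 := h18 ▸ card_subgroup_dvd_card H
    have h3 : Nat.card H ≠ 9 := fun e9 => htE (by
      rw [eq_of_le_of_card_ge hEH (by rw [e9, hcard])]
      exact ⟨⟨b, hb⟩, mem_subgroupOf.2 hbN, rfl⟩)
    rw [h18]
    rcases (Nat.le_of_dvd (by norm_num) h2).lt_or_eq with hlt | heq
    · exfalso
      obtain ⟨n, hn⟩ := h1
      have hpos : 0 < Nat.card H := Nat.card_pos
      omega
    · exact heq
  intro x hx
  have hxH : QuotientGroup.mk' E₀ ⟨x, hx⟩ ∈ H := htop ▸ mem_top _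
  obtain ⟨w, hw, e'⟩ := hxH
  have e'' : ((w : K) : K ⧸ E₀) = ((⟨x, hx⟩ : K) : K ⧸ E₀) := e'
  have h1 : (w : G)⁻¹ * x ∈ c.eline i := mem_subgroupOf.1 (QuotientGroup.eq.1 e'')
  simpa using mul_mem (mem_subgroupOf.1 hw) (le_normalizer (c.eline_le i h1))

/-- The centraliser of `y` and of a further point of `J` normalises `J`. -/
theorem cent_vec {i : Vec} (hi : i ≠ 0) {g : G} (hgy : Commute g (c.y : G))
    (hgi : Commute g (c.vec i : G)) : g ∈ normalizer (s.J : Set G) := by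
  by_cases hgood : Good i
  · exact c.cent_good hgood hgy hgi
  set K := centralizer ({(c.y : G), (c.vec i : G)} : Set G)
  have hK : ∀ x, x ∈ K ↔ Commute x (c.y : G) ∧ Commute x (c.vec i : G) := fun x => by
    simp [K, mem_centralizer_iff, commute_iff_eq, eq_comm]
  by_cases htriv : K ⊓ normalizer (s.J : Set G) ≤ s.J
  · exact c.cent_two_trivial hi K hK htriv ((hK g).2 ⟨hgy, hgi⟩)
  · obtain ⟨b, hb, hbJ⟩ := SetLike.not_le_iff_exists.1 htriv
    exact c.cent_two_refl hi hgood K hK hb.1 hb.2 hbJ ((hK g).2 ⟨hgy, hgi⟩)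

theorem cent_pt {i : Vec} (hi : i ≠ 0) (k : ZMod 3) {g : G} (hgy : Commute g (c.y : G))
    (hgi : Commute g (c.pt k i : G)) : g ∈ normalizer (s.J : Set G) :=
  c.cent_vec hi hgy (c.commute_vec hgy hgi)

/-- An element of `C(y)` fixing a further point modulo `⟨y⟩` normalises `J`. -/
theorem loc_mod {i : Vec} (hi : i ≠ 0) (k : ZMod 3) {g : G} (hgy : Commute g (c.y : G))
    (hga : g * (c.pt k i : G) * g⁻¹ * (c.pt k i : G)⁻¹ ∈ zpowers (c.y : G)) :
    g ∈ normalizer (s.J : Set G) := by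
  refine normJ_of_conj C fun j hj => ?_
  have hy : Commute (g * j * g⁻¹) (c.y : G) :=
    (hgy.mul_left (c.y_mem_cent hj)).mul_left hgy.inv_left
  refine c.cent_pt hi k hy ?_
  obtain ⟨n, hn⟩ := mem_zpowers_iff.1 hga
  have h1 : Commute (g * j * g⁻¹) (g * (c.pt k i : G) * g⁻¹) := by
    simpa using (s.commute_J hj (c.pt k i).2).map (MulAut.conj g).toMonoidHom
  have e : (c.pt k i : G) = ((c.y : G) ^ n)⁻¹ * (g * (c.pt k i : G) * g⁻¹) := by rw [hn]; group
  rw [e]
  exact (hy.zpow_right n).inv_right.mul_right h1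

/-- A 3-element of `N(J)` conjugate to a point of `Z` lies in `J`. -/
theorem sing_mem_J {a : G} (ha : Sing s a) (hN : a ∈ normalizer (s.J : Set G)) (h3 : a ^ 3 = 1) :
    a ∈ s.J := by
  haveI : Fact (Nat.Prime 3) := ⟨Nat.prime_three⟩
  have haM : a ∈ s.M := s.mem_M hN (k := 1) (by rw [pow_one]; exact orderOf_eq_prime h3 ha.1)
  have hp : IsPGroup 3 (zpowers (C.φ ⟨a, haM⟩)) := by
    rw [IsPGroup.iff_card]
    obtain ⟨n, -, hn⟩ := (Nat.dvd_prime_pow Nat.prime_three).1
      (orderOf_dvd_of_pow_eq_one (show C.φ ⟨a, haM⟩ ^ (3 ^ 1) = 1 by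
        rw [pow_one, ← map_pow, show (⟨a, haM⟩ : s.M) ^ 3 = 1 from Subtype.ext h3, map_one]))
    exact ⟨n, by rw [Nat.card_zpowers, hn]⟩
  obtain ⟨p, hconj⟩ := Six.exists_conj_P0 hp
  obtain ⟨m, rfl⟩ := C.surj p
  have hP : C.φ (m * ⟨a, haM⟩ * m⁻¹) ∈ Six.P0 := by
    rw [map_mul, map_mul, map_inv]; exact hconj _ (mem_zpowers _)
  have hS := mem_P0_preimage C hP
  have hmN := s.M_le_normJ m.2
  have hJ : (m : G) * a * (m : G)⁻¹ ∈ s.J := by
    rcases C.mem_of_cube hS (by
      show ((m : G) * a * (m : G)⁻¹) ^ 3 = 1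
      rw [conj_pow, h3, mul_one, mul_inv_cancel]) with h | h
    · exact s.Z_le_J (sing_Q C (ha.conj (m : G)) h)
    · exact h
  exact (mem_normalizer_iff.1 hmN a).2 hJ

/-- `C(y)` fuses no point of `J` outside `⟨y⟩` into `N(J) \ J`. -/
theorem closed_mod {i : Vec} (hi : i ≠ 0) (k : ZMod 3) {g : G} (hgy : Commute g (c.y : G))
    (hN : g * (c.pt k i : G) * g⁻¹ ∈ normalizer (s.J : Set G)) :
    g * (c.pt k i : G) * g⁻¹ ∈ s.J := by
  set q := g * (c.pt k i : G) * g⁻¹ with hq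
  by_cases hgood : Good i
  · obtain ⟨l, j, hj, hl⟩ : ∃ l j, (j = i ∨ j = -i) ∧ Sing s ((c.pt l j : s.J) : G) := by
      rcases hgood with ⟨u, e | e⟩ | hfull
      · obtain ⟨l, hl⟩ := c.sing_single u
        exact ⟨l, _, Or.inl e.symm, hl⟩
      · obtain ⟨l, hl⟩ := c.sing_single u
        exact ⟨l, _, Or.inr (by rw [e, neg_neg]), hl⟩
      · obtain ⟨l, hl⟩ := c.sing_full i hfull
        exact ⟨l, i, Or.inl rfl, hl⟩
    obtain ⟨l, hl⟩ : ∃ l, Sing s ((c.pt l i : s.J) : G) := by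
      rcases hj with rfl | rfl
      · exact ⟨l, hl⟩
      · exact ⟨-l, by have := hl.inv; rwa [← Subgroup.coe_inv, c.pt_neg, neg_neg] at this⟩
    have hyN : ∀ n : ℕ, (c.y : G) ^ n ∈ normalizer (s.J : Set G) := fun n =>
      le_normalizer (pow_mem c.y.2 n)
    set y' : G := (c.y : G) ^ l.val * ((c.y : G) ^ k.val)⁻¹
    have e : g * (c.pt l i : G) * g⁻¹ = y' * q := by
      have hc : Commute g y' := (hgy.pow_right l.val).mul_right (hgy.pow_right k.val).inv_right
      rw [hq, show y' * (g * (c.pt k i : G) * g⁻¹) = (y' * g) * (c.pt k i : G) * g⁻¹ by group, ← hc.eq]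
      simp only [y', pt_coe]
      group
    have hJ := sing_mem_J (C := C) (hl.conj g)
      (e ▸ mul_mem (mul_mem (hyN _) (inv_mem (hyN _))) hN)
      (by rw [conj_pow, s.hJexp _ (c.pt l i).2, mul_one, mul_inv_cancel])
    rw [e] at hJ
    have := mul_mem (inv_mem (mul_mem (pow_mem c.y.2 l.val) (inv_mem (pow_mem c.y.2 k.val)))) hJ
    simpa [y', mul_assoc] using this
  by_contra hqJ
  have hqy : Commute q (c.y : G) :=
    (hgy.mul_left (c.y_mem_cent (c.pt k i).2)).mul_left hgy.inv_left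
  have hq3 : q ^ 3 = 1 := by rw [hq, conj_pow, s.hJexp _ (c.pt k i).2, mul_one, mul_inv_cancel]
  obtain ⟨π, ε, -, hact⟩ := c.exists_mon_det hN hqy
  have hcube : ∀ j, mon π ε (mon π ε (mon π ε j)) = j := fun j =>
    (c.pt_injective (k := 0) (l := 0) (Subtype.ext (by
      rw [hact, hact, hact, show q * (q * (q * (c.pt 0 j : G) * q⁻¹) * q⁻¹) * q⁻¹ =
        q ^ 3 * (c.pt 0 j : G) * (q ^ 3)⁻¹ by rw [pow_succ, sq]; group, hq3]
      simp))).2
  rcases mon_cube π ε hcube with h1 | ⟨w, hw, hfix⟩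
  · exact hqJ (c.mem_J_of_trivial fun k j => by rw [← hact, h1])
  set e := g⁻¹ * (c.vec w : G) * g
  have hwq : Commute (c.vec w : G) q := by
    have := hact 0 w
    rw [hfix, ← vec_eq] at this
    exact (show Commute q (c.vec w : G) from mul_inv_eq_iff_eq_mul.1 this.symm).symm
  have hey : Commute e (c.y : G) :=
    (hgy.inv_left.mul_left (c.y_mem_cent (c.vec w).2)).mul_left hgy
  have hea : Commute e (c.pt k i : G) := by
    have := hwq.map (MulAut.conj g⁻¹).toMonoidHom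
    simpa [e, q, mul_assoc] using this
  have heN := c.cent_pt hi k hey hea
  have heJ : e ∈ s.J := by
    rcases c.fix_act hi hgood heN hey (c.commute_vec hey hea) with h | h
    · exact h
    · refine c.mem_J_of_trivial fun k j => ?_
      have he3 : e ^ 3 = 1 := by
        rw [show e = g⁻¹ * (c.vec w : G) * g⁻¹⁻¹ by rw [inv_inv], conj_pow, s.hJexp _ (c.vec w).2,
          mul_one, mul_inv_cancel]
      have h3 : e ^ 3 * (c.pt k j : G) * (e ^ 3)⁻¹ = (c.pt k (refl i j) : G) := by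
        rw [show e ^ 3 * (c.pt k j : G) * (e ^ 3)⁻¹ = e * (e * (e * (c.pt k j : G) * e⁻¹) * e⁻¹) * e⁻¹ by
          rw [pow_succ, sq]; group, ← h, ← h, refl_refl i hi hgood, ← h]
      rw [← h, ← h3, he3]
      simp
  have hgN : g ∈ normalizer (s.J : Set G) := normJ_of_conj C fun j hj => by
    refine c.cent_good (Or.inr hw) ((hgy.mul_left (c.y_mem_cent hj)).mul_left hgy.inv_left) ?_
    have := (s.commute_J hj heJ).map (MulAut.conj g).toMonoidHom
    simpa [e, mul_assoc] using this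
  exact hqJ ((mem_normalizer_iff.1 hgN _).1 (c.pt k i).2)

end Coord

end Cfsg.Agent.McLThree.Strong
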