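import Cfsg.Agent.McLThree.StrongSing

/-!
# The conjugates of `Q ⊓ J` under `L`

An involution of `L` inverts `Q` modulo `Z`.  Hence the conjugates of `Q ⊓ J` partition `Q` modulo
`Z`, the only conjugates of points of `Z` in `Q` lie in `Z`, and the centraliser in `C(Z)` of a point
of `J` outside `Z` normalises `J`.
-/

set_option autoImplicit false

namespace Cfsg.Agent.McLThree.Strong

open Subgroup
open scoped Pointwise commutatorElement
open Cfsg.Agent.McLLoc

theorem sl_five : ∃ g : Six.SL25, g ^ 5 = 1 ∧ g ≠ 1 := by decide +kernel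

theorem sl_neg : ((-1 : Six.SL25) * -1 = 1 ∧ (-1 : Six.SL25) ≠ 1) ∧ ∀ g : Six.SL25, -1 * g = g * -1 :=
  ⟨by decide +kernel, fun g => by simp⟩

theorem sl_neg5 : (-1 : Six.SL25) ^ 5 = -1 := by decide +kernel

theorem sl_pair : ∀ a : Six.SL25, a * a * a = 1 → ∀ b : Six.SL25, b * b * b = 1 → a * b ≠ b * a →
    ∃ e : Fin 2, ∃ k : Fin 3, (a * ![b, b * b] e) ^ ![2, 3, 5] k = -1 := by decide +kernel

theorem sl_three_comm : ∀ a : Six.SL25, a * a * a = 1 → a ≠ 1 → ∀ b : Six.SL25, b * b * b = 1 →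
    a * b = b * a → b = 1 ∨ b = a ∨ b = a * a := by decide +kernel

theorem sl_norm : ∀ a : Six.SL25, a * a * a = 1 → a ≠ 1 →
    (Finset.univ.filter fun g => g * a * g⁻¹ = a ∨ g * a * g⁻¹ = a * a).card = 12 := by
  decide +kernel

variable {G : Type*} [Group G] [Finite G] (s : Setting G)

/-- A map of `L` onto `SL(2,5)` with kernel `Q`. -/
theorem exists_proj : ∃ π : s.L →* Six.SL25, Function.Surjective π ∧ ∀ x, π x = 1 ↔ (x : G) ∈ s.Q := by
  have := s.hQn
  obtain ⟨e⟩ := s.hLq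
  refine ⟨e.toMonoidHom.comp (QuotientGroup.mk' (s.Q.subgroupOf s.L)),
    e.surjective.comp (QuotientGroup.mk'_surjective _), fun x => ?_⟩
  simp [MulEquiv.map_eq_one_iff, mem_subgroupOf]

theorem L_le_normQ : s.L ≤ normalizer (s.Q : Set G) :=
  (s.L_le_centZ.trans s.cent_le_normZ).trans s.normZ_le_normQ

theorem pow_243 {x : G} (hx : x ∈ s.Q) : x ^ 243 = 1 := by
  rw [show (243 : ℕ) = 3 * 81 from rfl, pow_mul, s.hQexp x hx, one_pow]

/-- An involution of `L` centralising only `Z` in `Q`. -/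
theorem exists_neg : ∃ π : s.L →* Six.SL25, Function.Surjective π ∧ (∀ x, π x = 1 ↔ (x : G) ∈ s.Q) ∧
    (∀ F : Subgroup G, s.Z ≤ F → F ≤ s.Q → (∀ x ∈ s.L, ∀ y ∈ F, x * y * x⁻¹ ∈ F) → F = s.Z ∨ F = s.Q) ∧
    ∃ t : s.L, t * t = 1 ∧ π t = -1 ∧ ∀ q ∈ s.Q, (t : G) * q * (t : G)⁻¹ * q ∈ s.Z := by
  classical
  obtain ⟨π, hπ, hker⟩ := exists_proj s
  obtain ⟨g, hg5, hg1⟩ := sl_five
  obtain ⟨y, hy⟩ := hπ (-1 * g)
  obtain ⟨⟨hn, -⟩, hnc⟩ := sl_neg
  have hn2 : (-1 : Six.SL25) ^ 2 = 1 := by rw [sq, hn]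
  have hng : Commute (-1 : Six.SL25) g := hnc g
  have hy10 : (y : G) ^ 10 ∈ s.Q := by
    rw [← SubgroupClass.coe_pow, ← hker, map_pow, hy, hng.mul_pow,
      show (10 : ℕ) = 2 * 5 from rfl, pow_mul, hn2, pow_mul' g, hg5]
    simp
  set u := y ^ 243 with hu
  have hu10 : u ^ 10 = 1 := Subtype.ext (by
    rw [hu, ← pow_mul, mul_comm 243 10, pow_mul, SubgroupClass.coe_pow, SubgroupClass.coe_pow,
      pow_243 s hy10]
    rfl)
  have hπu : π u = (-1) * g ^ 3 := by
    rw [hu, map_pow, hy, hng.mul_pow, show (243 : ℕ) = 2 * 121 + 1 from rfl, pow_succ, pow_mul, hn2,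
      one_pow, one_mul, show 2 * 121 + 1 = 5 * 48 + 3 from rfl, pow_add g, pow_mul, hg5, one_pow, one_mul]
  suffices H : (∀ F : Subgroup G, s.Z ≤ F → F ≤ s.Q →
      (∀ x ∈ F, ((u ^ 2 : s.L) : G) * x * ((u ^ 2 : s.L) : G)⁻¹ ∈ F) → F = s.Z ∨ F = s.Q) ∧
      ∀ q ∈ s.Q, ((u ^ 5 : s.L) : G) * q * ((u ^ 5 : s.L) : G)⁻¹ * q ∈ s.Z by
    refine ⟨π, hπ, hker, fun F h1 h2 h3 => H.1 F h1 h2 (h3 _ (u ^ 2).2), u ^ 5, ?_, ?_, H.2⟩
    · rw [← pow_add]; exact hu10
    · rw [map_pow, hπu, (show Commute (-1 : Six.SL25) (g ^ 3) from hnc _).mul_pow, ← pow_mul,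
        pow_mul' g, hg5, one_pow, mul_one, sl_neg5]
  set t : G := ((u ^ 5 : s.L) : G) with ht
  set f : G := ((u ^ 2 : s.L) : G) with hf
  have htf : Commute t f := by
    rw [ht, hf, SubgroupClass.coe_pow, SubgroupClass.coe_pow]; exact Commute.pow_pow_self _ _ _
  have hf5 : f ^ 5 = 1 := by rw [hf, ← SubgroupClass.coe_pow, ← pow_mul, hu10]; rfl
  have hπf : π (u ^ 2) = g := by
    rw [map_pow, hπu, (show Commute (-1 : Six.SL25) (g ^ 3) from hnc _).mul_pow, hn2, one_mul, ← pow_mul,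
      show 3 * 2 = 5 + 1 from rfl, pow_succ, hg5, one_mul]
  have hf1 : f ∉ s.Q := fun e => hg1 (by rw [← hπf]; exact (hker _).2 e)
  haveI : Fact (Nat.Prime 5) := ⟨Nat.prime_five⟩
  -- the automorphism of order five has only `Z` as fixed points
  have hfQ : f ∈ normalizer (s.Q : Set G) := L_le_normQ s (u ^ 2).2
  have htQ : t ∈ normalizer (s.Q : Set G) := L_le_normQ s (u ^ 5).2
  have hzf : ∀ z ∈ s.Z, ∀ x : s.L, (x : G) * z * (x : G)⁻¹ = z := fun z hz x =>
    mul_inv_eq_iff_eq_mul.2 (mem_centralizer_iff.1 (s.L_le_centZ x.2) z hz).symm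
  let conjQ : zpowers f → s.Q → s.Q := fun k q =>
    ⟨k.1 * q * k.1⁻¹, (mem_normalizer_iff.1 ((zpowers_le.2 hfQ) k.2) _).1 q.2⟩
  have key : ∀ F : Subgroup G, s.Z ≤ F → F ≤ s.Q → (∀ x ∈ F, f * x * f⁻¹ ∈ F) →
      F = s.Z ∨ F = s.Q := by
    intro F hZF hFQ hF
    have hFn : ∀ k ∈ zpowers f, ∀ x ∈ F, k * x * k⁻¹ ∈ F := by
      intro k hk x hx
      have hle : zpowers f ≤ normalizer (F : Set G) := by
        rw [zpowers_le]
        have hmap : F.map (MulAut.conj f).toMonoidHom = F := by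
          refine eq_of_le_of_card_ge ?_ (card_map_of_injective (MulAut.conj f).injective).ge
          rintro _ ⟨a, ha, rfl⟩
          exact hF a ha
        rw [mem_normalizer_iff]
        intro a
        conv_rhs => rw [← hmap]
        exact ⟨fun ha => ⟨a, ha, rfl⟩, fun ⟨b, hb, e⟩ => (MulAut.conj f).injective e ▸ hb⟩
      exact (mem_normalizer_iff.1 (hle hk) x).1 hx
    letI : SMul (zpowers f) F := ⟨fun k x => ⟨k.1 * x.1 * k.1⁻¹, hFn _ k.2 _ x.2⟩⟩
    letI : MulAction (zpowers f) F :=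
      { one_smul := fun x => Subtype.ext (by show 1 * x.1 * 1⁻¹ = x.1; simp)
        mul_smul := fun a b x => Subtype.ext (by
          show (a.1 * b.1) * x.1 * (a.1 * b.1)⁻¹ = a.1 * (b.1 * x.1 * b.1⁻¹) * a.1⁻¹
          group) }
    have hp : IsPGroup 5 (zpowers f) := IsPGroup.of_card (n := 1)
      (by rw [Nat.card_zpowers, orderOf_eq_prime hf5 (fun e => hf1 (e ▸ one_mem _)), pow_one])
    have hmod := hp.card_modEq_card_fixedPoints F
    set Fx : Subgroup G := F ⊓ centralizer ({f} : Set G) with hFx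
    have hcard : Nat.card (MulAction.fixedPoints (zpowers f) F) = Nat.card Fx := by
      refine Nat.card_congr
        { toFun := fun x => ⟨x.1.1, x.1.2, mem_centralizer_singleton_iff.2 (by
            have := congrArg Subtype.val (x.2 ⟨f, mem_zpowers f⟩)
            change f * x.1.1 * f⁻¹ = x.1.1 at this
            exact (mul_inv_eq_iff_eq_mul.1 this).symm)⟩
          invFun := fun x => ⟨⟨x.1, x.2.1⟩, fun k => Subtype.ext (by
            show k.1 * x.1 * k.1⁻¹ = x.1
            obtain ⟨i, hi⟩ := mem_zpowers_iff.1 k.2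
            have hcf : Commute f x.1 := (mem_centralizer_singleton_iff.1 x.2.2).symm
            rw [← hi, (hcf.zpow_left i).eq,
              mul_inv_cancel_right])⟩
          left_inv := fun _ => rfl
          right_inv := fun _ => rfl }
    rw [hcard] at hmod
    obtain ⟨j, hj5, hj⟩ := (Nat.dvd_prime_pow Nat.prime_three).1
      (s.hQcard ▸ card_dvd_of_le hFQ : Nat.card F ∣ 3 ^ 5)
    obtain ⟨i, hi5, hi⟩ := (Nat.dvd_prime_pow Nat.prime_three).1
      (s.hQcard ▸ card_dvd_of_le ((inf_le_left : Fx ≤ F).trans hFQ) : Nat.card Fx ∣ 3 ^ 5)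
    rw [hj, hi] at hmod
    have hZFx : s.Z ≤ Fx := le_inf hZF fun z hz => mem_centralizer_singleton_iff.2
      (mul_inv_eq_iff_eq_mul.1 (hzf z hz (u ^ 2))).symm
    have h3i : 3 ∣ Nat.card Fx := s.card_Z ▸ card_dvd_of_le hZFx
    have hij : i ≤ j := by
      have := card_le_of_le (inf_le_left : Fx ≤ F)
      rwa [hj, hi, Nat.pow_le_pow_iff_right (by norm_num)] at this
    have hi1 : i = 1 := by
      by_contra hne
      have hi0 : i ≠ 0 := fun e => by rw [hi, e] at h3i; norm_num at h3i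
      have : i = j := by interval_cases i <;> interval_cases j <;> first | rfl | omega | exact absurd hmod (by decide)
      have hFF : Fx = F := eq_of_le_of_card_ge inf_le_left (by rw [hj, hi, this])
      by_cases h5 : j = 5
      · have hFQ' : F = s.Q := eq_of_le_of_card_ge hFQ (by rw [hj, h5, s.hQcard])
        refine hf1 (s.Z_le_Q ?_)
        rw [← s.centQ]
        refine mem_centralizer_iff.2 fun q hq => ?_
        exact (mem_centralizer_singleton_iff.1 ((hFF.trans hFQ').symm ▸ hq : q ∈ Fx).2)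
      · -- then the whole of `Q` has a fixed subgroup of the wrong order
        letI : SMul (zpowers f) s.Q := ⟨conjQ⟩
        letI : MulAction (zpowers f) s.Q :=
          { one_smul := fun x => Subtype.ext (by show 1 * x.1 * 1⁻¹ = x.1; simp)
            mul_smul := fun a b x => Subtype.ext (by
              show (a.1 * b.1) * x.1 * (a.1 * b.1)⁻¹ = a.1 * (b.1 * x.1 * b.1⁻¹) * a.1⁻¹
              group) }
        have hQmod := hp.card_modEq_card_fixedPoints s.Q
        set Qx : Subgroup G := s.Q ⊓ centralizer ({f} : Set G)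
        have hQcard' : Nat.card (MulAction.fixedPoints (zpowers f) s.Q) = Nat.card Qx := by
          refine Nat.card_congr
            { toFun := fun x => ⟨x.1.1, x.1.2, mem_centralizer_singleton_iff.2 (by
                have := congrArg Subtype.val (x.2 ⟨f, mem_zpowers f⟩)
                change f * x.1.1 * f⁻¹ = x.1.1 at this
                exact (mul_inv_eq_iff_eq_mul.1 this).symm)⟩
              invFun := fun x => ⟨⟨x.1, x.2.1⟩, fun k => Subtype.ext (by
                show k.1 * x.1 * k.1⁻¹ = x.1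
                obtain ⟨i, hi⟩ := mem_zpowers_iff.1 k.2
                have hcf : Commute f x.1 := (mem_centralizer_singleton_iff.1 x.2.2).symm
                rw [← hi, (hcf.zpow_left i).eq,
                  mul_inv_cancel_right])⟩
              left_inv := fun _ => rfl
              right_inv := fun _ => rfl }
        rw [hQcard'] at hQmod
        obtain ⟨k, hk5, hk⟩ := (Nat.dvd_prime_pow Nat.prime_three).1
          (s.hQcard ▸ card_dvd_of_le (inf_le_left : Qx ≤ s.Q) : Nat.card Qx ∣ 3 ^ 5)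
        have hle := card_le_of_le (show Fx ≤ Qx from le_inf ((inf_le_left : Fx ≤ F).trans hFQ) inf_le_right)
        rw [hi, hk, Nat.pow_le_pow_iff_right (by norm_num)] at hle
        rw [hk, s.hQcard] at hQmod
        have hk' : k = 5 := by interval_cases k <;> first | omega | exact absurd hQmod (by decide)
        have hQQ : Qx = s.Q := eq_of_le_of_card_ge inf_le_left (by rw [hk, hk', s.hQcard])
        refine hf1 (s.Z_le_Q ?_)
        rw [← s.centQ]
        exact mem_centralizer_iff.2 fun q hq =>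
          mem_centralizer_singleton_iff.1 (hQQ.symm ▸ hq : q ∈ Qx).2
    rw [hi1] at hmod hij
    rcases (show j = 1 ∨ j = 2 ∨ j = 3 ∨ j = 4 ∨ j = 5 by omega) with rfl | rfl | rfl | rfl | rfl
    · exact Or.inl (eq_of_le_of_card_ge hZF (by rw [hj, s.card_Z]; norm_num)).symm
    · exact absurd hmod (by decide)
    · exact absurd hmod (by decide)
    · exact absurd hmod (by decide)
    · exact Or.inr (eq_of_le_of_card_ge hFQ (by rw [hj, s.hQcard]))
  have hCt : s.Q ⊓ centralizer ({t} : Set G) = s.Z := by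
    refine (key _ (le_inf s.Z_le_Q fun z hz => mem_centralizer_singleton_iff.2
      (mul_inv_eq_iff_eq_mul.1 (hzf z hz (u ^ 5))).symm) inf_le_left ?_).resolve_right fun e => ?_
    · rintro x ⟨hx, hxt⟩
      refine ⟨(mem_normalizer_iff.1 hfQ x).1 hx, mem_centralizer_singleton_iff.2 ?_⟩
      have h1 : Commute x t := mem_centralizer_singleton_iff.1 hxt
      exact ((htf.symm.mul_left h1).mul_left htf.symm.inv_left).eq
    · have htZ : t ∈ s.Z := by
        rw [← s.centQ]
        exact mem_centralizer_iff.2 fun q hq => mem_centralizer_singleton_iff.1 (e.symm ▸ hq : q ∈ s.Q ⊓ centralizer ({t} : Set G)).2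
      have h1 : π (u ^ 5) = 1 := (hker _).2 (s.Z_le_Q htZ)
      rw [map_pow, hπu, (show Commute (-1 : Six.SL25) (g ^ 3) from hnc _).mul_pow, ← pow_mul,
        pow_mul' g, hg5, one_pow, mul_one, sl_neg5] at h1
      exact sl_neg.1.2 h1
  refine ⟨key, fun q hq => ?_⟩
  set c := t * q * t⁻¹ * q with hc
  have hq' : t * q * t⁻¹ ∈ s.Q := (mem_normalizer_iff.1 htQ q).1 hq
  have hcQ : c ∈ s.Q := mul_mem hq' hq
  have ht2 : t * t = 1 := by rw [ht, ← Subgroup.coe_mul, ← pow_add, hu10]; rfl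
  have hct : t * c * t⁻¹ = q * (t * q * t⁻¹) := by
    rw [hc, show t * (t * q * t⁻¹ * q) * t⁻¹ = (t * t) * q * (t * t)⁻¹ * (t * q * t⁻¹) by group, ht2]
    group
  have hz := s.comm_mem_Z hq hq'
  have h2 : t * c * t⁻¹ = ⁅q, t * q * t⁻¹⁆ * c := by
    rw [hct, hc, commutatorElement_def]; group
  set z := ⁅q, t * q * t⁻¹⁆
  have hz2 : z * z = 1 := by
    have h3 : t * (t * c * t⁻¹) * t⁻¹ = c := by
      rw [show t * (t * c * t⁻¹) * t⁻¹ = (t * t) * c * (t * t)⁻¹ by group, ht2]; group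
    rw [h2, show t * (z * c) * t⁻¹ = (t * z * t⁻¹) * (t * c * t⁻¹) by group, hzf z hz (u ^ 5), h2,
      ← mul_assoc] at h3
    exact mul_eq_right.1 h3
  have hz1 : z = 1 := by
    have := s.hJexp z (s.Z_le_J hz)
    rwa [pow_succ, sq, hz2, one_mul] at this
  rw [hz1, one_mul] at h2
  exact hCt.le ⟨hcQ, mem_centralizer_singleton_iff.2 (mul_inv_eq_iff_eq_mul.1 h2).symm⟩

variable {s} (C : Chart s)
include C

omit [Finite G] C in
theorem Q_le_L : s.Q ≤ s.L := s.hQL

theorem commute_mod {q : G} (hq : q ∈ s.Q) :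
    ∀ x y : G, x ∈ s.L → y ∈ s.L → x * q * x⁻¹ * q⁻¹ ∈ s.Z → y * q * y⁻¹ * q⁻¹ ∈ s.Z →
      (x * y) * q * (x * y)⁻¹ * q⁻¹ ∈ s.Z := by
  intro x y hx _ hxq hyq
  have hfix : x * (y * q * y⁻¹ * q⁻¹) * x⁻¹ = y * q * y⁻¹ * q⁻¹ :=
    mul_inv_eq_iff_eq_mul.2 (mem_centralizer_iff.1 (s.L_le_centZ hx) _ hyq).symm
  have : (x * y) * q * (x * y)⁻¹ * q⁻¹ =
      (x * (y * q * y⁻¹ * q⁻¹) * x⁻¹) * (x * q * x⁻¹ * q⁻¹) := by group
  rw [this, hfix]
  exact mul_mem hyq hxq

/-- Two conjugates of `Q ⊓ J` meet in `Z`. -/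
theorem conj_disjoint {l : G} (hl : l ∈ s.L) {q : G} (hq : q ∈ s.Q ⊓ s.J) (hqZ : q ∉ s.Z)
    (hql : l⁻¹ * q * l ∈ s.Q ⊓ s.J) : l ∈ normalizer (s.J : Set G) := by
  classical
  obtain ⟨π, hπ, hker, -, t, ht, hπt, htQ⟩ := exists_neg s
  -- elements commuting with `q` modulo `Z`
  let U : Subgroup s.L :=
    { carrier := {x | (x : G) * q * (x : G)⁻¹ * q⁻¹ ∈ s.Z}
      one_mem' := by simp
      mul_mem' := fun {x y} hx hy => commute_mod C hq.1 x y x.2 y.2 hx hy
      inv_mem' := fun {x} hx => by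
        show (x : G)⁻¹ * q * (x : G)⁻¹⁻¹ * q⁻¹ ∈ s.Z
        have hfix : (x : G)⁻¹ * ((x : G) * q * (x : G)⁻¹ * q⁻¹)⁻¹ * (x : G)⁻¹⁻¹ =
            ((x : G) * q * (x : G)⁻¹ * q⁻¹)⁻¹ :=
          mul_inv_eq_iff_eq_mul.2 (mem_centralizer_iff.1 (s.L_le_centZ (inv_mem x.2)) _ (inv_mem hx)).symm
        have : (x : G)⁻¹ * q * (x : G)⁻¹⁻¹ * q⁻¹ = (x : G)⁻¹ * ((x : G) * q * (x : G)⁻¹ * q⁻¹)⁻¹ * (x : G)⁻¹⁻¹ := by
          group
        rw [this, hfix]
        exact inv_mem hx }
  have hcomm : ∀ x : s.L, Commute (x : G) q → x ∈ U := fun x hx => by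
    show (x : G) * q * (x : G)⁻¹ * q⁻¹ ∈ s.Z
    rw [hx.eq]; simp
  obtain ⟨j, hj, hjQ⟩ : ∃ j ∈ s.J, j ∉ s.Q := by
    by_contra h
    push Not at h
    have := card_le_of_le (show s.J ≤ s.Q ⊓ s.J from fun j hj => ⟨h j hj, hj⟩)
    rw [s.hJcard, s.card_QJ] at this
    norm_num at this
  have hjL : j ∈ s.L := s.S_le_L (s.hJS hj)
  set a : s.L := ⟨j, hjL⟩
  set b : s.L := ⟨l, hl⟩ * a * ⟨l, hl⟩⁻¹
  have ha : a ∈ U := hcomm a (s.commute_J hj hq.2)
  have hb : b ∈ U := hcomm b (by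
    have hc := s.commute_J hj hql.2
    show l * j * l⁻¹ * q = q * (l * j * l⁻¹)
    calc l * j * l⁻¹ * q = l * (j * (l⁻¹ * q * l)) * l⁻¹ := by group
      _ = l * (l⁻¹ * q * l * j) * l⁻¹ := by rw [hc.eq]
      _ = _ := by group)
  have ha3 : a * a * a = 1 := Subtype.ext (by
    show j * j * j = 1
    simpa [pow_succ] using s.hJexp j hj)
  have hpa : π a ≠ 1 := fun e => hjQ ((hker a).1 e)
  have hpa3 : π a * π a * π a = 1 := by rw [← map_mul, ← map_mul, ha3, map_one]
  have hpb3 : π b * π b * π b = 1 := by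
    rw [← map_mul, ← map_mul, show b * b * b = ⟨l, hl⟩ * (a * a * a) * ⟨l, hl⟩⁻¹ by
      simp only [b]; group, ha3]
    simp
  by_cases hab : π a * π b = π b * π a
  · -- the two conjugates of `S` coincide
    have hpb : π b = π a ∨ π b = π a * π a := by
      refine (sl_three_comm _ hpa3 hpa _ hpb3 hab).resolve_left fun e => hpa ?_
      rw [map_mul, map_mul, map_inv, conj_eq_one_iff] at e
      exact e
    have hS : ∀ x : s.L, (x : G) ∈ (s.S : Subgroup G) ↔ π x ∈ zpowers (π a) := by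
      intro x
      constructor
      · intro hx
        obtain ⟨q', hq', j', hj', e⟩ := s.mem_S_iff hx
        have hx' : x = ⟨q', s.hQL hq'⟩ * ⟨j', s.S_le_L (s.hJS hj')⟩ := Subtype.ext e.symm
        rw [hx', map_mul, (hker ⟨q', s.hQL hq'⟩).2 hq', one_mul]
        set c : s.L := ⟨j', s.S_le_L (s.hJS hj')⟩
        have hc3 : π c * π c * π c = 1 := by
          rw [← map_mul, ← map_mul, show c * c * c = 1 from Subtype.ext (by
            show j' * j' * j' = 1; simpa [pow_succ] using s.hJexp j' hj'), map_one]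
        have hac : π a * π c = π c * π a := by
          rw [← map_mul, ← map_mul, show a * c = c * a from Subtype.ext (s.commute_J hj hj').eq]
        rcases sl_three_comm _ hpa3 hpa _ hc3 hac with e | e | e <;> rw [e]
        · exact one_mem _
        · exact mem_zpowers _
        · exact mul_mem (mem_zpowers _) (mem_zpowers _)
      · intro hx
        obtain ⟨i, hi⟩ := mem_zpowers_iff.1 hx
        have : (((a ^ i)⁻¹ * x : s.L) : G) ∈ s.Q := (hker _).1 (by
          rw [map_mul, map_inv, map_zpow, hi, inv_mul_cancel])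
        have h2 := mul_mem (zpow_mem (s.hJS hj) i) (s.Q_le_S this)
        rw [Subgroup.coe_mul, Subgroup.coe_inv, Subgroup.coe_zpow, mul_inv_cancel_left] at h2
        exact h2
    have hmap : (s.S : Subgroup G).map (MulAut.conj l).toMonoidHom = s.S := by
      refine eq_of_le_of_card_ge ?_ (card_map_of_injective (MulAut.conj l).injective).ge
      rintro _ ⟨x, hx, rfl⟩
      have hxL := s.S_le_L hx
      have key := (hS (⟨l, hl⟩ * ⟨x, hxL⟩ * ⟨l, hl⟩⁻¹)).2 (by
        obtain ⟨i, hi⟩ := mem_zpowers_iff.1 ((hS ⟨x, hxL⟩).1 hx)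
        rw [map_mul, map_mul, map_inv, ← hi, ← conj_zpow, ← map_inv, ← map_mul, ← map_mul]
        refine zpow_mem ?_ i
        rcases hpb with e | e <;> simp only [b] at e <;> rw [e]
        · exact mem_zpowers _
        · exact mul_mem (mem_zpowers _) (mem_zpowers _))
      exact key
    have hJ' : s.J.map (MulAut.conj l).toMonoidHom = s.J := by
      have := s.hJcomm
      refine C.J_unique ?_ inferInstance (by rw [card_map_of_injective (MulAut.conj l).injective, s.hJcard])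
      rw [← hmap]
      exact Subgroup.map_mono s.hJS
    rw [mem_normalizer_iff]
    intro x
    conv_rhs => rw [← hJ']
    exact ⟨fun hx => ⟨x, hx, rfl⟩, fun ⟨i, hi, e⟩ => (MulAut.conj l).injective e ▸ hi⟩
  · exfalso
    obtain ⟨e, k, hk⟩ := sl_pair _ hpa3 _ hpb3 hab
    obtain ⟨w, hwU, hw⟩ : ∃ w ∈ U, π w = -1 := by
      refine ⟨(a * ![b, b * b] e) ^ ![2, 3, 5] k, pow_mem (mul_mem ha ?_) _, ?_⟩
      · fin_cases e
        · exact hb
        · exact mul_mem hb hb
      · rw [map_pow, map_mul, ← hk]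
        fin_cases e <;> simp
    have htU : t ∈ U := by
      have : ((w⁻¹ * t : s.L) : G) ∈ s.Q := (hker _).1 (by rw [map_mul, map_inv, hw, hπt, inv_mul_cancel])
      have hmem : w⁻¹ * t ∈ U := by
        show ((w⁻¹ * t : s.L) : G) * q * ((w⁻¹ * t : s.L) : G)⁻¹ * q⁻¹ ∈ s.Z
        rw [← commutatorElement_def]
        exact s.comm_mem_Z this hq.1
      simpa using mul_mem hwU hmem
    have h1 : (t : G) * q * (t : G)⁻¹ * q⁻¹ ∈ s.Z := htU
    have h2 := htQ q hq.1
    have h3 : q * q ∈ s.Z := by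
      have h := mul_mem (inv_mem h1) h2
      rwa [show ((t : G) * q * (t : G)⁻¹ * q⁻¹)⁻¹ * ((t : G) * q * (t : G)⁻¹ * q) = q * q by simp [mul_assoc]] at h
    have h4 := mul_mem h3 h3
    rw [show q * q * (q * q) = q ^ 3 * q by simp [pow_succ, mul_assoc], s.hJexp q hq.2, one_mul] at h4
    exact hqZ h4

/-- Every element of `Q` is conjugate under `L` into `Q ⊓ J`. -/
theorem exists_conj_QJ {q : G} (hq : q ∈ s.Q) : ∃ l ∈ s.L, l⁻¹ * q * l ∈ s.Q ⊓ s.J := by
  classical
  by_cases hqZ : q ∈ s.Z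
  · exact ⟨1, one_mem _, by simpa using (⟨s.Z_le_Q hqZ, s.Z_le_J hqZ⟩ : q ∈ s.Q ⊓ s.J)⟩
  obtain ⟨π, hπ, hker⟩ := exists_proj s
  set K : Subgroup s.L := (normalizer (s.J : Set G)).subgroupOf s.L with hK
  obtain ⟨j, hj, hjQ⟩ : ∃ j ∈ s.J, j ∉ s.Q := by
    by_contra h
    push Not at h
    have := card_le_of_le (show s.J ≤ s.Q ⊓ s.J from fun j hj => ⟨h j hj, hj⟩)
    rw [s.hJcard, s.card_QJ] at this
    norm_num at this
  set a : s.L := ⟨j, s.S_le_L (s.hJS hj)⟩
  have hpa : π a ≠ 1 := fun e => hjQ ((hker a).1 e)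
  have hpa3 : π a * π a * π a = 1 := by
    rw [← map_mul, ← map_mul, show a * a * a = 1 from Subtype.ext (by
      show j * j * j = 1; simpa [pow_succ] using s.hJexp j hj), map_one]
  have hKcard : Nat.card K ≤ 243 * 12 := by
    let f : K →* Six.SL25 := π.comp K.subtype
    have hmul := card_eq_card_quotient_mul_card_subgroup f.ker
    rw [Nat.card_congr (QuotientGroup.quotientKerEquivRange f).toEquiv] at hmul
    have hkc : Nat.card f.ker ≤ 243 := by
      rw [show (243 : ℕ) = Nat.card s.Q by rw [s.hQcard]; norm_num]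
      exact Nat.card_le_card_of_injective (fun x => (⟨x.1.1.1, (hker _).1 x.2⟩ : s.Q)) fun x y e =>
        Subtype.ext (Subtype.ext (Subtype.ext (congrArg (fun z : s.Q => (z : G)) e)))
    have hrc : Nat.card f.range ≤ 12 := by
      rw [← sl_norm _ hpa3 hpa, ← Fintype.card_subtype, ← Nat.card_eq_fintype_card]
      refine Nat.card_le_card_of_injective (fun x => ⟨x.1, ?_⟩) fun x y e => Subtype.ext (congrArg (·.1) e)
      obtain ⟨k, hk⟩ := x.2
      rw [← hk]
      show π k * π a * (π k)⁻¹ = π a ∨ π k * π a * (π k)⁻¹ = π a * π a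
      have hkN : ((k : s.L) : G) ∈ normalizer (s.J : Set G) := k.2
      have hj' : ((k : s.L) : G) * j * ((k : s.L) : G)⁻¹ ∈ s.J := (mem_normalizer_iff.1 hkN j).1 hj
      set c : s.L := (k : s.L) * a * (k : s.L)⁻¹
      have hc : π a * π c = π c * π a := by
        rw [← map_mul, ← map_mul, show a * c = c * a from Subtype.ext (s.commute_J hj hj').eq]
      have hc3 : π c * π c * π c = 1 := by
        rw [← map_mul, ← map_mul, show c * c * c = (k : s.L) * (a * a * a) * (k : s.L)⁻¹ by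
          simp only [c]; group, map_mul, map_mul π _ (a * a * a), map_mul π (a * a), map_mul π a, hpa3]
        simp
      have hc1 : π c ≠ 1 := fun e => hpa (by
        simp only [c, map_mul, map_inv, conj_eq_one_iff] at e
        exact e)
      have := (sl_three_comm _ hpa3 hpa _ hc3 hc).resolve_left hc1
      simpa [c] using this
    nlinarith
  have hidx : 10 ≤ Nat.card (s.L ⧸ K) := by
    have h := card_eq_card_quotient_mul_card_subgroup K
    rw [s.card_L] at h
    nlinarith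
  let E := {e : G // e ∈ s.Q ⊓ s.J ∧ e ∉ s.Z}
  let T := {e : G // e ∈ s.Q ∧ e ∉ s.Z}
  let f : (s.L ⧸ K) × E → T := fun p => ⟨(p.1.out : G) * p.2.1 * (p.1.out : G)⁻¹,
    (mem_normalizer_iff.1 (L_le_normQ s p.1.out.2) _).1 p.2.2.1.1, fun hz => p.2.2.2 (by
      have := mem_centralizer_iff.1 (s.L_le_centZ p.1.out.2) _ hz
      have e : p.2.1 = (p.1.out : G) * p.2.1 * (p.1.out : G)⁻¹ := by
        calc p.2.1 = (p.1.out : G)⁻¹ * ((p.1.out : G) * p.2.1 * (p.1.out : G)⁻¹ * (p.1.out : G)) := by group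
          _ = _ := by rw [this]; group
      rwa [e])⟩
  have hf : Function.Injective f := by
    rintro ⟨x, e⟩ ⟨x', e'⟩ h
    have h' : (x.out : G) * e.1 * (x.out : G)⁻¹ = (x'.out : G) * e'.1 * (x'.out : G)⁻¹ :=
      congrArg Subtype.val h
    have hxx : x = x' := by
      rw [← x.out_eq', ← x'.out_eq', QuotientGroup.eq]
      refine mem_subgroupOf.2 (conj_disjoint C ((x.out)⁻¹ * x'.out).2 e.2.1 e.2.2 ?_)
      have h2 : (((x.out)⁻¹ * x'.out : s.L) : G)⁻¹ * e.1 * (((x.out)⁻¹ * x'.out : s.L) : G) = e'.1 := by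
        rw [Subgroup.coe_mul, Subgroup.coe_inv]
        calc ((x.out : G)⁻¹ * x'.out)⁻¹ * e.1 * ((x.out : G)⁻¹ * x'.out)
            = (x'.out : G)⁻¹ * ((x.out : G) * e.1 * (x.out : G)⁻¹) * x'.out := by group
          _ = e'.1 := by rw [h']; group
      rw [h2]
      exact e'.2.1
    subst hxx
    exact Prod.ext rfl (Subtype.ext (mul_left_cancel (mul_right_cancel h')))
  have cardSub : ∀ H : Subgroup G, s.Z ≤ H → Nat.card {e : G // e ∈ H ∧ e ∉ s.Z} + 3 = Nat.card H := by
    intro H hH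
    rw [← s.card_Z, ← Nat.card_sum]
    exact Nat.card_congr
      { toFun := Sum.elim (fun e => ⟨e.1, e.2.1⟩) (fun e => ⟨e.1, hH e.2⟩)
        invFun := fun e => if he : (e : G) ∈ s.Z then Sum.inr ⟨e, he⟩ else Sum.inl ⟨e, e.2, he⟩
        left_inv := by rintro (⟨e, h1, h2⟩ | ⟨e, h1⟩) <;> simp_all
        right_inv := fun e => by by_cases he : (e : G) ∈ s.Z <;> simp [he] }
  have hE : Nat.card E = 24 := by
    have := cardSub (s.Q ⊓ s.J) (le_inf s.Z_le_Q s.Z_le_J)
    rw [s.card_QJ] at this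
    simp only [E]
    omega
  have hT : Nat.card T = 240 := by
    have := cardSub s.Q s.Z_le_Q
    rw [s.hQcard] at this
    simp only [T]
    omega
  have hle := Nat.card_le_card_of_injective f hf
  rw [Nat.card_prod, hE, hT] at hle
  have hbij : Function.Bijective f := by
    rw [Nat.bijective_iff_injective_and_card]
    exact ⟨hf, by rw [Nat.card_prod, hE, hT]; omega⟩
  obtain ⟨⟨x, e⟩, hxe⟩ := hbij.2 ⟨q, hq, hqZ⟩
  refine ⟨x.out, x.out.2, ?_⟩
  have : (x.out : G) * e.1 * (x.out : G)⁻¹ = q := congrArg Subtype.val hxe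
  rw [← this, show (x.out : G)⁻¹ * ((x.out : G) * e.1 * (x.out : G)⁻¹) * x.out = e.1 by group]
  exact e.2.1

/-- The only conjugates of points of `Z` in `Q` lie in `Z`. -/
theorem sing_Q {a : G} (h : Sing s a) (hQ : a ∈ s.Q) : a ∈ s.Z := by
  obtain ⟨l, hl, hla⟩ := exists_conj_QJ C hQ
  have hz : l⁻¹ * a * l ∈ s.Z := sing_QJ C (a := ⟨l⁻¹ * a * l, hla.2⟩) (by
    have := h.conj l⁻¹
    rwa [inv_inv] at this) hla.1
  have hc := mem_centralizer_iff.1 (s.L_le_centZ hl) _ hz
  have : a = l⁻¹ * a * l := by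
    calc a = l * (l⁻¹ * a * l) * l⁻¹ := by group
      _ = _ := by rw [← hc]; group
  rwa [this]

/-- The centraliser in `C(Z)` of a point of `J` outside `Z` normalises `J`. -/
theorem cent_Z_point {y : G} (hy : y ∈ s.J) (hyZ : y ∉ s.Z) {g : G}
    (hgZ : g ∈ centralizer (s.Z : Set G)) (hgy : Commute g y) : g ∈ normalizer (s.J : Set G) := by
  classical
  haveI : Fact (Nat.Prime 3) := ⟨Nat.prime_three⟩
  have hgN := s.cent_le_normZ hgZ
  have hgQ := s.normZ_le_normQ hgN
  by_cases hyQ : y ∈ s.Q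
  · have hgL : ∀ x ∈ s.L, g * x * g⁻¹ ∈ s.L := by
      intro x hx
      have : s.L.map (MulAut.conj g).toMonoidHom ≤ s.L := by
        conv_lhs => rw [s.hL]
        rw [MonoidHom.map_closure, closure_le]
        rintro _ ⟨z, ⟨hz, k, hk⟩, rfl⟩
        rw [s.hL]
        refine subset_closure ⟨mul_mem (mul_mem hgN hz) (inv_mem hgN), k, ?_⟩
        rw [← hk]
        exact MulEquiv.orderOf_eq (MulAut.conj g) z
      exact this ⟨x, hx, rfl⟩
    have hm : (s.S : Subgroup G).map (MulAut.conj g).toMonoidHom ≤ s.L := by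
      rintro _ ⟨x, hx, rfl⟩
      exact hgL x (s.S_le_L hx)
    have h6 : (3 : ℕ) ^ 6 = 3 ^ (Nat.card s.L).factorization 3 := by
      rw [s.card_L, Nat.factorization_def _ Nat.prime_three]
      have : padicValNat 3 (3 ^ 5 * 120) = 6 := by
        rw [show (3 ^ 5 * 120 : ℕ) = 3 ^ 6 * 40 by norm_num, padicValNat.mul (by norm_num) (by norm_num),
          padicValNat.prime_pow, padicValNat.eq_zero_of_not_dvd (by norm_num)]
      rw [this]
    let P : Sylow 3 s.L := Sylow.ofCard ((s.S : Subgroup G).subgroupOf s.L)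
      (by rw [Nat.card_congr (subgroupOfEquivOfLe s.S_le_L).toEquiv, s.card_S, h6])
    let R : Sylow 3 s.L := Sylow.ofCard (((s.S : Subgroup G).map (MulAut.conj g).toMonoidHom).subgroupOf s.L)
      (by rw [Nat.card_congr (subgroupOfEquivOfLe hm).toEquiv,
        card_map_of_injective (MulAut.conj g).injective, s.card_S, h6])
    obtain ⟨l, hl⟩ := MulAction.exists_smul_eq s.L P R
    have e := congrArg (fun T : Sylow 3 s.L => (T : Subgroup s.L)) hl
    simp only [Sylow.coe_subgroup_smul] at e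
    have hle : ∀ x ∈ (s.S : Subgroup G), ∃ w ∈ (s.S : Subgroup G), g * x * g⁻¹ = (l : G) * w * (l : G)⁻¹ := by
      intro x hx
      have h1 : (⟨g * x * g⁻¹, hgL x (s.S_le_L hx)⟩ : s.L) ∈ ((R : Sylow 3 s.L) : Subgroup s.L) :=
        ⟨x, hx, rfl⟩
      rw [← e] at h1
      obtain ⟨w, hw, hwe⟩ := h1
      exact ⟨(w : G), hw, (congrArg Subtype.val hwe).symm⟩
    have hJl : s.J.map (MulAut.conj ((l : G)⁻¹ * g)).toMonoidHom = s.J := by
      have := s.hJcomm
      refine C.J_unique ?_ inferInstance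
        (by rw [card_map_of_injective (MulAut.conj ((l : G)⁻¹ * g)).injective, s.hJcard])
      rintro _ ⟨x, hx, rfl⟩
      obtain ⟨w, hw, hwe⟩ := hle x (s.hJS hx)
      show (l : G)⁻¹ * g * x * ((l : G)⁻¹ * g)⁻¹ ∈ (s.S : Subgroup G)
      rw [show (l : G)⁻¹ * g * x * ((l : G)⁻¹ * g)⁻¹ = (l : G)⁻¹ * (g * x * g⁻¹) * l by group, hwe,
        show (l : G)⁻¹ * ((l : G) * w * (l : G)⁻¹) * l = w by group]
      exact hw
    have hlg : (l : G)⁻¹ * g ∈ normalizer (s.J : Set G) := by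
      rw [mem_normalizer_iff]
      intro x
      conv_rhs => rw [← hJl]
      exact ⟨fun hx => ⟨x, hx, rfl⟩, fun ⟨i, hi, e⟩ =>
        (MulAut.conj ((l : G)⁻¹ * g)).injective e ▸ hi⟩
    have hly : (l : G)⁻¹ * y * l ∈ s.Q ⊓ s.J := by
      have hyc : (l : G)⁻¹ * y * l = (l : G)⁻¹ * g * y * ((l : G)⁻¹ * g)⁻¹ := by
        rw [mul_assoc ((l : G)⁻¹) g, hgy.eq]; group
      refine ⟨?_, ?_⟩
      · have := (mem_normalizer_iff.1 (L_le_normQ s (inv_mem l.2)) y).1 hyQ
        rwa [inv_inv] at this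
      · rw [hyc]; exact (mem_normalizer_iff.1 hlg y).1 hy
    simpa using mul_mem (conj_disjoint C l.2 ⟨hyQ, hy⟩ hyZ hly) hlg
  · have hconj : ∀ e ∈ s.Q ⊓ s.J, g * e * g⁻¹ ∈ s.J := by
      intro e he
      have hq : g * e * g⁻¹ ∈ s.Q := (mem_normalizer_iff.1 hgQ e).1 he.1
      have hc : Commute (g * e * g⁻¹) y := by
        have h1 := s.commute_J he.2 hy
        exact (hgy.mul_left h1).mul_left hgy.inv_left
      by_contra hne
      refine C.comm_comm_ne hq hne hy hyQ ?_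
      rw [commutatorElement_eq_one_iff_mul_comm.2 hc.symm.eq, commutatorElement_one_left]
    have hJ : s.J = (s.Q ⊓ s.J) ⊔ zpowers y := by
      refine (eq_of_le_of_card_ge (sup_le inf_le_right (zpowers_le.2 hy)) ?_).symm
      obtain ⟨k, hk4, hk⟩ := (Nat.dvd_prime_pow Nat.prime_three).1
        (s.hJcard ▸ card_dvd_of_le (sup_le inf_le_right (zpowers_le.2 hy)) :
          Nat.card ((s.Q ⊓ s.J) ⊔ zpowers y : Subgroup G) ∣ 3 ^ 4)
      have hlt : 3 ^ 3 < Nat.card ((s.Q ⊓ s.J) ⊔ zpowers y : Subgroup G) := by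
        rw [← s.card_QJ]
        rcases (card_le_of_le (le_sup_left : s.Q ⊓ s.J ≤ (s.Q ⊓ s.J) ⊔ zpowers y)).lt_or_eq with h | h
        · exact h
        · exact absurd ((eq_of_le_of_card_ge le_sup_left h.ge).symm ▸
            (le_sup_right : zpowers y ≤ (s.Q ⊓ s.J) ⊔ zpowers y) (mem_zpowers y) : y ∈ s.Q ⊓ s.J).1 hyQ
      rw [hk] at hlt ⊢
      have := (Nat.pow_lt_pow_iff_right (by norm_num : 1 < 3)).1 hlt
      rw [s.hJcard, show k = 4 by omega]
    have hmap : s.J.map (MulAut.conj g).toMonoidHom = s.J := by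
      refine eq_of_le_of_card_ge ?_ (card_map_of_injective (MulAut.conj g).injective).ge
      nth_rewrite 1 [hJ]
      rw [Subgroup.map_sup, sup_le_iff]
      refine ⟨?_, ?_⟩
      · rintro _ ⟨e, he, rfl⟩
        exact hconj e he
      · rw [MonoidHom.map_zpowers, zpowers_le]
        show g * y * g⁻¹ ∈ s.J
        rwa [hgy.eq, mul_inv_cancel_right]
    rw [mem_normalizer_iff]
    intro x
    conv_rhs => rw [← hmap]
    exact ⟨fun hx => ⟨x, hx, rfl⟩, fun ⟨i, hi, e⟩ => (MulAut.conj g).injective e ▸ hi⟩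

end Cfsg.Agent.McLThree.Strong
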