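import Cfsg.Agent.McLThree.StrongPlanes

/-!
# The centraliser of `y` modulo `⟨y⟩`

The vectors give an elementary group of order 27 whose normaliser is the image of `N(J)`, and which is
weakly closed in that image.
-/

set_option autoImplicit false
set_option linter.unusedSectionVars false

namespace Cfsg.Agent.McLThree.Strong

open Subgroup
open Cfsg.Agent.McLLoc

theorem stAct_surj : ∀ a b, ∀ i : Vec, ∃ j, stAct a b j = i := by decide +kernel

variable {G : Type*} [Group G] [Finite G] {s : Setting G} {C : Chart s}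

namespace Coord

variable (c : Coord C)

/-- An element acting by the given map of vectors. -/
def Acts (h : G) (f : Vec → Vec) : Prop :=
  ∀ k i, ((c.pt k (f i) : s.J) : G) = h * (c.pt k i : G) * h⁻¹

theorem Acts.mul {c : Coord C} {h h' : G} {f f' : Vec → Vec} (H : c.Acts h f) (H' : c.Acts h' f') :
    c.Acts (h * h') fun i => f (f' i) := fun k i => by
  rw [H, H']; group

theorem Acts.inv {c : Coord C} {h : G} {f g : Vec → Vec} (H : c.Acts h f) (hfg : ∀ i, f (g i) = i) :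
    c.Acts h⁻¹ g := fun k i => by
  conv_rhs => rw [← hfg i, H]
  group

theorem Acts.congr {c : Coord C} {h : G} {f g : Vec → Vec} (H : c.Acts h f) (e : ∀ i, f i = g i) :
    c.Acts h g := fun k i => by rw [← e]; exact H k i

theorem Acts.mem_J {c : Coord C} {h : G} {f : Vec → Vec} (H : c.Acts h f) (e : ∀ i, f i = i) :
    h ∈ s.J :=
  c.mem_J_of_trivial fun k i => by rw [← H, e]

theorem acts_J {x : G} (hx : x ∈ s.J) : c.Acts x fun i => i := fun k i => by
  rw [(s.commute_J hx (c.pt k i).2).eq, mul_inv_cancel_right]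

theorem acts_stElt (a : Fin 4) (b : Fin 3) : c.Acts (c.stElt a b : G) (stAct a b) := fun k i => by
  rw [← C.ρ_apply, c.stElt_pt]

theorem pt_zero (k : ZMod 3) : c.pt k 0 = c.y ^ k.val := by rw [pt, c.vec_zero, mul_one]

theorem exists_pow {x : G} (hx : x ∈ zpowers (c.y : G)) : ∃ k : ZMod 3, ((c.pt k 0 : s.J) : G) = x := by
  obtain ⟨n, rfl⟩ := mem_zpowers_iff.1 hx
  refine ⟨(n : ZMod 3), ?_⟩
  rw [c.pt_zero, Subgroup.coe_pow, ← zpow_natCast, ZMod.val_intCast, ← zpow_mod_orderOf (c.y : G) n,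
    Subgroup.orderOf_coe, c.orderOf_y]

theorem vec_mem_zpowers {i : Vec} (h : (c.vec i : G) ∈ zpowers (c.y : G)) : i = 0 := by
  obtain ⟨k, hk⟩ := c.exists_pow h
  rw [vec_eq] at hk
  exact (c.pt_injective (Subtype.ext hk)).2.symm

/-- The centraliser of `y`. -/
abbrev Cy : Subgroup G := centralizer ({(c.y : G)} : Set G)

theorem mem_Cy {g : G} : g ∈ c.Cy ↔ Commute g (c.y : G) := mem_centralizer_singleton_iff

/-- The subgroup of `y`. -/
def Y0 : Subgroup c.Cy := (zpowers (c.y : G)).subgroupOf c.Cy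

instance Y0_normal : c.Y0.Normal := ⟨fun x hx g => by
  have h : Commute (g : G) (x : G) := by
    obtain ⟨n, hn⟩ := mem_zpowers_iff.1 (mem_subgroupOf.1 hx)
    rw [← hn]
    exact (c.mem_Cy.1 g.2).zpow_right n
  have : g * x * g⁻¹ = x := Subtype.ext (mul_inv_eq_iff_eq_mul.2 h.eq)
  rwa [this]⟩

/-- The quotient. -/
abbrev Xy : Type _ := c.Cy ⧸ c.Y0

/-- The projection. -/
abbrev proj : c.Cy →* c.Xy := QuotientGroup.mk' c.Y0

theorem proj_eq {a b : c.Cy} : c.proj a = c.proj b ↔ (a : G)⁻¹ * b ∈ zpowers (c.y : G) := by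
  refine QuotientGroup.eq.trans ?_
  rw [Y0, mem_subgroupOf]
  simp

theorem proj_one {a : c.Cy} : c.proj a = 1 ↔ (a : G) ∈ zpowers (c.y : G) := by
  rw [QuotientGroup.mk'_apply, QuotientGroup.eq_one_iff, Y0, mem_subgroupOf]

theorem J_le_Cy : s.J ≤ c.Cy := fun _ hx => c.mem_Cy.2 (c.y_mem_cent hx)

/-- The translation of a vector. -/
noncomputable def tv (i : Vec) : c.Xy := c.proj ⟨c.vec i, c.J_le_Cy (c.vec i).2⟩

theorem tv_add (i j : Vec) : c.tv (i + j) = c.tv i * c.tv j := by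
  rw [tv, tv, tv, ← map_mul]
  exact congrArg c.proj (Subtype.ext (by show (c.vec (i + j) : G) = _; rw [vec_add]; rfl))

theorem tv_zero : c.tv 0 = 1 := by
  rw [tv, c.proj_one]
  show (c.vec 0 : G) ∈ _
  rw [c.vec_zero]
  exact one_mem _

theorem tv_injective {i j : Vec} (h : c.tv i = c.tv j) : i = j := by
  have h' := c.proj_eq.1 h
  have : c.vec (-i + j) = (c.vec i)⁻¹ * c.vec j := by rw [vec_add, vec_neg]
  have h2 : -i + j = 0 := c.vec_mem_zpowers (by rw [this, Subgroup.coe_mul, Subgroup.coe_inv]; exact h')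
  exact neg_add_eq_zero.1 h2

theorem proj_pt {g : c.Cy} {k : ZMod 3} {i : Vec} (h : (g : G) = (c.pt k i : G)) : c.proj g = c.tv i := by
  rw [tv, c.proj_eq, h, pt_coe]
  show _ * (c.vec i : G) ∈ _
  rw [show ((c.y : G) ^ k.val * (c.vec i : G))⁻¹ * (c.vec i : G) =
    (c.vec i : G)⁻¹ * ((c.y : G) ^ k.val)⁻¹ * (c.vec i : G) by group,
    mul_assoc, (((c.y_mem_cent (c.vec i).2).pow_right k.val).inv_right).eq.symm, inv_mul_cancel_left]
  exact inv_mem (pow_mem (mem_zpowers _) _)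

theorem exists_tv {g : c.Cy} (h : (g : G) ∈ s.J) : ∃ i, c.proj g = c.tv i := by
  obtain ⟨k, i, e⟩ := c.exists_pt ⟨g, h⟩
  exact ⟨i, c.proj_pt (k := k) (by rw [e])⟩

theorem conj_tv {g : c.Cy} {f : Vec → Vec} (H : c.Acts (g : G) f) (i : Vec) :
    c.proj g * c.tv i * (c.proj g)⁻¹ = c.tv (f i) := by
  rw [tv, ← map_inv, ← map_mul, ← map_mul]
  refine c.proj_pt (k := 0) ?_
  show (g : G) * (c.vec i : G) * (g : G)⁻¹ = _
  rw [H 0 i, ← vec_eq]

theorem exists_lift (x : c.Xy) : ∃ g : c.Cy, c.proj g = x := QuotientGroup.mk_surjective x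

/-- The image of `N(J)`. -/
def NX : Subgroup c.Xy := ((normalizer (s.J : Set G)).subgroupOf c.Cy).map c.proj

theorem mem_normJ_of_NX {g : c.Cy} (h : c.proj g ∈ c.NX) : (g : G) ∈ normalizer (s.J : Set G) := by
  obtain ⟨w, hw, e⟩ := h
  have h1 : (w : G)⁻¹ * g ∈ s.J := zpowers_le.2 c.y.2 (c.proj_eq.1 e)
  simpa using mul_mem (mem_subgroupOf.1 hw) (le_normalizer h1)

theorem proj_mem_NX {g : c.Cy} (h : (g : G) ∈ normalizer (s.J : Set G)) : c.proj g ∈ c.NX :=
  ⟨g, mem_subgroupOf.2 h, rfl⟩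

theorem tv_mem_NX (i : Vec) : c.tv i ∈ c.NX := c.proj_mem_NX (le_normalizer (c.vec i).2)

theorem loc_tv {g : c.Cy} {i : Vec} (hi : i ≠ 0) (h : c.proj g * c.tv i = c.tv i * c.proj g) :
    (g : G) ∈ normalizer (s.J : Set G) := by
  refine c.loc_mod hi 0 (c.mem_Cy.1 g.2) ?_
  rw [← vec_eq]
  have h' : c.proj (g * ⟨c.vec i, c.J_le_Cy (c.vec i).2⟩ * g⁻¹ * ⟨c.vec i, c.J_le_Cy (c.vec i).2⟩⁻¹) =
      1 := by
    rw [map_mul, map_mul, map_mul, map_inv, map_inv, ← tv, h]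
    group
  exact c.proj_one.1 h'

theorem closed_tv {g : c.Cy} {i : Vec} (h : c.proj g * c.tv i * (c.proj g)⁻¹ ∈ c.NX) :
    ∃ j, c.proj g * c.tv i * (c.proj g)⁻¹ = c.tv j := by
  by_cases hi : i = 0
  · exact ⟨0, by rw [hi, c.tv_zero, mul_one, mul_inv_cancel]⟩
  rw [tv, ← map_inv, ← map_mul, ← map_mul] at h ⊢
  refine c.exists_tv ?_
  have hN := c.mem_normJ_of_NX h
  show (g : G) * (c.vec i : G) * (g : G)⁻¹ ∈ s.J
  rw [vec_eq]
  refine c.closed_mod hi 0 (c.mem_Cy.1 g.2) ?_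
  rw [← vec_eq]
  exact hN

theorem norm_tv {g : c.Cy} (h : ∀ i, ∃ j, c.proj g * c.tv i * (c.proj g)⁻¹ = c.tv j) :
    (g : G) ∈ normalizer (s.J : Set G) := by
  refine normJ_of_conj C fun x hx => le_normalizer ?_
  obtain ⟨k, i, e⟩ := c.exists_pt ⟨x, hx⟩
  obtain ⟨j, hj⟩ := h i
  rw [tv, ← map_inv, ← map_mul, ← map_mul, tv, c.proj_eq] at hj
  have h1 : (g : G) * (c.vec i : G) * (g : G)⁻¹ ∈ s.J := by
    have := mul_mem (c.vec j).2 (inv_mem (zpowers_le.2 c.y.2 hj))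
    simpa [mul_assoc] using this
  have hx' : x = (c.y : G) ^ k.val * (c.vec i : G) := by rw [← pt_coe, e]
  have e2 : (g : G) * x * (g : G)⁻¹ = (c.y : G) ^ k.val * ((g : G) * (c.vec i : G) * (g : G)⁻¹) := by
    rw [hx', show (c.y : G) ^ k.val * ((g : G) * (c.vec i : G) * (g : G)⁻¹) =
      (c.y : G) ^ k.val * (g : G) * (c.vec i : G) * (g : G)⁻¹ by group,
      ← ((c.mem_Cy.1 g.2).pow_right k.val).eq]
    group
  rw [e2]
  exact mul_mem (pow_mem c.y.2 _) h1

theorem exists_acts {g : c.Cy} (h : (g : G) ∈ normalizer (s.J : Set G)) :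
    ∃ π ε, DetOne π ε ∧ c.Acts (g : G) (mon π ε) :=
  c.exists_mon_det h (c.mem_Cy.1 g.2)

/-- An element centralising all translations is a translation. -/
theorem cent_tv {x : c.Xy} (h : ∀ i, x * c.tv i = c.tv i * x) : ∃ j, x = c.tv j := by
  obtain ⟨g, rfl⟩ := c.exists_lift x
  have hN := c.norm_tv fun i => ⟨i, by rw [h, mul_inv_cancel_right]⟩
  obtain ⟨π, ε, -, hA⟩ := c.exists_acts hN
  refine c.exists_tv (hA.mem_J fun i => c.tv_injective ?_)
  rw [← c.conj_tv hA, h, mul_inv_cancel_right]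

theorem eq_of_NX_top (h : ∀ g : c.Cy, c.proj g ∈ c.NX) :
    centralizer ({(c.y : G)} : Set G) ≤ normalizer (s.J : Set G) :=
  fun g hg => c.mem_normJ_of_NX (h ⟨g, hg⟩)

end Coord

end Cfsg.Agent.McLThree.Strong
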