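import Cfsg.Agent.McLThree.StrongQ

/-!
# No element of `N(J)` acts on `J` as a reflection

A reflection fixing a point of `Z` would be conjugate in `C(Z)` to an element inverting `J` modulo
`Q ⊓ J`, which is impossible because the form `(p, q) ↦ ⁅⁅j, p⁆, q⁆` is anisotropic.
-/

set_option autoImplicit false

namespace Cfsg.Agent.McLThree.Strong

open Subgroup
open scoped commutatorElement Pointwise
open Cfsg.Agent.McLLoc

/-- An element of order three. -/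
def slA : Six.SL25 := ⟨!![0, 4; 1, 4], by decide +kernel⟩
/-- A second element of order three. -/
def slB : Six.SL25 := ⟨!![0, 1; 4, 4], by decide +kernel⟩
theorem sl_base : slA * slA * slA = 1 ∧ slA ≠ 1 ∧ slB * slB * slB = 1 ∧ slB ≠ 1 ∧
    (slA * slB) ^ 5 = -1 ∧ (slA * slA * slB) ^ 5 = -1 := by decide +kernel
theorem sl_conjA : ∀ a : Six.SL25, a * a * a = 1 → a ≠ 1 → ∃ g, g * a * g⁻¹ = slA := by decide +kernel
/-- Short words. -/
def slW (i j k : Fin 3) (b : Six.SL25) : Six.SL25 :=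
  slA ^ (i : ℕ) * b ^ (j : ℕ) * slA ^ (k : ℕ)
theorem sl_image : ∀ b : Six.SL25, b * b * b = 1 → b ≠ 1 → (slA * b) ^ 5 = -1 →
    (slA * slA * b) ^ 5 = -1 → (∀ i j k, slW i j k slB = b → slW i j k b = slB) →
    b = slB ∨ b = slB * slB := by decide +kernel
theorem sl_gen : ∀ g : Six.SL25, ∃ i : Fin 10, ∃ j k l m : Fin 3,
    g = (slA * slB) ^ (i : ℕ) * slA ^ (j : ℕ) * slB ^ (k : ℕ) * slA ^ (l : ℕ) * slB ^ (m : ℕ) := by
  decide +kernel

/-- An automorphism of order at most two fixing `slA` is trivial or inverts an element of order three. -/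
theorem sl_auto (σ : Six.SL25 ≃* Six.SL25) (hσ : ∀ x, σ (σ x) = x) (hA : σ slA = slA) :
    (∀ x, σ x = x) ∨ σ slB = slB * slB := by
  obtain ⟨-, -, b3, b1, ab, aab⟩ := sl_base
  have hneg : σ (-1) = -1 :=
    Six.eq_of_sq _ _ (by rw [← map_mul, sl_neg.1.1, map_one]) (fun e => sl_neg.1.2 (σ.map_eq_one_iff.1 e))
      sl_neg.1.1 sl_neg.1.2
  rcases sl_image (σ slB) (by rw [← map_mul, ← map_mul, b3, map_one]) (fun e => b1 (σ.map_eq_one_iff.1 e))
    (by rw [← hA, ← map_mul, ← map_pow, ab, hneg])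
    (by
      calc (slA * slA * σ slB) ^ 5 = (σ slA * σ slA * σ slB) ^ 5 := by rw [hA]
        _ = -1 := by rw [← map_mul, ← map_mul, ← map_pow, aab, hneg])
    (fun i j k e => by
      have := congrArg σ e
      rw [hσ] at this
      calc slW i j k (σ slB) = σ (slW i j k slB) := by simp only [slW, map_mul, map_pow, hA]
        _ = slB := this) with h | h
  · left
    intro x
    obtain ⟨i, j, k, l, m, rfl⟩ := sl_gen x
    simp only [map_mul, map_pow, hA, h]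
  · exact Or.inr h

variable {G : Type*} [Group G] [Finite G] {s : Setting G} (C : Chart s)
include C

/-- No element of `C(Z) ⊓ N(J)` whose square lies in `J` inverts `J` modulo `Q`. -/
theorem invert_false {h : G} (hZ : h ∈ centralizer (s.Z : Set G)) (hJ : h ∈ normalizer (s.J : Set G))
    (hh : h * h = 1) {j : G} (hj : j ∈ s.J) (hjQ : j ∉ s.Q) (hinv : h * j * h⁻¹ * j ∈ s.Q) : False := by
  have hQ := s.normZ_le_normQ (s.cent_le_normZ hZ)
  set E := s.Q ⊓ s.J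
  obtain ⟨q0, hq0, hq0J⟩ : ∃ q ∈ s.Q, q ∉ s.J := by
    by_contra hall
    push Not at hall
    have := card_le_of_le (show s.Q ≤ E from fun q hq => ⟨hq, hall q hq⟩)
    rw [s.hQcard, s.card_QJ] at this
    norm_num at this
  -- an eigenvector modulo `E`
  obtain ⟨q, hq, hqJ, hqe⟩ : ∃ q ∈ s.Q, q ∉ s.J ∧
      (∃ e ∈ E, h * q * h⁻¹ = q * e ∨ h * q * h⁻¹ = q⁻¹ * e) := by
    have hp := (mem_normalizer_iff.1 hQ q0).1 hq0
    set p := h * q0 * h⁻¹ with hpd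
    by_cases hc : q0 * p ∈ s.J
    · exact ⟨q0, hq0, hq0J, q0 * p, ⟨s.Q.mul_mem hq0 hp, hc⟩, Or.inr (by rw [inv_mul_cancel_left])⟩
    · refine ⟨q0 * p, mul_mem hq0 hp, hc, (q0 * p)⁻¹ * (p * q0),
        ⟨s.Q.mul_mem (s.Q.inv_mem (s.Q.mul_mem hq0 hp)) (s.Q.mul_mem hp hq0), ?_⟩, Or.inl ?_⟩
      · refine s.Z_le_J ?_
        have := s.comm_mem_Z (inv_mem hp) (inv_mem hq0)
        rw [commutatorElement_def] at this
        simpa [mul_assoc] using this
      · have : h * p * h⁻¹ = q0 := by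
          rw [hpd, show h * (h * q0 * h⁻¹) * h⁻¹ = (h * h) * q0 * (h * h)⁻¹ by group, hh]; group
        rw [show h * (q0 * p) * h⁻¹ = (h * q0 * h⁻¹) * (h * p * h⁻¹) by group, this, ← hpd]
        group
  obtain ⟨e, he, hqe⟩ := hqe
  set B : G → G → G := fun a b => ⁅⁅a, b⁆, b⁆ with hB
  -- facts about commutators
  have hab : ∀ a ∈ s.J, ∀ b ∈ s.Q, ⁅a, b⁆ ∈ E := by
    intro a ha b hb
    refine ⟨?_, ?_⟩
    · rw [commutatorElement_def]
      exact s.Q.mul_mem ((mem_normalizer_iff.1 (s.normZ_le_normQ (s.cent_le_normZ (s.S_le_cent (s.hJS ha)))) b).1 hb)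
        (s.Q.inv_mem hb)
    · rw [commutatorElement_def, show a * b * a⁻¹ * b⁻¹ = a * (b * a⁻¹ * b⁻¹) by group]
      exact mul_mem ha ((mem_normalizer_iff.1 (s.S_le_normJ (s.Q_le_S hb)) _).1 (inv_mem ha))
  have hz : ∀ a ∈ E, ∀ b ∈ s.Q, ∀ g ∈ (s.S : Subgroup G), g * ⁅a, b⁆ * g⁻¹ = ⁅a, b⁆ := fun a ha b hb g hg =>
    mul_inv_eq_iff_eq_mul.2 (s.commute_Z (s.comm_mem_Z ha.1 hb) hg).eq.symm
  have hleft : ∀ a ∈ s.J, ∀ f ∈ E, ∀ b ∈ s.Q, B (a * f) b = B a b := by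
    intro a ha f hf b hb
    have e1 : ⁅a * f, b⁆ = ⁅f, b⁆ * ⁅a, b⁆ := by
      rw [show ⁅a * f, b⁆ = a * ⁅f, b⁆ * a⁻¹ * ⁅a, b⁆ by simp only [commutatorElement_def]; group,
        hz f hf b hb a (s.hJS ha)]
    simp only [hB, e1]
    rw [show ⁅⁅f, b⁆ * ⁅a, b⁆, b⁆ = ⁅f, b⁆ * ⁅⁅a, b⁆, b⁆ * ⁅f, b⁆⁻¹ * ⁅⁅f, b⁆, b⁆ by
      simp only [commutatorElement_def]; group]
    have c1 : ⁅⁅f, b⁆, b⁆ = 1 :=
      commutatorElement_eq_one_iff_mul_comm.2 (s.commute_Z (s.comm_mem_Z hf.1 hb) (s.Q_le_S hb)).eq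
    have c2 := hz _ (hab a ha b hb) b hb ⁅f, b⁆ (s.hJS (hab f hf.2 b hb).2)
    rw [c1, mul_one, c2]
  have hright : ∀ a ∈ s.J, ∀ f ∈ E, ∀ b ∈ s.Q, B a (b * f) = B a b := by
    intro a ha f hf b hb
    have e1 : ⁅a, b * f⁆ = ⁅a, b⁆ := by
      rw [show ⁅a, b * f⁆ = ⁅a, b⁆ * (b * ⁅a, f⁆ * b⁻¹) by simp only [commutatorElement_def]; group,
        commutatorElement_eq_one_iff_mul_comm.2 (s.commute_J ha hf.2).eq]
      group
    simp only [hB, e1]
    rw [show ⁅⁅a, b⁆, b * f⁆ = ⁅⁅a, b⁆, b⁆ * (b * ⁅⁅a, b⁆, f⁆ * b⁻¹) by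
        simp only [commutatorElement_def]; group,
      commutatorElement_eq_one_iff_mul_comm.2 (s.commute_J (hab a ha b hb).2 hf.2).eq]
    group
  have hinvl : ∀ a ∈ s.J, ∀ b ∈ s.Q, B a⁻¹ b = (B a b)⁻¹ := by
    intro a ha b hb
    have e1 : ⁅a⁻¹, b⁆ = ⁅a, b⁆⁻¹ := by
      rw [show ⁅a⁻¹, b⁆ = a⁻¹ * ⁅a, b⁆⁻¹ * a by simp only [commutatorElement_def]; group,
        (s.commute_J (inv_mem ha) (inv_mem (hab a ha b hb).2)).eq]
      group
    simp only [hB, e1]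
    rw [show ⁅⁅a, b⁆⁻¹, b⁆ = ⁅a, b⁆⁻¹ * ⁅⁅a, b⁆, b⁆⁻¹ * ⁅a, b⁆⁻¹⁻¹ by
      simp only [commutatorElement_def]; group]
    exact mul_inv_eq_iff_eq_mul.2
      (s.commute_Z (inv_mem (s.comm_mem_Z (hab a ha b hb).1 hb)) (s.hJS (inv_mem (hab a ha b hb).2))).eq.symm
  have hinvr : ∀ a ∈ s.J, ∀ b ∈ s.Q, B a b⁻¹ = B a b := by
    intro a ha b hb
    have e1 : ⁅a, b⁻¹⁆ = (b⁻¹ * ⁅a, b⁆ * b)⁻¹ := by simp only [commutatorElement_def]; group
    simp only [hB, e1]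
    rw [show ⁅(b⁻¹ * ⁅a, b⁆ * b)⁻¹, b⁻¹⁆ =
        (b⁻¹ * ⁅a, b⁆⁻¹ * b⁻¹) * ⁅⁅a, b⁆, b⁆ * (b⁻¹ * ⁅a, b⁆⁻¹ * b⁻¹)⁻¹ by
      simp only [commutatorElement_def]; group,
      hz _ (hab a ha b hb) b hb _ (mul_mem (mul_mem (inv_mem (s.Q_le_S hb))
        (inv_mem (s.hJS (hab a ha b hb).2))) (inv_mem (s.Q_le_S hb)))]
  have hBZ : B j q ∈ s.Z := s.comm_mem_Z (hab j hj q hq).1 hq
  have h1 : h * B j q * h⁻¹ = B j q := mul_inv_eq_iff_eq_mul.2 (mem_centralizer_iff.1 hZ _ hBZ).symm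
  set f := j * (h * j * h⁻¹) with hf
  have hjJ := (mem_normalizer_iff.1 hJ j).1 hj
  have hfE : f ∈ E := by
    refine ⟨?_, mul_mem hj hjJ⟩
    rw [hf, (s.commute_J hj hjJ).eq]
    exact hinv
  have hhj : h * j * h⁻¹ = j⁻¹ * f := by rw [hf]; group
  have h2 : h * B j q * h⁻¹ = B (h * j * h⁻¹) (h * q * h⁻¹) := by
    simp only [hB, commutatorElement_def]; group
  rw [h2, hhj] at h1
  have h3 : B (j⁻¹ * f) (h * q * h⁻¹) = (B j q)⁻¹ := by
    rcases hqe with e' | e' <;> rw [e']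
    · rw [hleft _ (inv_mem hj) _ hfE _ (mul_mem hq he.1), hright _ (inv_mem hj) _ he _ hq, hinvl j hj q hq]
    · rw [hleft _ (inv_mem hj) _ hfE _ (mul_mem (inv_mem hq) he.1), hright _ (inv_mem hj) _ he _ (inv_mem hq),
        hinvl j hj _ (inv_mem hq), hinvr j hj q hq]
  rw [h3] at h1
  refine C.comm_comm_ne hq hqJ hj hjQ ?_
  show B j q = 1
  have h4 : B j q * B j q = 1 := by nth_rewrite 1 [← h1]; exact inv_mul_cancel _
  have h5 : B j q ^ 3 = 1 := s.hJexp _ (s.Z_le_J hBZ)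
  rwa [pow_succ, sq, h4, one_mul] at h5

/-- No involution of `C(Z) ⊓ N(J)` fixes a subgroup of index three of `J` pointwise. -/
theorem involution_false {h : G} (hh : h * h = 1) (hhJ : h ∉ s.J) (hJ : h ∈ normalizer (s.J : Set G))
    (hZ : h ∈ centralizer (s.Z : Set G)) {H0 : Subgroup G} (hH0 : H0 ≤ s.J) (hcard : 3 ^ 3 ≤ Nat.card H0)
    (hfix : ∀ x ∈ H0, Commute h x) : False := by
  classical
  set F := s.J ⊓ centralizer ({h} : Set G) with hF
  have hHF : H0 ≤ F := le_inf hH0 fun x hx => mem_centralizer_singleton_iff.2 (hfix x hx).eq.symm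
  have hFc : F = H0 := by
    refine (eq_of_le_of_card_ge hHF ?_).symm
    obtain ⟨k, hk4, hk⟩ := (Nat.dvd_prime_pow Nat.prime_three).1
      (s.hJcard ▸ card_dvd_of_le (inf_le_left : F ≤ s.J) : Nat.card F ∣ 3 ^ 4)
    rw [hk]
    refine le_trans (Nat.pow_le_pow_right (by norm_num) ?_) hcard
    by_contra hlt
    have hk' : k = 4 := by omega
    have : F = s.J := eq_of_le_of_card_ge inf_le_left (by rw [hk, hk', s.hJcard])
    refine hhJ (s.centJ.le (mem_centralizer_iff.2 fun x hx => ?_))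
    exact mem_centralizer_singleton_iff.1 (this.symm ▸ hx : x ∈ F).2
  by_cases hsub : H0 ≤ s.Q ⊓ s.J
  · obtain ⟨j, hj, hjQ⟩ : ∃ j ∈ s.J, j ∉ s.Q := by
      by_contra hall
      push Not at hall
      have := card_le_of_le (show s.J ≤ s.Q ⊓ s.J from fun j hj => ⟨hall j hj, hj⟩)
      rw [s.hJcard, s.card_QJ] at this
      norm_num at this
    have hj' := (mem_normalizer_iff.1 hJ j).1 hj
    refine invert_false C hZ hJ hh hj hjQ ?_
    have : h * j * h⁻¹ * j ∈ F := by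
      refine ⟨mul_mem hj' hj, mem_centralizer_singleton_iff.2 (Commute.eq ?_)⟩
      refine (Commute.symm ?_)
      show h * (h * j * h⁻¹ * j) = h * j * h⁻¹ * j * h
      calc h * (h * j * h⁻¹ * j) = (h * h) * j * (h * h)⁻¹ * (h * j * h⁻¹) * h := by group
        _ = j * (h * j * h⁻¹) * h := by rw [hh]; group
        _ = _ := by rw [(s.commute_J hj hj').eq]
    exact (hsub (hFc ▸ this)).1
  obtain ⟨j0, hj0, hj0Q⟩ : ∃ j ∈ H0, j ∉ s.Q := by
    by_contra hall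
    push Not at hall
    exact hsub fun x hx => ⟨hall x hx, hH0 hx⟩
  have hj0J := hH0 hj0
  obtain ⟨π, hπ, hker, hinvar, -⟩ := exists_neg s
  have hQ := s.normZ_le_normQ (s.cent_le_normZ hZ)
  have hN := s.cent_le_normZ hZ
  have hhinv : h⁻¹ = h := inv_eq_of_mul_eq_one_right hh
  have hLL : ∀ x ∈ s.L, h * x * h⁻¹ ∈ s.L := by
    intro x hx
    have : s.L.map (MulAut.conj h).toMonoidHom ≤ s.L := by
      conv_lhs => rw [s.hL]
      rw [MonoidHom.map_closure, closure_le]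
      rintro _ ⟨z, ⟨hz, k, hk⟩, rfl⟩
      rw [s.hL]
      refine subset_closure ⟨mul_mem (mul_mem hN hz) (inv_mem hN), k, ?_⟩
      rw [← hk]
      exact MulEquiv.orderOf_eq (MulAut.conj h) z
    exact this ⟨x, hx, rfl⟩
  let cL : s.L →* s.L := MonoidHom.mk' (fun x => ⟨h * x * h⁻¹, hLL x x.2⟩)
    fun x y => Subtype.ext (by show h * ((x : G) * y) * h⁻¹ = (h * x * h⁻¹) * (h * y * h⁻¹); group)
  have hcc : ∀ x, cL (cL x) = x := fun x => Subtype.ext (by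
    show h * (h * (x : G) * h⁻¹) * h⁻¹ = x
    rw [show h * (h * (x : G) * h⁻¹) * h⁻¹ = (h * h) * x * (h * h)⁻¹ by group, hh]; group)
  have hk' : π.ker ≤ (π.comp cL).ker := fun x hx => (hker _).2
    ((mem_normalizer_iff.1 hQ x).1 ((hker x).1 hx))
  set σ0 : Six.SL25 →* Six.SL25 := MonoidHom.liftOfSurjective π hπ ⟨π.comp cL, hk'⟩
  have hσ : ∀ x, σ0 (π x) = π (cL x) := fun x =>
    MonoidHom.liftOfRightInverse_comp_apply π _ _ _ x
  have hσσ : ∀ g, σ0 (σ0 g) = g := fun g => by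
    obtain ⟨x, rfl⟩ := hπ g
    rw [hσ, hσ, hcc]
  set a : s.L := ⟨j0, s.S_le_L (s.hJS hj0J)⟩
  have hpa : π a ≠ 1 := fun e => hj0Q ((hker a).1 e)
  have ha3 : π a * π a * π a = 1 := by
    rw [← map_mul, ← map_mul, show a * a * a = 1 from Subtype.ext (by
      show j0 * j0 * j0 = 1; simpa [pow_succ] using s.hJexp j0 hj0J), map_one]
  have hσa : σ0 (π a) = π a := by
    rw [hσ]
    exact congrArg π (Subtype.ext (mul_inv_eq_iff_eq_mul.2 (hfix j0 hj0).eq))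
  obtain ⟨g, hg⟩ := sl_conjA _ ha3 hpa
  let σ : Six.SL25 ≃* Six.SL25 :=
    { toFun := fun x => g * σ0 (g⁻¹ * x * g) * g⁻¹
      invFun := fun x => g * σ0 (g⁻¹ * x * g) * g⁻¹
      left_inv := fun x => by
        show g * σ0 (g⁻¹ * (g * σ0 (g⁻¹ * x * g) * g⁻¹) * g) * g⁻¹ = x
        rw [show g⁻¹ * (g * σ0 (g⁻¹ * x * g) * g⁻¹) * g = σ0 (g⁻¹ * x * g) by group, hσσ]; group
      right_inv := fun x => by
        show g * σ0 (g⁻¹ * (g * σ0 (g⁻¹ * x * g) * g⁻¹) * g) * g⁻¹ = x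
        rw [show g⁻¹ * (g * σ0 (g⁻¹ * x * g) * g⁻¹) * g = σ0 (g⁻¹ * x * g) by group, hσσ]; group
      map_mul' := fun x y => by
        show g * σ0 (g⁻¹ * (x * y) * g) * g⁻¹ = g * σ0 (g⁻¹ * x * g) * g⁻¹ * (g * σ0 (g⁻¹ * y * g) * g⁻¹)
        rw [show g⁻¹ * (x * y) * g = (g⁻¹ * x * g) * (g⁻¹ * y * g) by group, map_mul]; group }
  rcases sl_auto σ σ.left_inv (by
    show g * σ0 (g⁻¹ * slA * g) * g⁻¹ = slA
    rw [← hg, show g⁻¹ * (g * π a * g⁻¹) * g = π a by group, hσa]) with htriv | hinvB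
  · -- `h` centralises `L` modulo `Q`
    have hid : ∀ x : s.L, π (cL x) = π x := fun x => by
      have := htriv (g * π x * g⁻¹)
      change g * σ0 (g⁻¹ * (g * π x * g⁻¹) * g) * g⁻¹ = g * π x * g⁻¹ at this
      rw [show g⁻¹ * (g * π x * g⁻¹) * g = π x by group, hσ] at this
      exact mul_left_cancel (mul_right_cancel this)
    have hzfix : ∀ x : G, x ∈ centralizer (s.Z : Set G) → ∀ z ∈ s.Z, x * z * x⁻¹ = z := fun x hx z hz =>
      mul_inv_eq_iff_eq_mul.2 (mem_centralizer_iff.1 hx z hz).symm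
    let F1 : Subgroup G :=
      { carrier := {q | q ∈ s.Q ∧ h * q * h⁻¹ * q⁻¹ ∈ s.Z}
        one_mem' := ⟨one_mem _, by simp⟩
        mul_mem' := fun {p q} hp hq => ⟨mul_mem hp.1 hq.1, by
          have : h * (p * q) * h⁻¹ * (p * q)⁻¹ =
              (h * p * h⁻¹) * (h * q * h⁻¹ * q⁻¹) * (h * p * h⁻¹)⁻¹ * (h * p * h⁻¹ * p⁻¹) := by group
          rw [this, hzfix _ (s.Q_le_centZ ((mem_normalizer_iff.1 hQ p).1 hp.1)) _ hq.2]
          exact mul_mem hq.2 hp.2⟩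
        inv_mem' := fun {p} hp => ⟨inv_mem hp.1, by
          have : h * p⁻¹ * h⁻¹ * p⁻¹⁻¹ = p⁻¹ * (p * (h * p * h⁻¹)⁻¹) * p⁻¹⁻¹ := by group
          have e2 : p * (h * p * h⁻¹)⁻¹ = (h * p * h⁻¹ * p⁻¹)⁻¹ := by group
          rw [this, e2, hzfix _ (s.Q_le_centZ (inv_mem hp.1)) _ (inv_mem hp.2)]
          exact inv_mem hp.2⟩ }
    have hZF : s.Z ≤ F1 := fun z hz => ⟨s.Z_le_Q hz, by rw [hzfix h hZ z hz, mul_inv_cancel]; exact one_mem _⟩
    have hFinv : ∀ x ∈ s.L, ∀ q ∈ F1, x * q * x⁻¹ ∈ F1 := by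
      intro x hx q hq
      have hxq := (mem_normalizer_iff.1 (L_le_normQ s hx) q).1 hq.1
      refine ⟨hxq, ?_⟩
      have hd : x⁻¹ * (h * x * h⁻¹) ∈ s.Q := by
        have := (hker (⟨x, hx⟩⁻¹ * cL ⟨x, hx⟩)).1 (by rw [map_mul, map_inv, hid, inv_mul_cancel])
        exact this
      set d := x⁻¹ * (h * x * h⁻¹) with hdd
      set p := h * q * h⁻¹
      have hp : p ∈ s.Q := (mem_normalizer_iff.1 hQ q).1 hq.1
      have : h * (x * q * x⁻¹) * h⁻¹ * (x * q * x⁻¹)⁻¹ = x * (⁅d, p⁆ * (p * q⁻¹)) * x⁻¹ := by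
        simp only [hdd, p, commutatorElement_def]; group
      rw [this, hzfix _ (s.L_le_centZ hx) _ (mul_mem (s.comm_mem_Z hd hp) hq.2)]
      exact mul_mem (s.comm_mem_Z hd hp) hq.2
    rcases hinvar F1 hZF (fun q hq => hq.1) hFinv with hZ' | hQ'
    · -- too few fixed points in `Q ⊓ J`
      have hsmall : (s.Q ⊓ s.J) ⊓ H0 ≤ s.Z := fun x hx => hZ' ▸ (show x ∈ F1 from
        ⟨hx.1.1, by rw [(hfix x hx.2).eq, mul_inv_cancel_right, mul_inv_cancel]; exact one_mem _⟩)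
      have hc := card_le_of_le hsmall
      rw [s.card_Z] at hc
      have h1 := card_mul_index (((s.Q ⊓ s.J) ⊓ H0).subgroupOf H0)
      rw [Nat.card_congr (subgroupOfEquivOfLe inf_le_right).toEquiv, ← relIndex, inf_relIndex_right] at h1
      have h2 := card_mul_index ((s.Q ⊓ s.J).subgroupOf s.J)
      rw [Nat.card_congr (subgroupOfEquivOfLe inf_le_right).toEquiv, ← relIndex, s.card_QJ, s.hJcard] at h2
      have h3 : (s.Q ⊓ s.J).relIndex H0 ≤ (s.Q ⊓ s.J).relIndex s.J :=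
        relIndex_le_of_le_right hH0 (fun e => by rw [e] at h2; norm_num at h2)
      have h4 : (s.Q ⊓ s.J).relIndex s.J = 3 := by
        generalize (s.Q ⊓ s.J).relIndex s.J = r at h2
        omega
      rw [h4] at h3
      have h5 : 3 ^ 3 ≤ 3 * 3 := hcard.trans (h1 ▸ Nat.mul_le_mul hc h3)
      norm_num at h5
    · have hall : ∀ q ∈ s.Q, Commute h q := by
        intro q hq
        have hzq : h * q * h⁻¹ * q⁻¹ ∈ s.Z := (hQ'.symm ▸ hq : q ∈ F1).2
        set z := h * q * h⁻¹ * q⁻¹ with hzd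
        have e1 : h * q * h⁻¹ = z * q := by rw [hzd]; group
        have e2 : h * (h * q * h⁻¹) * h⁻¹ = q := by
          rw [show h * (h * q * h⁻¹) * h⁻¹ = (h * h) * q * (h * h)⁻¹ by group, hh]; group
        rw [e1, show h * (z * q) * h⁻¹ = (h * z * h⁻¹) * (h * q * h⁻¹) by group, hzfix h hZ z hzq, e1,
          ← mul_assoc] at e2
        have hz3 := s.hJexp z (s.Z_le_J hzq)
        rw [pow_succ, sq, mul_eq_right.1 e2, one_mul] at hz3
        exact mul_inv_eq_iff_eq_mul.1 (mul_inv_eq_one.1 hz3)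
      refine hhJ (s.Z_le_J ?_)
      rw [← s.centQ]
      exact mem_centralizer_iff.2 fun q hq => (hall q hq).eq.symm
  · -- a conjugate of `h` inverts `J` modulo `Q`
    change g * σ0 (g⁻¹ * slB * g) * g⁻¹ = slB * slB at hinvB
    have hb : σ0 (g⁻¹ * slB * g) = g⁻¹ * (slB * slB) * g := by rw [← hinvB]; group
    obtain ⟨-, -, b3, b1, -, -⟩ := sl_base
    obtain ⟨k, hk⟩ := sl_conjA slB b3 b1
    have : ∃ w : Six.SL25, w * π a * w⁻¹ = g⁻¹ * slB * g :=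
      ⟨g⁻¹ * k⁻¹ * g, by
        calc g⁻¹ * k⁻¹ * g * π a * (g⁻¹ * k⁻¹ * g)⁻¹ = g⁻¹ * (k⁻¹ * (g * π a * g⁻¹) * k) * g := by group
          _ = g⁻¹ * (k⁻¹ * (k * slB * k⁻¹) * k) * g := by rw [hg, hk]
          _ = _ := by group⟩
    obtain ⟨w, hw⟩ := this
    obtain ⟨l, rfl⟩ := hπ w
    have hlZ := s.L_le_centZ l.2
    set h' := (l : G)⁻¹ * h * l with hh'
    have hb' : σ0 (π l * π a * (π l)⁻¹) = π l * (π a * π a) * (π l)⁻¹ := by
      rw [hw, hb]
      calc g⁻¹ * (slB * slB) * g = (g⁻¹ * slB * g) * (g⁻¹ * slB * g) := by group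
        _ = _ := by rw [← hw]; group
    have hh'Z : h' ∈ centralizer (s.Z : Set G) := mul_mem (mul_mem (inv_mem hlZ) hZ) hlZ
    have hh'h : h' * h' = 1 := by
      rw [hh', show (l : G)⁻¹ * h * l * ((l : G)⁻¹ * h * l) = (l : G)⁻¹ * (h * h) * l by group, hh]; group
    have hh'Q := s.normZ_le_normQ (s.cent_le_normZ hh'Z)
    have hjj : h' * j0 * h'⁻¹ * j0 ∈ s.Q := by
      set x : s.L := l⁻¹ * cL (l * a * l⁻¹) * l * a
      have hx : ((x : s.L) : G) = h' * j0 * h'⁻¹ * j0 := by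
        show (l : G)⁻¹ * (h * ((l : G) * j0 * (l : G)⁻¹) * h⁻¹) * l * j0 = _
        rw [hh']; group
      rw [← hx]
      refine (hker x).1 ?_
      have : π (cL (l * a * l⁻¹)) = π l * (π a * π a) * (π l)⁻¹ := by
        rw [← hσ, show π (l * a * l⁻¹) = π l * π a * (π l)⁻¹ by simp, hb']
      simp only [x, map_mul, map_inv] at this ⊢
      rw [this]
      calc (π l)⁻¹ * (π l * (π a * π a) * (π l)⁻¹) * π l * π a = π a * π a * π a := by group
        _ = 1 := ha3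
    have hmap : s.J.map (MulAut.conj h').toMonoidHom = s.J := by
      have := s.hJcomm
      refine C.J_unique ?_ inferInstance (by rw [card_map_of_injective (MulAut.conj h').injective, s.hJcard])
      rintro _ ⟨y, hy, rfl⟩
      show h' * y * h'⁻¹ ∈ (s.S : Subgroup G)
      obtain ⟨q, hq, i, rfl⟩ : ∃ q ∈ s.Q, ∃ i : ℕ, q * j0 ^ i = y := by
        have hsup : zpowers j0 ⊔ (s.Q ⊓ s.J) = s.J := by
          refine eq_of_le_of_card_ge (sup_le (zpowers_le.2 hj0J) inf_le_right) ?_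
          obtain ⟨k, hk4, hk⟩ := (Nat.dvd_prime_pow Nat.prime_three).1
            (s.hJcard ▸ card_dvd_of_le (sup_le (zpowers_le.2 hj0J) inf_le_right) :
              Nat.card (zpowers j0 ⊔ (s.Q ⊓ s.J) : Subgroup G) ∣ 3 ^ 4)
          have hlt : 3 ^ 3 < Nat.card (zpowers j0 ⊔ (s.Q ⊓ s.J) : Subgroup G) := by
            rw [← s.card_QJ]
            rcases (card_le_of_le (le_sup_right : s.Q ⊓ s.J ≤ zpowers j0 ⊔ (s.Q ⊓ s.J))).lt_or_eq with h | h
            · exact h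
            · exact absurd ((eq_of_le_of_card_ge le_sup_right h.ge).symm ▸
                (le_sup_left : zpowers j0 ≤ zpowers j0 ⊔ (s.Q ⊓ s.J)) (mem_zpowers j0) : j0 ∈ s.Q ⊓ s.J).1 hj0Q
          rw [hk] at hlt ⊢
          have := (Nat.pow_lt_pow_iff_right (by norm_num : 1 < 3)).1 hlt
          rw [s.hJcard, show k = 4 by omega]
        haveI := s.hJcomm
        have hy' : y ∈ ((zpowers j0 ⊔ (s.Q ⊓ s.J) : Subgroup G) : Set G) := hsup.symm ▸ hy
        rw [coe_mul_of_left_le_normalizer_right _ _ (fun w hw => centralizer_le_normalizer _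
          (mem_centralizer_iff.2 fun v hv => (s.commute_J (show v ∈ s.Q ⊓ s.J from hv).2 (zpowers_le.2 hj0J hw)).eq))] at hy'
        obtain ⟨u, hu, e, he, rfl⟩ := hy'
        obtain ⟨i, rfl⟩ := mem_powers_iff_mem_zpowers.2 hu
        exact ⟨e, he.1, i, (s.commute_J he.2 (pow_mem hj0J i)).eq⟩
      rw [show h' * (q * j0 ^ i) * h'⁻¹ = (h' * q * h'⁻¹) * (h' * j0 * h'⁻¹) ^ i by rw [conj_pow]; group]
      refine mul_mem (s.Q_le_S ((mem_normalizer_iff.1 hh'Q q).1 hq)) (pow_mem ?_ i)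
      rw [show h' * j0 * h'⁻¹ = (h' * j0 * h'⁻¹ * j0) * j0⁻¹ by group]
      exact mul_mem (s.Q_le_S hjj) (inv_mem (s.hJS hj0J))
    refine invert_false C hh'Z ?_ hh'h hj0J hj0Q hjj
    rw [mem_normalizer_iff]
    intro y
    conv_rhs => rw [← hmap]
    exact ⟨fun hy => ⟨y, hy, rfl⟩, fun ⟨i, hi, e⟩ => (MulAut.conj h').injective e ▸ hi⟩

/-- No element of `N(J)` acts on `J` as a reflection whose fixed points include a conjugate of a point
of `Z`. -/
theorem no_reflection {g : G} (hg : g ∈ normalizer (s.J : Set G)) (hgg : g * g ∈ s.J) (hgJ : g ∉ s.J)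
    {H0 : Subgroup G} (hH0 : H0 ≤ s.J) (hcard : 3 ^ 3 ≤ Nat.card H0) (hfix : ∀ x ∈ H0, Commute g x)
    {a : G} (ha : Sing s a) (haH : a ∈ H0) : False := by
  obtain ⟨p, hp⟩ := sing_J C (a := ⟨a, hH0 haH⟩) ha
  obtain ⟨m, rfl⟩ := C.surj p
  rw [C.ρ_apply] at hp
  have hg6 : g ^ 6 = 1 := by
    rw [show (6 : ℕ) = 2 * 3 from rfl, pow_mul, sq, s.hJexp _ hgg]
  set h := (m : G) * g ^ 3 * (m : G)⁻¹ with hh
  have hmN := s.M_le_normJ m.2
  have hmem : ∀ x : G, (m : G) * x * (m : G)⁻¹ ∈ s.J ↔ x ∈ s.J := fun x =>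
    (mem_normalizer_iff.1 hmN x).symm
  have hhh : h * h = 1 := by
    rw [hh, show (m : G) * g ^ 3 * (m : G)⁻¹ * ((m : G) * g ^ 3 * (m : G)⁻¹) =
      (m : G) * g ^ 6 * (m : G)⁻¹ by group, hg6]
    group
  have hhN : h ∈ normalizer (s.J : Set G) := mul_mem (mul_mem hmN (pow_mem hg 3)) (inv_mem hmN)
  have hhJ : h ∉ s.J := by
    rw [hh, hmem]
    intro h3
    exact hgJ (by
      have := mul_mem h3 (inv_mem hgg)
      rwa [show g ^ 3 * (g * g)⁻¹ = g by group] at this)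
  set z := (m : G) * a * (m : G)⁻¹
  have hz1 : z ≠ 1 := fun e => ha.1 (conj_eq_one_iff.1 e)
  have hza : Commute h z := ((hfix a haH).pow_left 3).conj (m : G)
  have hhZ : h ∈ centralizer (s.Z : Set G) := by
    have hze : zpowers z = s.Z := eq_of_le_of_card_ge (zpowers_le.2 hp) (by
      rw [s.card_Z, Nat.card_zpowers, orderOf_eq_prime (s.hJexp _ (s.Z_le_J hp)) hz1])
    refine mem_centralizer_iff.2 fun y hy => ?_
    rw [← hze] at hy
    obtain ⟨i, rfl⟩ := mem_zpowers_iff.1 hy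
    exact (hza.zpow_right i).eq.symm
  refine involution_false C hhh hhJ hhN hhZ (H0 := H0.map (MulAut.conj (m : G)).toMonoidHom) ?_ ?_ ?_
  · rintro _ ⟨x, hx, rfl⟩
    exact (hmem x).2 (hH0 hx)
  · rw [card_map_of_injective (MulAut.conj (m : G)).injective]; exact hcard
  · rintro _ ⟨x, hx, rfl⟩
    exact ((hfix x hx).pow_left 3).conj (m : G)

end Cfsg.Agent.McLThree.Strong
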