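import Cfsg.Agent.McLThree.StrongStab

/-!
# Conjugates of the centre inside `J`

A point centralised by a four-group is not conjugate to a point of `Z`, and the only conjugates of
points of `Z` in the intersection of `Q` and `J` lie in `Z`.
-/

set_option autoImplicit false

namespace Cfsg.Agent.McLThree.Strong

open Subgroup
open scoped Pointwise
open Cfsg.Agent.McLLoc

variable {G : Type*} [Group G] [Finite G]

/-- A nontrivial conjugate of an element of `Z`. -/
def Sing (s : Setting G) (a : G) : Prop := a ≠ 1 ∧ ∃ g : G, g⁻¹ * a * g ∈ s.Z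

omit [Finite G] in
theorem Sing.conj {s : Setting G} {a : G} (h : Sing s a) (k : G) : Sing s (k * a * k⁻¹) := by
  obtain ⟨h1, g, hg⟩ := h
  refine ⟨fun e => h1 (conj_eq_one_iff.1 e), k * g, ?_⟩
  rwa [show (k * g)⁻¹ * (k * a * k⁻¹) * (k * g) = g⁻¹ * a * g by group]

omit [Finite G] in
theorem Sing.inv {s : Setting G} {a : G} (h : Sing s a) : Sing s a⁻¹ := by
  obtain ⟨h1, g, hg⟩ := h
  exact ⟨inv_ne_one.2 h1, g, by rw [show g⁻¹ * a⁻¹ * g = (g⁻¹ * a * g)⁻¹ by group]; exact inv_mem hg⟩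

omit [Finite G] in
theorem Sing.of_mem {s : Setting G} {z : G} (hz : z ∈ s.Z) (h1 : z ≠ 1) : Sing s z :=
  ⟨h1, 1, by simpa using hz⟩

variable {s : Setting G} (C : Chart s)
include C

/-- Two abelian subgroups of order `3 ^ 4` in one Sylow 3-subgroup coincide. -/
theorem abelian_unique {T : Sylow 3 G} {A B : Subgroup G} (hA : A ≤ T) (hB : B ≤ T)
    (hAc : IsMulCommutative A) (hBc : IsMulCommutative B) (hA4 : Nat.card A = 3 ^ 4)
    (hB4 : Nat.card B = 3 ^ 4) : A = B := by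
  haveI : Fact (Nat.Prime 3) := ⟨Nat.prime_three⟩
  obtain ⟨g, hg⟩ := MulAction.exists_smul_eq G T s.S
  have key : ∀ A : Subgroup G, A ≤ T → IsMulCommutative A → Nat.card A = 3 ^ 4 →
      A.map (MulAut.conj g).toMonoidHom = s.J := fun A hA hAc hA4 => by
    refine C.J_unique ?_ inferInstance (by rw [card_map_of_injective (MulAut.conj g).injective, hA4])
    rw [← hg, Sylow.coe_subgroup_smul]
    exact Subgroup.map_mono hA
  exact Subgroup.map_injective (MulAut.conj g).injective ((key A hA hAc hA4).trans (key B hB hBc hB4).symm)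

/-- A point centralised by a four-group is not conjugate into `Z`. -/
theorem IsFour.not_sing {a : s.J} (h : IsFour C a) : ¬ Sing s (a : G) := by
  rintro ⟨ha1, g, hg⟩
  haveI : Fact (Nat.Prime 3) := ⟨Nat.prime_three⟩
  set Ca := centralizer ({(a : G)} : Set G)
  have hJC : s.J ≤ Ca := fun j hj => mem_centralizer_singleton_iff.2 (s.commute_J hj a.2).eq
  have hSC : (s.S : Subgroup G).map (MulAut.conj g).toMonoidHom ≤ Ca := by
    rintro _ ⟨x, hx, rfl⟩
    refine mem_centralizer_singleton_iff.2 ?_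
    show g * x * g⁻¹ * a = a * (g * x * g⁻¹)
    have e := (s.commute_Z hg hx).eq
    calc g * x * g⁻¹ * a = g * (x * (g⁻¹ * a * g)) * g⁻¹ := by group
      _ = g * (g⁻¹ * a * g * x) * g⁻¹ := by rw [e]
      _ = a * (g * x * g⁻¹) := by group
  obtain ⟨T, hT⟩ := ((IsPGroup.of_card s.hJcard).comap_of_injective Ca.subtype
    Ca.subtype_injective).exists_le_sylow (G := Ca)
  obtain ⟨U, hU⟩ := (((s.S).2.map (MulAut.conj g).toMonoidHom).comap_of_injective Ca.subtype
    Ca.subtype_injective).exists_le_sylow (G := Ca)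
  have hTc : 3 ^ 6 ≤ Nat.card (T : Subgroup Ca) := by
    rw [T.card_eq_multiplicity, ← U.card_eq_multiplicity, ← s.card_S,
      ← card_map_of_injective (f := (MulAut.conj g).toMonoidHom) (MulAut.conj g).injective (K := (s.S : Subgroup G))]
    calc Nat.card ((s.S : Subgroup G).map (MulAut.conj g).toMonoidHom)
        = Nat.card (((s.S : Subgroup G).map (MulAut.conj g).toMonoidHom).subgroupOf Ca) :=
          (Nat.card_congr (subgroupOfEquivOfLe hSC).toEquiv).symm
      _ ≤ _ := card_le_of_le hU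
  set T' := (T : Subgroup Ca).map Ca.subtype with hT'
  obtain ⟨W, hW⟩ := (T.2.map Ca.subtype).exists_le_sylow
  have hWT : T' = W := eq_of_le_of_card_ge hW (by
    rw [card_map_of_injective Ca.subtype_injective, W.card_eq_multiplicity,
      ← s.S.card_eq_multiplicity, s.card_S]
    exact hTc)
  have hJT : s.J ≤ (W : Subgroup G) := hWT ▸ fun j hj => ⟨⟨j, hJC hj⟩, hT hj, rfl⟩
  -- `W` normalises `J`
  have hWN : (W : Subgroup G) ≤ normalizer (s.J : Set G) := by
    intro x hx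
    have := s.hJcomm
    have hJ' : s.J.map (MulAut.conj x).toMonoidHom = s.J := by
      refine abelian_unique C (T := W) ?_ hJT inferInstance s.hJcomm
        (by rw [card_map_of_injective (MulAut.conj x).injective, s.hJcard]) s.hJcard
      rintro _ ⟨j, hj, rfl⟩
      exact mul_mem (mul_mem hx (hJT hj)) (inv_mem hx)
    rw [mem_normalizer_iff]
    intro j
    conv_rhs => rw [← hJ']
    exact ⟨fun hj => ⟨j, hj, rfl⟩, fun ⟨i, hi, e⟩ => (MulAut.conj x).injective e ▸ hi⟩
  have hWM : (W : Subgroup G) ≤ s.M := fun x hx => by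
    obtain ⟨k, hk⟩ := IsPGroup.iff_orderOf.1 W.2 ⟨x, hx⟩
    exact s.mem_M (hWN hx) (k := k) (by rwa [Subgroup.orderOf_mk] at hk)
  let f : (W : Subgroup G) →* Six.Alt6 := C.φ.comp (inclusion hWM)
  have hr : f.range ≤ St C a := by
    rintro _ ⟨x, rfl⟩
    refine Subtype.ext ?_
    show ((C.ρ (C.φ _) a : s.J) : G) = a
    rw [C.ρ_apply]
    have hx : (x : G) ∈ Ca := by
      have h2 : (x : G) ∈ T' := by rw [hWT]; exact x.2
      obtain ⟨y, -, e⟩ := h2
      exact e ▸ y.2
    exact mul_inv_eq_iff_eq_mul.2 (mem_centralizer_singleton_iff.1 hx)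
  refine h.not_nine C (dvd_trans ?_ (card_dvd_of_le hr))
  have hker : f.ker = s.J.subgroupOf (W : Subgroup G) := by
    ext x
    rw [MonoidHom.mem_ker, mem_subgroupOf]
    exact C.φ_eq_one (m := inclusion hWM x)
  have hmul := card_eq_card_quotient_mul_card_subgroup f.ker
  rw [Nat.card_congr (QuotientGroup.quotientKerEquivRange f).toEquiv, hker,
    Nat.card_congr (subgroupOfEquivOfLe hJT).toEquiv, s.hJcard, W.card_eq_multiplicity,
    ← s.S.card_eq_multiplicity, s.card_S] at hmul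
  exact ⟨1, by omega⟩

theorem sing_J {a : s.J} (h : Sing s (a : G)) : ∃ p : Six.Alt6, ((C.ρ p a : s.J) : G) ∈ s.Z := by
  rcases dichotomy C (a := a) (fun e => h.1 (by rw [e]; rfl)) with h' | h'
  · exact h'
  · exact absurd h (h'.not_sing C)

/-- The only conjugates of points of `Z` in the intersection of `Q` and `J` lie in `Z`. -/
theorem sing_QJ {a : s.J} (h : Sing s (a : G)) (hQ : (a : G) ∈ s.Q) : (a : G) ∈ s.Z := by
  classical
  by_contra haZ
  obtain ⟨p, hp⟩ := sing_J C h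
  have hQinv : ∀ q ∈ Six.P0, ∀ b : s.J, (b : G) ∈ s.Q → ((C.ρ q b : s.J) : G) ∈ s.Q := by
    intro q hq b hb
    obtain ⟨m, rfl⟩ := C.surj q
    rw [C.ρ_apply]
    exact (mem_normalizer_iff.1 (s.normZ_le_normQ
      (s.cent_le_normZ (s.S_le_cent (mem_P0_preimage C hq)))) _).1 hb
  have hb1 : C.ρ p a ≠ 1 := fun e => h.1 (by
    rw [(C.ρ p).injective (e.trans (map_one _).symm)]; rfl)
  set z := C.ρ p a with hz
  have ha : a = C.ρ p⁻¹ z := by rw [hz, C.ρ_comp, inv_mul_cancel, map_one]; rfl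
  have hpN : ¬ NormP0 p⁻¹ := fun hn => haZ (ha ▸ normP0_Z C hn hp)
  obtain ⟨i, j, hn⟩ := (coset_pu p⁻¹).resolve_left hpN
  -- the named conjugate lies in `Q`
  have hu : ((C.ρ Six.pu z : s.J) : G) ∈ s.Q := by
    set n := (Six.el i j * Six.pu)⁻¹ * p⁻¹ with hn'
    have hnz : ((C.ρ n z : s.J) : G) ∈ s.Z := normP0_Z C hn hp
    have e : a = C.ρ (Six.el i j) (C.ρ Six.pu (C.ρ n z)) := by
      rw [C.ρ_comp, C.ρ_comp, ha, hn', mul_inv_cancel_left]
    have h2 : ((C.ρ Six.pu (C.ρ n z) : s.J) : G) ∈ s.Q := by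
      have := hQinv _ (inv_mem (Six.mem_P0.2 ⟨i, j, rfl⟩)) a hQ
      rwa [e, C.ρ_comp, inv_mul_cancel, map_one] at this
    have hze : zpowers ((C.ρ n z : s.J) : G) = s.Z := eq_of_le_of_card_ge (zpowers_le.2 hnz) (by
      rw [s.card_Z, Nat.card_zpowers, orderOf_eq_prime (s.hJexp _ (C.ρ n z).2) fun e =>
        hb1 ((C.ρ n).injective (Subtype.ext (by rw [e, map_one]; rfl)))])
    obtain ⟨k, hk⟩ := mem_zpowers_iff.1 (hze ▸ hp : (z : G) ∈ zpowers _)
    have : C.ρ Six.pu z = C.ρ Six.pu (C.ρ n z) ^ k := by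
      rw [← map_zpow]
      exact congrArg _ (Subtype.ext (by rw [Subgroup.coe_zpow, hk]))
    rw [this, Subgroup.coe_zpow]
    exact zpow_mem h2 k
  have horb : ∀ q, ((C.ρ q z : s.J) : G) ∈ s.Q := by
    intro q
    rcases coset_pu q with hq | ⟨k, l, hq⟩
    · exact s.Z_le_Q (normP0_Z C hq hp)
    · rw [show q = Six.el k l * (Six.pu * ((Six.el k l * Six.pu)⁻¹ * q)) by group, ← C.ρ_comp]
      refine hQinv _ (Six.mem_P0.2 ⟨k, l, rfl⟩) _ ?_
      rw [← C.ρ_comp]
      have hnz := normP0_Z C hq hp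
      have hze : zpowers (z : G) = s.Z := eq_of_le_of_card_ge (zpowers_le.2 hp) (by
        rw [s.card_Z, Nat.card_zpowers, orderOf_eq_prime (s.hJexp _ z.2) fun e => hb1 (Subtype.ext e)])
      obtain ⟨m, hm⟩ := mem_zpowers_iff.1 (hze ▸ hnz)
      rw [show C.ρ ((Six.el k l * Six.pu)⁻¹ * q) z = z ^ m from Subtype.ext (by rw [Subgroup.coe_zpow, hm]),
        map_zpow, Subgroup.coe_zpow]
      exact zpow_mem hu m
  -- an invariant subgroup below `Q`
  let W : Subgroup s.J :=
    { carrier := {b | ∀ q, ((C.ρ q b : s.J) : G) ∈ s.Q}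
      one_mem' := fun q => by rw [map_one]; exact one_mem _
      mul_mem' := fun {b c} hb hc q => by rw [map_mul]; exact mul_mem (hb q) (hc q)
      inv_mem' := fun {b} hb q => by rw [map_inv]; exact inv_mem (hb q) }
  obtain ⟨g5, hg5, hg1⟩ := exists_five
  haveI : Fact (Nat.Prime 5) := ⟨Nat.prime_five⟩
  have hWinv : ∀ q (b : s.J), b ∈ W → C.ρ q b ∈ W := fun q b hb r => by rw [C.ρ_comp]; exact hb _
  letI : SMul (zpowers g5) W := ⟨fun q b => ⟨C.ρ q.1 b.1, hWinv _ _ b.2⟩⟩
  letI : MulAction (zpowers g5) W :=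
    { one_smul := fun b => Subtype.ext (by show C.ρ 1 b.1 = b.1; rw [map_one]; rfl)
      mul_smul := fun q r b => Subtype.ext (C.ρ_comp q.1 r.1 b.1).symm }
  have hp5 : IsPGroup 5 (zpowers g5) := IsPGroup.of_card (n := 1)
    (by rw [Nat.card_zpowers, orderOf_eq_prime hg5 hg1, pow_one])
  have hmod := hp5.card_modEq_card_fixedPoints W
  have hfix : Nat.card (MulAction.fixedPoints (zpowers g5) W) = 1 := by
    rw [Nat.card_eq_one_iff_unique]
    refine ⟨⟨fun x y => Subtype.ext (Subtype.ext ?_)⟩, ⟨⟨1, fun q => Subtype.ext (map_one (C.ρ q.1))⟩⟩⟩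
    rw [five_free C hg5 hg1 (congrArg Subtype.val (x.2 ⟨g5, mem_zpowers g5⟩)),
      five_free C hg5 hg1 (congrArg Subtype.val (y.2 ⟨g5, mem_zpowers g5⟩))]
  rw [hfix] at hmod
  have hWQ : W.map s.J.subtype ≤ s.Q ⊓ s.J := by
    rintro _ ⟨b, hb, rfl⟩
    exact ⟨by simpa using hb 1, b.2⟩
  have hd := card_dvd_of_le hWQ
  rw [card_map_of_injective s.J.subtype_injective, s.card_QJ] at hd
  obtain ⟨k, hk3, hk⟩ := (Nat.dvd_prime_pow Nat.prime_three).1 hd
  rw [hk] at hmod
  have hk0 : k ≠ 0 := fun e => by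
    rw [e, pow_zero, card_eq_one] at hk
    exact hb1 (mem_bot.1 (hk ▸ (show z ∈ W from horb)))
  rcases (show k = 1 ∨ k = 2 ∨ k = 3 by omega) with rfl | rfl | rfl <;> exact absurd hmod (by decide)

end Cfsg.Agent.McLThree.Strong
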