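import Cfsg.Agent.McLLoc.Six

/-!
# More finite facts about the alternating group of degree 6
-/

set_option autoImplicit false

namespace Cfsg.Agent.McLThree.Strong

open Equiv
open Cfsg.Agent.McLLoc

/-- The element normalises the named Sylow 3-subgroup, tested on its generators. -/
def NormP0 (p : Six.Alt6) : Prop :=
  (∃ i j, p * Six.pa * p⁻¹ = Six.el i j) ∧ ∃ i j, p * Six.pb * p⁻¹ = Six.el i j

instance : DecidablePred NormP0 := fun p => by unfold NormP0; infer_instance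

theorem normP0_conj {p : Six.Alt6} (h : NormP0 p) : ∀ q ∈ Six.P0, p * q * p⁻¹ ∈ Six.P0 := by
  obtain ⟨⟨i, j, ha⟩, k, l, hb⟩ := h
  intro q hq
  obtain ⟨a, b, rfl⟩ := Six.mem_P0.1 hq
  rw [Six.el, show p * (Six.pa ^ (a : ℕ) * Six.pb ^ (b : ℕ)) * p⁻¹ =
    (p * Six.pa ^ (a : ℕ) * p⁻¹) * (p * Six.pb ^ (b : ℕ) * p⁻¹) by group, ← conj_pow, ← conj_pow, ha, hb]
  exact mul_mem (pow_mem (Six.mem_P0.2 ⟨i, j, rfl⟩) _) (pow_mem (Six.mem_P0.2 ⟨k, l, rfl⟩) _)

theorem normP0_of_conj {p : Six.Alt6} (h : ∀ q ∈ Six.P0, p * q * p⁻¹ ∈ Six.P0) : NormP0 p := by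
  obtain ⟨i, j, h1⟩ := Six.mem_P0.1 (h _ Six.a_mem)
  obtain ⟨k, l, h2⟩ := Six.mem_P0.1 (h _ Six.b_mem)
  exact ⟨⟨i, j, h1.symm⟩, k, l, h2.symm⟩

/-- The normaliser of the Sylow 3-subgroup contains no four-group. -/
theorem normP0_form : ∀ p : Six.Alt6, NormP0 p → ∃ i j, ∃ k : Fin 4, p = Six.el i j * Six.pc ^ (k : ℕ) := by
  decide +kernel

set_option synthInstance.maxSize 4096 in
set_option synthInstance.maxHeartbeats 200000 in
theorem normP0_no_four_aux : ∀ i j k l, ∀ a b : Fin 4,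
    (Six.el i j * Six.pc ^ (a : ℕ)) * (Six.el i j * Six.pc ^ (a : ℕ)) = 1 →
    (Six.el k l * Six.pc ^ (b : ℕ)) * (Six.el k l * Six.pc ^ (b : ℕ)) = 1 →
    Six.el i j * Six.pc ^ (a : ℕ) ≠ 1 → Six.el k l * Six.pc ^ (b : ℕ) ≠ 1 →
    Six.el i j * Six.pc ^ (a : ℕ) ≠ Six.el k l * Six.pc ^ (b : ℕ) →
    (Six.el i j * Six.pc ^ (a : ℕ)) * (Six.el k l * Six.pc ^ (b : ℕ)) ≠
      (Six.el k l * Six.pc ^ (b : ℕ)) * (Six.el i j * Six.pc ^ (a : ℕ)) := by
  decide +kernel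

/-- Two commuting distinct involutions. -/
structure Pair (v w : Six.Alt6) : Prop where
  vv : v * v = 1
  ww : w * w = 1
  v_ne : v ≠ 1
  w_ne : w ≠ 1
  ne : v ≠ w
  comm : v * w = w * v

theorem Pair.conj {v w : Six.Alt6} (h : Pair v w) (g : Six.Alt6) :
    Pair (g * v * g⁻¹) (g * w * g⁻¹) where
  vv := by rw [show g * v * g⁻¹ * (g * v * g⁻¹) = g * (v * v) * g⁻¹ by group, h.vv]; group
  ww := by rw [show g * w * g⁻¹ * (g * w * g⁻¹) = g * (w * w) * g⁻¹ by group, h.ww]; group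
  v_ne e := h.v_ne (conj_eq_one_iff.1 e)
  w_ne e := h.w_ne (conj_eq_one_iff.1 e)
  ne e := h.ne (mul_left_cancel (mul_right_cancel e))
  comm := by
    rw [show g * v * g⁻¹ * (g * w * g⁻¹) = g * (v * w) * g⁻¹ by group, h.comm]; group

theorem not_both_normP0 {v w : Six.Alt6} (h : Pair v w) : ¬ (NormP0 v ∧ NormP0 w) := by
  rintro ⟨hv, hw⟩
  obtain ⟨i, j, a, rfl⟩ := normP0_form v hv
  obtain ⟨k, l, b, rfl⟩ := normP0_form w hw
  exact normP0_no_four_aux i j k l a b h.vv h.ww h.v_ne h.w_ne h.ne h.comm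

theorem pair_tu : Pair Six.pt Six.pu :=
  ⟨Six.t_sq, Six.u_sq, Six.t_ne, Six.u_ne, Six.tu_ne, Six.tu_comm⟩

theorem pair_tw : Pair Six.pt (Six.pc * Six.pu) := by
  refine ⟨Six.t_sq, ?_, Six.t_ne, ?_, ?_, ?_⟩ <;> decide +kernel

theorem el2_pair : ∀ i j k l, Six.el2 i j * Six.el2 i j = 1 → Six.el2 k l * Six.el2 k l = 1 →
    Six.el2 i j ≠ 1 → Six.el2 k l ≠ 1 → Six.el2 i j ≠ Six.el2 k l →
    Six.el2 i j * Six.el2 k l = Six.el2 k l * Six.el2 i j →
    ∃ r : Fin 4,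
      let R := ![Six.px, Six.px * Six.px, Six.px2, Six.px2 * Six.px2] r
      R * R * R = 1 ∧ R * Six.el2 i j * R⁻¹ = Six.el2 k l ∧
        R * Six.el2 k l * R⁻¹ = Six.el2 i j * Six.el2 k l := by
  decide +kernel

/-- Every four-group is permuted cyclically by an element of order three. -/
theorem Pair.exists_rot {v w : Six.Alt6} (h : Pair v w) :
    ∃ r : Six.Alt6, r * r * r = 1 ∧ r ≠ 1 ∧ r * v * r⁻¹ = w ∧ r * w * r⁻¹ = v * w := by
  classical
  haveI : Fact (Nat.Prime 2) := ⟨Nat.prime_two⟩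
  let V : Subgroup Six.Alt6 :=
    { carrier := {g | g = 1 ∨ g = v ∨ g = w ∨ g = v * w}
      one_mem' := Or.inl rfl
      mul_mem' := by
        have e1 : v * (v * w) = w := by rw [← mul_assoc, h.vv, one_mul]
        have e2 : w * (v * w) = v := by rw [h.comm, ← mul_assoc, h.ww, one_mul]
        have e3 : v * w * v = w := by rw [h.comm, mul_assoc, h.vv, mul_one]
        have e4 : v * w * w = v := by rw [mul_assoc, h.ww, mul_one]
        have e5 : v * w * (v * w) = 1 := by rw [← mul_assoc, e3, h.ww]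
        rintro a b (rfl | rfl | rfl | rfl) (rfl | rfl | rfl | rfl) <;>
          simp only [Set.mem_setOf_eq, one_mul, mul_one, h.vv, h.ww, e1, e2, e3, e4, e5, ← h.comm,
            true_or, or_true]
      inv_mem' := by
        rintro a (rfl | rfl | rfl | rfl)
        · exact Or.inl inv_one
        · exact Or.inr (Or.inl (inv_eq_of_mul_eq_one_right h.vv))
        · exact Or.inr (Or.inr (Or.inl (inv_eq_of_mul_eq_one_right h.ww)))
        · refine Or.inr (Or.inr (Or.inr ?_))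
          rw [mul_inv_rev, inv_eq_of_mul_eq_one_right h.vv, inv_eq_of_mul_eq_one_right h.ww, h.comm] }
  have h2 : IsPGroup 2 V := by
    rintro ⟨g, hg⟩
    refine ⟨1, Subtype.ext ?_⟩
    show g ^ (2 ^ 1) = 1
    rcases hg with rfl | rfl | rfl | rfl
    · simp
    · rw [pow_one, sq, h.vv]
    · rw [pow_one, sq, h.ww]
    · rw [pow_one, sq, show v * w * (v * w) = v * (w * v) * w by group, ← h.comm, ← mul_assoc, h.vv,
        one_mul, h.ww]
  have h8 : (8 : ℕ) = 2 ^ (Nat.card Six.Alt6).factorization 2 := by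
    rw [Six.card_alt6, Nat.factorization_def _ Nat.prime_two]
    have : padicValNat 2 360 = 3 := by
      rw [show (360 : ℕ) = 2 ^ 3 * 45 by norm_num, padicValNat.mul (by norm_num) (by norm_num),
        padicValNat.prime_pow, padicValNat.eq_zero_of_not_dvd (by norm_num)]
    rw [this]; norm_num
  let T : Sylow 2 Six.Alt6 := Sylow.ofCard Six.T8 (Six.card_T8.trans h8)
  obtain ⟨P, hP⟩ := h2.exists_le_sylow
  obtain ⟨g, hg⟩ := MulAction.exists_smul_eq Six.Alt6 P T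
  have hmem : ∀ a ∈ V, g * a * g⁻¹ ∈ Six.T8 := fun a ha => by
    have e := congrArg (fun S : Sylow 2 Six.Alt6 => (S : Subgroup Six.Alt6)) hg
    simp only [Sylow.coe_subgroup_smul] at e
    have : g * a * g⁻¹ ∈ ((T : Sylow 2 Six.Alt6) : Subgroup Six.Alt6) := e ▸ ⟨a, hP ha, rfl⟩
    exact this
  obtain ⟨i, j, ev⟩ := hmem v (Or.inr (Or.inl rfl))
  obtain ⟨k, l, ew⟩ := hmem w (Or.inr (Or.inr (Or.inl rfl)))
  have h' := h.conj g
  rw [← ev, ← ew] at h'
  obtain ⟨n, h3, h1, hw⟩ := el2_pair i j k l h'.vv h'.ww h'.v_ne h'.w_ne h'.ne h'.comm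
  generalize ![Six.px, Six.px * Six.px, Six.px2, Six.px2 * Six.px2] n = R at h3 h1 hw
  rw [ev, ew] at h1 hw
  have e3 : (g⁻¹ * R * g) * v * (g⁻¹ * R * g)⁻¹ = w := by
    calc (g⁻¹ * R * g) * v * (g⁻¹ * R * g)⁻¹ = g⁻¹ * (R * (g * v * g⁻¹) * R⁻¹) * g := by group
      _ = w := by rw [h1]; group
  refine ⟨g⁻¹ * R * g, ?_, fun e => h.ne ?_, e3, ?_⟩
  · calc g⁻¹ * R * g * (g⁻¹ * R * g) * (g⁻¹ * R * g) = g⁻¹ * (R * R * R) * g := by group
      _ = 1 := by rw [h3]; group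
  · rw [← e3, e]; group
  · calc g⁻¹ * R * g * w * (g⁻¹ * R * g)⁻¹ = g⁻¹ * (R * (g * w * g⁻¹) * R⁻¹) * g := by group
      _ = v * w := by rw [hw]; group

set_option synthInstance.maxSize 1024 in
theorem coset_pu : ∀ p : Six.Alt6, NormP0 p ∨ ∃ i j, NormP0 ((Six.el i j * Six.pu)⁻¹ * p) := by
  decide +kernel

theorem exists_five : ∃ p : Six.Alt6, p ^ 5 = 1 ∧ p ≠ 1 :=
  ⟨⟨swap 0 1 * swap 1 2 * (swap 2 3 * swap 3 4), by rw [Perm.mem_alternatingGroup]; decide⟩,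
    by decide +kernel, by decide +kernel⟩

end Cfsg.Agent.McLThree.Strong
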