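import Cfsg.Agent.McLLoc.LocalAct
import Cfsg.Agent.McLThree.StrongSix

/-!
# Stabilisers of points of `J` in the alternating group

Every nontrivial element of `J` is either conjugate into `Z` or centralised by a four-group; the
second kind has stabiliser of order 12 and is not conjugate into `Z`.
-/

set_option autoImplicit false

namespace Cfsg.Agent.McLThree.Strong

open Subgroup
open Cfsg.Agent.McLLoc

variable {G : Type*} [Group G] [Finite G] {s : Setting G} (C : Chart s)

/-- The stabiliser of a point. -/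
noncomputable def St (a : s.J) : Subgroup Six.Alt6 where
  carrier := {p | C.ρ p a = a}
  one_mem' := by simp
  mul_mem' {p q} hp hq := by
    show C.ρ (p * q) a = a
    rw [← C.ρ_comp, hq, hp]
  inv_mem' {p} hp := by
    show C.ρ p⁻¹ a = a
    conv_lhs => rw [← show C.ρ p a = a from hp, C.ρ_comp, inv_mul_cancel, map_one]
    rfl

theorem mem_St {a : s.J} {p : Six.Alt6} : p ∈ St C a ↔ C.ρ p a = a := Iff.rfl

theorem mem_St_conj {a : s.J} {p g : Six.Alt6} :
    g * p * g⁻¹ ∈ St C (C.ρ g a) ↔ p ∈ St C a := by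
  simp only [mem_St, C.ρ_comp, inv_mul_cancel_right]
  rw [← C.ρ_comp g p]
  exact (C.ρ g).injective.eq_iff

/-- An element of order five fixes no nontrivial point. -/
theorem five_free {p : Six.Alt6} (h5 : p ^ 5 = 1) (h1 : p ≠ 1) {a : s.J} (ha : C.ρ p a = a) : a = 1 := by
  classical
  haveI : Fact (Nat.Prime 5) := ⟨Nat.prime_five⟩
  by_contra hne
  letI : MulAction (zpowers p) s.J := MulAction.compHom s.J (C.ρ.comp (zpowers p).subtype)
  have hp : IsPGroup 5 (zpowers p) := IsPGroup.of_card (n := 1)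
    (by rw [Nat.card_zpowers, orderOf_eq_prime h5 h1, pow_one])
  have hmod := hp.card_modEq_card_fixedPoints s.J
  let F : Subgroup s.J := MonoidHom.eqLocus (C.ρ p).toMonoidHom (MonoidHom.id s.J)
  have hfix : MulAction.fixedPoints (zpowers p) s.J = (F : Set s.J) := by
    ext x
    constructor
    · intro hx
      exact hx ⟨p, mem_zpowers p⟩
    · rintro hx ⟨q, hq⟩
      have : zpowers p ≤ St C x := zpowers_le.2 hx
      exact this hq
  have hF : Nat.card (MulAction.fixedPoints (zpowers p) s.J) = Nat.card F := by rw [hfix]; rfl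
  rw [hF, s.hJcard] at hmod
  have hd : Nat.card F ∣ 3 ^ 4 := s.hJcard ▸ card_subgroup_dvd_card F
  obtain ⟨k, hk4, hk⟩ := (Nat.dvd_prime_pow Nat.prime_three).1 hd
  rw [hk] at hmod
  have hk1 : k ≠ 0 := fun e => by
    rw [e, pow_zero, card_eq_one] at hk
    exact hne (Subgroup.mem_bot.1 (hk ▸ (show a ∈ F from ha)))
  have hk' : k = 4 := by
    rcases (show k = 1 ∨ k = 2 ∨ k = 3 ∨ k = 4 by omega) with rfl | rfl | rfl | rfl
    · exact absurd hmod (by decide)
    · exact absurd hmod (by decide)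
    · exact absurd hmod (by decide)
    · rfl
  have htop : F = ⊤ := eq_top_of_card_eq F (by rw [hk, hk', s.hJcard])
  refine h1 (C.ρ_injective ?_)
  rw [map_one]
  exact MulEquiv.ext fun x => (htop ▸ mem_top x : x ∈ F)

theorem not_five_dvd {a : s.J} (ha : a ≠ 1) : ¬ 5 ∣ Nat.card (St C a) := fun h => by
  haveI : Fact (Nat.Prime 5) := ⟨Nat.prime_five⟩
  obtain ⟨x, hx⟩ := exists_prime_orderOf_dvd_card' 5 h
  rw [← Subgroup.orderOf_coe] at hx
  exact ha (five_free C (hx ▸ pow_orderOf_eq_one (x : Six.Alt6))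
    (fun e => by rw [e, orderOf_one] at hx; norm_num at hx) x.2)

theorem mem_P0_preimage {g : s.M} (h : C.φ g ∈ Six.P0) : (g : G) ∈ (s.S : Subgroup G) := by
  rw [← C.mapS] at h
  obtain ⟨x, hx, e⟩ := h
  have : (x : G)⁻¹ * g ∈ s.J := C.φ_eq_one (m := x⁻¹ * g) |>.1 (by rw [map_mul, map_inv, e, inv_mul_cancel])
  have := mul_mem (show (x : G) ∈ (s.S : Subgroup G) from hx) (s.hJS this)
  rwa [mul_inv_cancel_left] at this

/-- A point fixed by the Sylow 3-subgroup lies in `Z`. -/
theorem mem_Z_of_fixed {a : s.J} (h : ∀ q ∈ Six.P0, C.ρ q a = a) : (a : G) ∈ s.Z := by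
  rw [s.hZ]
  refine ⟨s.hJS a.2, mem_centralizer_iff.2 fun g hg => ?_⟩
  have e := congrArg Subtype.val (h _ (C.φ_mem_P0 (m := ⟨g, s.S_le_M hg⟩) hg))
  rw [C.ρ_apply] at e
  exact mul_inv_eq_iff_eq_mul.1 e

theorem P0_le_St {a : s.J} (ha : (a : G) ∈ s.Z) : Six.P0 ≤ St C a := fun q hq => by
  obtain ⟨m, rfl⟩ := C.surj q
  refine Subtype.ext ?_
  rw [C.ρ_apply, ← (s.commute_Z ha (mem_P0_preimage C hq)).eq, mul_inv_cancel_right]

omit C in
/-- The centraliser of a point of `Z` in `N(J)` normalises `S`. -/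
theorem conj_mem_S {g : G} (hg : g ∈ normalizer (s.J : Set G)) {z : G} (hz : z ∈ s.Z) (hz1 : z ≠ 1)
    (hgz : g * z * g⁻¹ = z) {x : G} (hx : x ∈ (s.S : Subgroup G)) : g * x * g⁻¹ ∈ (s.S : Subgroup G) := by
  have hze : zpowers z = s.Z := eq_of_le_of_card_ge (zpowers_le.2 hz)
    (by rw [s.card_Z, Nat.card_zpowers, orderOf_eq_prime (s.hJexp z (s.Z_le_J hz)) hz1])
  have hgC : g ∈ centralizer (s.Z : Set G) := mem_centralizer_iff.2 fun y hy => by
    rw [← hze] at hy
    obtain ⟨i, rfl⟩ := mem_zpowers_iff.1 hy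
    exact ((Commute.zpow_right (show Commute g z from mul_inv_eq_iff_eq_mul.1 hgz) i).eq).symm
  obtain ⟨q, hq, j, hj, rfl⟩ := s.mem_S_iff hx
  rw [show g * (q * j) * g⁻¹ = (g * q * g⁻¹) * (g * j * g⁻¹) by group]
  exact mul_mem (s.Q_le_S ((mem_normalizer_iff.1 (s.normZ_le_normQ (s.cent_le_normZ hgC)) q).1 hq))
    (s.hJS ((mem_normalizer_iff.1 hg j).1 hj))

theorem normP0_of_mem_St {a : s.J} (ha : (a : G) ∈ s.Z) (ha1 : a ≠ 1) {p : Six.Alt6}
    (hp : p ∈ St C a) : NormP0 p := by
  refine normP0_of_conj fun q hq => ?_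
  obtain ⟨m, rfl⟩ := C.surj p
  obtain ⟨n, rfl⟩ := C.surj q
  rw [← map_inv, ← map_mul, ← map_mul]
  refine C.φ_mem_P0 ?_
  have e := congrArg Subtype.val hp
  rw [C.ρ_apply] at e
  exact conj_mem_S (s.M_le_normJ m.2) ha (fun e' => ha1 (Subtype.ext e')) e (mem_P0_preimage C hq)

/-- An element normalising `P0` maps `Z` to itself. -/
theorem normP0_Z {p : Six.Alt6} (hp : NormP0 p) {a : s.J} (ha : (a : G) ∈ s.Z) :
    ((C.ρ p a : s.J) : G) ∈ s.Z := by
  refine mem_Z_of_fixed C fun q hq => ?_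
  have : p⁻¹ * q * p ∈ Six.P0 := by
    have hmap : Six.P0.map (MulAut.conj p).toMonoidHom = Six.P0 := by
      refine eq_of_le_of_card_ge ?_ (card_map_of_injective (MulAut.conj p).injective).ge
      rintro _ ⟨x, hx, rfl⟩
      exact normP0_conj hp x hx
    rw [← hmap] at hq
    obtain ⟨x, hx, rfl⟩ := hq
    simpa [mul_assoc] using hx
  have e := P0_le_St C ha this
  rw [mem_St] at e
  conv_rhs => rw [← e]
  simp only [C.ρ_comp]
  rw [show p * (p⁻¹ * q * p) = q * p by group]

/-- A point centralised by a four-group. -/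
def IsFour (a : s.J) : Prop := a ≠ 1 ∧ ∃ v w, Pair v w ∧ v ∈ St C a ∧ w ∈ St C a

theorem IsFour.conj {a : s.J} (h : IsFour C a) (g : Six.Alt6) : IsFour C (C.ρ g a) := by
  obtain ⟨h1, v, w, hp, hv, hw⟩ := h
  exact ⟨fun e => h1 ((C.ρ g).injective (e.trans (map_one _).symm)), _, _, hp.conj g,
    (mem_St_conj C).2 hv, (mem_St_conj C).2 hw⟩

theorem exists_conj_P0 {a : s.J} (h : 9 ∣ Nat.card (St C a)) :
    ∃ g : Six.Alt6, ((C.ρ g a : s.J) : G) ∈ s.Z := by
  haveI : Fact (Nat.Prime 3) := ⟨Nat.prime_three⟩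
  obtain ⟨U, hU⟩ := Sylow.exists_subgroup_card_pow_prime (G := St C a) 3 (n := 2) h
  have hU' : Nat.card (U.map (St C a).subtype) = 9 := by
    rw [card_map_of_injective (St C a).subtype_injective, hU]; norm_num
  have h9 : (9 : ℕ) = 3 ^ (Nat.card Six.Alt6).factorization 3 := by
    rw [Six.card_alt6, Nat.factorization_def _ Nat.prime_three]
    have : padicValNat 3 360 = 2 := by
      rw [show (360 : ℕ) = 3 ^ 2 * 40 by norm_num, padicValNat.mul (by norm_num) (by norm_num),
        padicValNat.prime_pow, padicValNat.eq_zero_of_not_dvd (by norm_num)]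
    rw [this]; norm_num
  let P : Sylow 3 Six.Alt6 := Sylow.ofCard _ (hU'.trans h9)
  let R : Sylow 3 Six.Alt6 := Sylow.ofCard Six.P0 (Six.card_P0.trans h9)
  obtain ⟨g, hg⟩ := MulAction.exists_smul_eq Six.Alt6 P R
  refine ⟨g, mem_Z_of_fixed C fun q hq => ?_⟩
  have e := congrArg (fun T : Sylow 3 Six.Alt6 => (T : Subgroup Six.Alt6)) hg
  simp only [Sylow.coe_subgroup_smul] at e
  have hq' : q ∈ ((R : Sylow 3 Six.Alt6) : Subgroup Six.Alt6) := hq
  rw [← e] at hq'
  obtain ⟨x, ⟨y, -, hy⟩, rfl⟩ := hq'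
  exact (mem_St_conj C).2 (hy ▸ y.2 : x ∈ St C a)

theorem IsFour.not_nine {a : s.J} (h : IsFour C a) : ¬ 9 ∣ Nat.card (St C a) := fun h9 => by
  obtain ⟨g, hg⟩ := exists_conj_P0 C h9
  obtain ⟨h1, v, w, hp, hv, hw⟩ := h.conj C g
  exact not_both_normP0 hp ⟨normP0_of_mem_St C hg h1 hv, normP0_of_mem_St C hg h1 hw⟩

/-- A rotation of a four-group fixes its common fixed points. -/
theorem rot_fix {v w r : Six.Alt6} (hp : Pair v w) (hv : r * v * r⁻¹ = w) (hw : r * w * r⁻¹ = v * w)
    (hr : r * r * r = 1) {a : s.J} (hva : v ∈ St C a) (hwa : w ∈ St C a) : r ∈ St C a := by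
  classical
  set A := C.act hp.vv hp.ww hp.comm hv hw hr hp.v_ne
  have hc := (Four.card_parts A).1
  have ha : a ∈ Four.Fix A := ⟨hva, hwa⟩
  have hra : C.ρ r a ∈ Four.Fix A :=
    ⟨by rw [Four.v_r A, hwa, hva], by rw [Four.w_r A, hva]⟩
  by_contra hne
  rw [mem_St] at hne
  have ha1 : a ≠ 1 := fun e => hne (by rw [e, map_one])
  have hord : orderOf (⟨a, ha⟩ : Four.Fix A) = 3 :=
    orderOf_eq_prime (Subtype.ext (A.cube a)) fun e => ha1 (congrArg Subtype.val e)
  have htop : zpowers (⟨a, ha⟩ : Four.Fix A) = ⊤ :=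
    eq_top_of_card_eq _ (by rw [Nat.card_zpowers, hord, hc])
  obtain ⟨i, hi⟩ := mem_zpowers_iff.1 (htop ▸ mem_top (⟨_, hra⟩ : Four.Fix A))
  rw [← zpow_mod_orderOf, hord] at hi
  have hi' := congrArg Subtype.val hi
  rw [Subgroup.coe_zpow] at hi'
  rcases (show i % (3 : ℕ) = 0 ∨ i % (3 : ℕ) = 1 ∨ i % (3 : ℕ) = 2 by omega) with e | e | e <;>
    simp only [e, zpow_zero, zpow_one] at hi'
  · exact ha1 ((C.ρ r).injective (hi'.symm.trans (map_one _).symm))
  · exact hne hi'.symm
  · have hinv : C.ρ r a = a⁻¹ := by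
      rw [← hi', show (a : s.J) ^ (2 : ℤ) = a ^ 2 from zpow_natCast a 2]
      exact eq_inv_of_mul_eq_one_left (by rw [← pow_succ, A.cube])
    have h3 := A.rrr a
    rw [hinv, map_inv, hinv, inv_inv, hinv] at h3
    have h2 : a * a = 1 := by nth_rewrite 1 [← h3]; exact inv_mul_cancel a
    have := A.cube a
    rw [pow_succ, sq, h2, one_mul] at this
    exact ha1 this

theorem IsFour.not_eight {a : s.J} (h : IsFour C a) : ¬ 8 ∣ Nat.card (St C a) := fun h8 => by
  haveI : Fact (Nat.Prime 2) := ⟨Nat.prime_two⟩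
  obtain ⟨U, hU⟩ := Sylow.exists_subgroup_card_pow_prime (G := St C a) 2 (n := 3) h8
  have hU' : Nat.card (U.map (St C a).subtype) = 8 := by
    rw [card_map_of_injective (St C a).subtype_injective, hU]; norm_num
  have e8 : (8 : ℕ) = 2 ^ (Nat.card Six.Alt6).factorization 2 := by
    rw [Six.card_alt6, Nat.factorization_def _ Nat.prime_two]
    have : padicValNat 2 360 = 3 := by
      rw [show (360 : ℕ) = 2 ^ 3 * 45 by norm_num, padicValNat.mul (by norm_num) (by norm_num),
        padicValNat.prime_pow, padicValNat.eq_zero_of_not_dvd (by norm_num)]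
    rw [this]; norm_num
  let P : Sylow 2 Six.Alt6 := Sylow.ofCard _ (hU'.trans e8)
  let R : Sylow 2 Six.Alt6 := Sylow.ofCard Six.T8 (Six.card_T8.trans e8)
  obtain ⟨g, hg⟩ := MulAction.exists_smul_eq Six.Alt6 P R
  have hT : ∀ q ∈ Six.T8, q ∈ St C (C.ρ g a) := fun q hq => by
    have e := congrArg (fun T : Sylow 2 Six.Alt6 => (T : Subgroup Six.Alt6)) hg
    simp only [Sylow.coe_subgroup_smul] at e
    have hq' : q ∈ ((R : Sylow 2 Six.Alt6) : Subgroup Six.Alt6) := hq
    rw [← e] at hq'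
    obtain ⟨x, ⟨y, -, hy⟩, rfl⟩ := hq'
    exact (mem_St_conj C).2 (hy ▸ y.2 : x ∈ St C a)
  set b := C.ρ g a
  have hc : Six.pc ∈ St C b := hT _ ⟨1, 0, by decide +kernel⟩
  have hu : Six.pu ∈ St C b := hT _ ⟨0, 1, by decide +kernel⟩
  have ht : Six.pt ∈ St C b := Six.c_sq ▸ mul_mem hc hc
  have hx : Six.px ∈ St C b := rot_fix C pair_tu Six.xt Six.xu Six.x_cube ht hu
  have hx2 : Six.px2 ∈ St C b :=
    rot_fix C pair_tw Six.x2t Six.x2w Six.x2_cube ht (mul_mem hc hu)
  refine (h.conj C g).not_nine C ?_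
  rw [← Six.card_P0]
  refine card_dvd_of_le fun q hq => ?_
  obtain ⟨i, j, rfl⟩ := Six.mem_P0.1 hq
  refine mul_mem (pow_mem ?_ _) (pow_mem ?_ _)
  · rw [Six.a_word]
    exact mul_mem (mul_mem (mul_mem (mul_mem hx hx2) hx) hx) hu
  · rw [Six.b_word]
    exact mul_mem (mul_mem (mul_mem (mul_mem (mul_mem hc hu) hx) hx2) hu) hx

theorem IsFour.card_St {a : s.J} (h : IsFour C a) : Nat.card (St C a) = 12 := by
  classical
  obtain ⟨h1, v, w, hp, hv, hw⟩ := h
  obtain ⟨r, hr, hr1, rv, rw'⟩ := hp.exists_rot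
  have hrS : r ∈ St C a := rot_fix C hp rv rw' hr hv hw
  have h3 : 3 ∣ Nat.card (St C a) := by
    haveI : Fact (Nat.Prime 3) := ⟨Nat.prime_three⟩
    have := _root_.orderOf_dvd_natCard (⟨r, hrS⟩ : St C a)
    rwa [Subgroup.orderOf_mk, orderOf_eq_prime (p := 3) (by rw [pow_succ, sq, hr]) hr1] at this
  have h4 : 4 ∣ Nat.card (St C a) := by
    let V : Subgroup Six.Alt6 := closure {v, w}
    have hV : V ≤ St C a := (closure_le _).2 (by rintro x (rfl | rfl) <;> assumption)
    refine dvd_trans ?_ (card_dvd_of_le hV)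
    haveI : IsMulCommutative V := isMulCommutative_closure (by
      rintro x (rfl | rfl) y (rfl | rfl) <;> first | rfl | exact hp.comm | exact hp.comm.symm)
    haveI : Fact (Nat.Prime 2) := ⟨Nat.prime_two⟩
    have h2 : IsPGroup 2 V := by
      rintro ⟨g, hg⟩
      refine ⟨1, Subtype.ext ?_⟩
      show g ^ (2 ^ 1) = 1
      rw [pow_one]
      induction hg using closure_induction with
      | mem x hx => rcases hx with rfl | rfl <;> rw [sq] <;> [exact hp.vv; exact hp.ww]
      | one => simp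
      | mul x y hx hy ex ey =>
        rw [Commute.mul_pow (congrArg Subtype.val (mul_comm' (⟨x, hx⟩ : V) ⟨y, hy⟩) : Commute x y), ex, ey,
          one_mul]
      | inv x _ ex => rw [inv_pow, ex, inv_one]
    obtain ⟨k, hk⟩ := IsPGroup.iff_card.1 h2
    rcases (show k = 0 ∨ k = 1 ∨ 2 ≤ k by omega) with rfl | rfl | hk2
    · rw [pow_zero, card_eq_one] at hk
      exact absurd (mem_bot.1 (hk ▸ subset_closure (Set.mem_insert v {w}))) hp.v_ne
    · exfalso
      have hle : zpowers v ≤ V := zpowers_le.2 (subset_closure (Set.mem_insert v {w}))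
      have he := eq_of_le_of_card_ge hle (by
        rw [hk, Nat.card_zpowers, orderOf_eq_prime (by rw [sq]; exact hp.vv) hp.v_ne]; norm_num)
      have hwV : w ∈ zpowers v := he ▸ subset_closure (Set.mem_insert_of_mem v rfl)
      obtain ⟨i, hi⟩ := mem_zpowers_iff.1 hwV
      rw [← zpow_mod_orderOf, orderOf_eq_prime (by rw [sq]; exact hp.vv) hp.v_ne] at hi
      rcases (show i % (2 : ℕ) = 0 ∨ i % (2 : ℕ) = 1 by omega) with e | e <;>
        rw [e] at hi
      · exact hp.w_ne (by rw [← hi, zpow_zero])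
      · exact hp.ne (by rw [← hi, zpow_one])
    · rw [hk]; exact pow_dvd_pow 2 hk2
  have hd : Nat.card (St C a) ∣ 360 := Six.card_alt6 ▸ card_subgroup_dvd_card _
  have hle := Nat.le_of_dvd (by norm_num) hd
  have n9 := IsFour.not_nine C ⟨h1, v, w, hp, hv, hw⟩
  have n8 := IsFour.not_eight C ⟨h1, v, w, hp, hv, hw⟩
  have n5 := not_five_dvd C h1
  generalize Nat.card (St C a) = n at h3 h4 hd hle n9 n8 n5
  obtain ⟨m, rfl⟩ : 12 ∣ n := Nat.Coprime.mul_dvd_of_dvd_of_dvd (by norm_num : Nat.Coprime 3 4) h3 h4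
  have : m ≤ 30 := by omega
  interval_cases m <;> omega

/-- Every nontrivial point of `J` is conjugate into `Z` or centralised by a four-group. -/
theorem dichotomy {a : s.J} (ha : a ≠ 1) :
    (∃ g : Six.Alt6, ((C.ρ g a : s.J) : G) ∈ s.Z) ∨ IsFour C a := by
  classical
  by_cases h9 : 9 ∣ Nat.card (St C a)
  · exact Or.inl (exists_conj_P0 C h9)
  haveI := Fintype.ofFinite s.J
  have h5 : 5 ≤ Nat.card (St C a) := by
    have hinj : Function.Injective (fun q : Six.Alt6 ⧸ St C a =>
        (⟨C.ρ q.out a, fun e => ha ((C.ρ q.out).injective (e.trans (map_one _).symm))⟩ :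
          {b : s.J // b ≠ 1})) := by
      intro q q' e
      have e' := congrArg Subtype.val e
      rw [← q.out_eq', ← q'.out_eq', QuotientGroup.eq, mem_St, ← C.ρ_comp]
      dsimp only at e'
      rw [← e', C.ρ_comp, inv_mul_cancel, map_one]
      rfl
    have hle := Nat.card_le_card_of_injective _ hinj
    have hJ : Nat.card {b : s.J // b ≠ 1} = 80 := by
      rw [Nat.card_eq_fintype_card, Fintype.card_subtype_compl, Fintype.card_subtype_eq,
        ← Nat.card_eq_fintype_card, s.hJcard]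
      norm_num
    have hm := (St C a).card_mul_index
    rw [Six.card_alt6] at hm
    rw [hJ] at hle
    change (St C a).index ≤ 80 at hle
    nlinarith
  by_cases h3 : 3 ∣ Nat.card (St C a)
  · haveI : Fact (Nat.Prime 3) := ⟨Nat.prime_three⟩
    obtain ⟨x, hx⟩ := exists_prime_orderOf_dvd_card' 3 h3
    rw [← Subgroup.orderOf_coe] at hx
    have hP : IsPGroup 3 (zpowers (x : Six.Alt6)) :=
      IsPGroup.of_card (n := 1) (by rw [Nat.card_zpowers, hx, pow_one])
    have h9' : (9 : ℕ) = 3 ^ (Nat.card Six.Alt6).factorization 3 := by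
      rw [Six.card_alt6, Nat.factorization_def _ Nat.prime_three]
      have : padicValNat 3 360 = 2 := by
        rw [show (360 : ℕ) = 3 ^ 2 * 40 by norm_num, padicValNat.mul (by norm_num) (by norm_num),
          padicValNat.prime_pow, padicValNat.eq_zero_of_not_dvd (by norm_num)]
      rw [this]; norm_num
    obtain ⟨P, hPx⟩ := hP.exists_le_sylow
    let R : Sylow 3 Six.Alt6 := Sylow.ofCard Six.P0 (Six.card_P0.trans h9')
    obtain ⟨g, hg⟩ := MulAction.exists_smul_eq Six.Alt6 P R
    set r := g * (x : Six.Alt6) * g⁻¹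
    have hr : r ∈ Six.P0 := by
      have e := congrArg (fun T : Sylow 3 Six.Alt6 => (T : Subgroup Six.Alt6)) hg
      simp only [Sylow.coe_subgroup_smul] at e
      have : r ∈ ((R : Sylow 3 Six.Alt6) : Subgroup Six.Alt6) := e ▸ ⟨x, hPx (mem_zpowers _), rfl⟩
      exact this
    have hr1 : r ≠ 1 := fun e => by
      rw [conj_eq_one_iff.1 e, orderOf_one] at hx
      norm_num at hx
    set b := C.ρ g a
    have hrb : r ∈ St C b := (mem_St_conj C).2 x.2
    have hb9 : ¬ 9 ∣ Nat.card (St C b) := fun h => by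
      obtain ⟨g', hg'⟩ := exists_conj_P0 C h
      refine h9 ?_
      have : Nat.card (St C (C.ρ g' b)) = Nat.card (St C a) := by
        refine (Nat.card_congr ((MulAut.conj (g' * g)).toEquiv.subtypeEquiv fun p => ?_)).symm
        show p ∈ St C a ↔ g' * g * p * (g' * g)⁻¹ ∈ St C (C.ρ g' (C.ρ g a))
        rw [C.ρ_comp g' g, mem_St_conj C]
      rw [← this, ← Six.card_P0]
      exact card_dvd_of_le (P0_le_St C hg')
    have hbF : IsFour C b := by
      obtain ⟨v, w, hv2, hv1, hwv, hw2, hvw, hact⟩ := C.exists_four hr hr1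
      have hw1 : w ≠ 1 := fun e => by
        have := hact.rv
        obtain ⟨a0, ha0⟩ := hact.ne
        refine ha0 ((C.ρ r).injective ?_)
        rw [hact.rv, e, map_one]
        rfl
      have hp : Pair v w := ⟨hv2, hw2, hv1, hw1, hwv.symm, hvw⟩
      obtain ⟨y, hy⟩ : ∃ y : Four.Fix hact, y ≠ 1 := by
        have : 1 < Nat.card (Four.Fix hact) := by rw [(Four.card_parts hact).1]; norm_num
        have := Finite.one_lt_card_iff_nontrivial.1 this
        exact exists_ne 1
      have hy4 : IsFour C (y : s.J) := ⟨fun e => hy (Subtype.ext e), v, w, hp, y.2.1, y.2.2⟩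
      have hry : r ∈ St C (y : s.J) := by
        refine rot_fix C hp ?_ ?_ ?_ y.2.1 y.2.2
        · exact C.ρ_injective (MulEquiv.ext fun c => by
            rw [← C.ρ_comp, ← C.ρ_comp, hact.rv, C.ρ_comp r r⁻¹, mul_inv_cancel, map_one]; rfl)
        · exact C.ρ_injective (MulEquiv.ext fun c => by
            rw [← C.ρ_comp, ← C.ρ_comp, hact.rw', C.ρ_comp r r⁻¹, mul_inv_cancel, map_one, ← C.ρ_comp]; rfl)
        · obtain ⟨i, j, e⟩ := Six.mem_P0.1 hr
          rw [← e]; exact Six.el_cube i j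
      obtain ⟨p, hp0, hpy⟩ : ∃ p ∈ Six.P0, p ∉ St C (y : s.J) := by
        by_contra hall
        push Not at hall
        exact hy4.not_nine C (Six.card_P0 ▸ card_dvd_of_le hall)
      obtain ⟨z, hz⟩ : ∃ z : s.Z, z ≠ 1 := by
        have : 1 < Nat.card s.Z := by rw [s.card_Z]; norm_num
        have := Finite.one_lt_card_iff_nontrivial.1 this
        exact exists_ne 1
      let zJ : s.J := ⟨z, s.Z_le_J z.2⟩
      -- the fixed points of `r` are spanned by `z` and `y`
      let Fx : Subgroup s.J := MonoidHom.eqLocus (C.ρ r).toMonoidHom (MonoidHom.id s.J)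
      have hFx : Nat.card Fx ≤ 9 := Four.card_fixed_r hact
      letI : CommGroup s.J := { (inferInstance : Group s.J) with mul_comm := hact.comm }
      have hzy : ∀ i j : ℕ, zJ ^ i * (y : s.J) ^ j = 1 → i % 3 = 0 ∧ j % 3 = 0 := by
        intro i j e
        rw [pow_eq_pow_mod i (hact.cube _), pow_eq_pow_mod j (hact.cube _)] at e
        have hzZ : ∀ q ∈ Six.P0, C.ρ q zJ = zJ := fun q hq => P0_le_St C z.2 hq
        by_cases hj : j % 3 = 0
        · refine ⟨?_, hj⟩
          rw [hj, pow_zero, mul_one] at e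
          by_contra hi
          refine hz (Subtype.ext ?_)
          have h3 : orderOf zJ = 3 := orderOf_eq_prime (hact.cube _) fun e' =>
            hz (Subtype.ext (show (zJ : G) = ((1 : s.J) : G) from congrArg Subtype.val e'))
          have := Nat.le_of_dvd (Nat.pos_of_ne_zero hi) (orderOf_dvd_of_pow_eq_one e)
          omega
        · exfalso
          refine hpy ?_
          have hj2 : ((y : s.J) ^ (j % 3)) ^ (j % 3) = (y : s.J) := by
            rw [← pow_mul, pow_eq_pow_mod _ (hact.cube _)]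
            rcases (show j % 3 = 1 ∨ j % 3 = 2 by omega) with e' | e' <;> rw [e'] <;> simp
          rw [mem_St, ← hj2, map_pow, eq_inv_of_mul_eq_one_right e, map_inv, map_pow, hzZ p hp0]
      let gl : Fin 3 × Fin 3 → Fx := fun ij => ⟨zJ ^ (ij.1 : ℕ) * (y : s.J) ^ (ij.2 : ℕ), by
        show C.ρ r _ = _
        rw [map_mul, map_pow, map_pow, hry, P0_le_St C (a := zJ) z.2 hr]
        rfl⟩
      have hgl : Function.Injective gl := by
        rintro ⟨i, j⟩ ⟨k, l⟩ e
        have e' := congrArg Subtype.val e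
        have h0 : zJ ^ ((i : ℕ) + 2 * k) * (y : s.J) ^ ((j : ℕ) + 2 * l) = 1 := by
          simp only [gl] at e'
          rw [pow_add, pow_add, mul_mul_mul_comm, e', ← mul_mul_mul_comm, ← pow_add, ← pow_add,
            show (k : ℕ) + 2 * k = 3 * k by ring, show (l : ℕ) + 2 * l = 3 * l by ring, pow_mul, pow_mul,
            hact.cube, hact.cube, one_pow, one_pow, one_mul]
        obtain ⟨h1', h2'⟩ := hzy _ _ h0
        exact Prod.ext (Fin.ext (show (i : ℕ) = k by omega)) (Fin.ext (show (j : ℕ) = l by omega))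
      have hbij : Function.Bijective gl := by
        rw [Nat.bijective_iff_injective_and_card]
        refine ⟨hgl, le_antisymm (Nat.card_le_card_of_injective _ hgl) ?_⟩
        simpa using hFx
      obtain ⟨⟨i, j⟩, hij⟩ := hbij.2 ⟨b, hrb⟩
      have hb : zJ ^ (i : ℕ) * (y : s.J) ^ (j : ℕ) = b := congrArg Subtype.val hij
      have hb1 : b ≠ 1 := fun e => ha ((C.ρ g).injective (e.trans (map_one _).symm))
      have hj0 : (j : ℕ) ≠ 0 := fun e => by
        rw [e, pow_zero, mul_one] at hb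
        refine hb9 ?_
        rw [← Six.card_P0]
        refine card_dvd_of_le (P0_le_St C ?_)
        rw [← hb]
        exact pow_mem z.2 _
      -- the Sylow subgroup moves `y` along the coset of `Z`
      have hpy' : C.ρ p (y : s.J) ∈ Fx := by
        show C.ρ r _ = _
        rw [C.ρ_comp, show r * p = p * r by
          obtain ⟨i1, j1, e1⟩ := Six.mem_P0.1 hr
          obtain ⟨i2, j2, e2⟩ := Six.mem_P0.1 hp0
          rw [← e1, ← e2, Six.el_mul, Six.el_mul, add_comm i1, add_comm j1], ← C.ρ_comp, hry]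
        rfl
      obtain ⟨⟨k, l⟩, hkl⟩ := hbij.2 ⟨_, hpy'⟩
      have hy' : zJ ^ (k : ℕ) * (y : s.J) ^ (l : ℕ) = C.ρ p (y : s.J) := congrArg Subtype.val hkl
      have hpz : C.ρ p zJ = zJ := P0_le_St C z.2 hp0
      have hp3 : p * p * p = 1 := by
        obtain ⟨i2, j2, e2⟩ := Six.mem_P0.1 hp0
        rw [← e2]; exact Six.el_cube i2 j2
      have hl : (l : ℕ) = 1 := by
        by_contra hl1
        have h3 : C.ρ p (C.ρ p (C.ρ p (y : s.J))) = (y : s.J) := by
          rw [C.ρ_comp, C.ρ_comp, hp3, map_one]; rfl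
        rw [← hy'] at h3
        simp only [map_mul, map_pow, hpz, ← hy', mul_pow, ← pow_mul, ← mul_assoc, ← pow_add] at h3
        have h4 : zJ ^ ((k : ℕ) + k * l + k * (l * l)) * (y : s.J) ^ ((l : ℕ) * (l * l) + 2) = 1 := by
          rw [pow_add (y : s.J), ← mul_assoc]
          calc _ = (y : s.J) * (y : s.J) ^ 2 := congrArg (· * (y : s.J) ^ 2) (by
                  convert h3 using 3 <;> ring)
            _ = 1 := by rw [← pow_succ', hact.cube]
        have := (hzy _ _ h4).2
        rcases (show (l : ℕ) = 0 ∨ (l : ℕ) = 2 by omega) with e | e <;> rw [e] at this <;> simp at this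
      have hk0 : (k : ℕ) ≠ 0 := fun e => hpy (by
        rw [mem_St, ← hy', e, hl, pow_zero, one_mul, pow_one])
      have hall : ∀ n : ℕ, IsFour C (zJ ^ n * (y : s.J)) := by
        intro n
        have hn : ∀ n : ℕ, IsFour C (zJ ^ ((k : ℕ) * n) * (y : s.J)) := by
          intro n
          induction n with
          | zero => simpa using hy4
          | succ n ih =>
            have := ih.conj C p
            rwa [map_mul, map_pow, hpz, ← hy', hl, pow_one, ← mul_assoc, ← pow_add,
              ← Nat.mul_succ] at this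
        have := hn ((k : ℕ) * n)
        rwa [← mul_assoc, pow_eq_pow_mod _ (hact.cube zJ), Nat.mul_mod,
          show (k : ℕ) * k % 3 = 1 by
            rcases (show (k : ℕ) = 1 ∨ (k : ℕ) = 2 by omega) with e | e <;> rw [e],
          one_mul, Nat.mod_mod, ← pow_eq_pow_mod _ (hact.cube zJ)] at this
      rcases (show (j : ℕ) = 1 ∨ (j : ℕ) = 2 by omega) with e | e
      · rw [← hb, e, pow_one]; exact hall _
      · have hb' : b = (zJ ^ (2 * (i : ℕ)) * (y : s.J))⁻¹ := by
          rw [eq_inv_iff_mul_eq_one, ← hb, e, mul_mul_mul_comm, ← pow_add, ← pow_succ,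
            show (i : ℕ) + 2 * i = 3 * i by ring, pow_mul, hact.cube, hact.cube, one_pow, one_mul]
        obtain ⟨n1, v', w', hp', hv', hw'⟩ := hall (2 * (i : ℕ))
        refine ⟨hb1, v', w', hp', ?_, ?_⟩
        · rw [hb', mem_St, map_inv, show C.ρ v' _ = _ from hv']
        · rw [hb', mem_St, map_inv, show C.ρ w' _ = _ from hw']
    right
    have := hbF.conj C g⁻¹
    rwa [C.ρ_comp, inv_mul_cancel, map_one] at this
  · exfalso
    have h25 : ¬ 5 ∣ Nat.card (St C a) := not_five_dvd C ha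
    have hd : Nat.card (St C a) ∣ 360 := Six.card_alt6 ▸ card_subgroup_dvd_card _
    have h8 : Nat.card (St C a) ∣ 8 := by
      have c1 : (Nat.card (St C a)).Coprime 45 := by
        rw [show (45 : ℕ) = 3 ^ 2 * 5 by norm_num]
        exact Nat.Coprime.mul_right
          (Nat.Coprime.pow_right 2 (Nat.prime_three.coprime_iff_not_dvd.2 h3).symm)
          (Nat.prime_five.coprime_iff_not_dvd.2 h25).symm
      rw [show (360 : ℕ) = 8 * 45 by norm_num] at hd
      exact c1.dvd_of_dvd_mul_right hd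
    have h8' : Nat.card (St C a) = 8 := by
      have := Nat.le_of_dvd (by norm_num) h8
      generalize Nat.card (St C a) = n at h5 h8 this
      interval_cases n <;> norm_num at h8 <;> rfl
    refine IsFour.not_eight C ?_ (dvd_of_eq h8'.symm)
    haveI : Fact (Nat.Prime 2) := ⟨Nat.prime_two⟩
    have e8 : (8 : ℕ) = 2 ^ (Nat.card Six.Alt6).factorization 2 := by
      rw [Six.card_alt6, Nat.factorization_def _ Nat.prime_two]
      have : padicValNat 2 360 = 3 := by
        rw [show (360 : ℕ) = 2 ^ 3 * 45 by norm_num, padicValNat.mul (by norm_num) (by norm_num),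
          padicValNat.prime_pow, padicValNat.eq_zero_of_not_dvd (by norm_num)]
      rw [this]; norm_num
    let P : Sylow 2 Six.Alt6 := Sylow.ofCard _ (h8'.trans e8)
    let R : Sylow 2 Six.Alt6 := Sylow.ofCard Six.T8 (Six.card_T8.trans e8)
    obtain ⟨g, hg⟩ := MulAction.exists_smul_eq Six.Alt6 R P
    have e := congrArg (fun T : Sylow 2 Six.Alt6 => (T : Subgroup Six.Alt6)) hg
    simp only [Sylow.coe_subgroup_smul] at e
    have hmem : ∀ q ∈ Six.T8, g * q * g⁻¹ ∈ St C a := fun q hq => by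
      have : g * q * g⁻¹ ∈ ((P : Sylow 2 Six.Alt6) : Subgroup Six.Alt6) := e ▸ ⟨q, hq, rfl⟩
      exact this
    have ht : Six.pt ∈ Six.T8 := ⟨2, 0, by decide +kernel⟩
    have hu : Six.pu ∈ Six.T8 := ⟨0, 1, by decide +kernel⟩
    exact ⟨ha, _, _, pair_tu.conj g, hmem _ ht, hmem _ hu⟩

end Cfsg.Agent.McLThree.Strong
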